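import Mathlib
import Cfsg.Agent.H10.BaseThree.Scalars

/-!
# The field spanned by an abelian normal subgroup without blocks
-/

namespace Cfsg.Agent.H81.BaseTwo

open Cfsg.Agent.H10.BaseThree

universe u v

/-- A finite field of endomorphisms of odd order containing the image of `T`. -/
structure FieldData (G : Type u) (V : Type v) [Group G] [AddCommGroup V] [DistribMulAction G V]
    (T : Subgroup G) (K : Type v) [Field K] where
  /-- the action of the scalars -/
  op : K →+* AddMonoid.End V
  /-- the image of `T` -/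
  emb : T →* K
  emb_inj : Function.Injective emb
  op_emb : ∀ (t : T) (w : V), op (emb t) w = (t : G) • w
  op_zero : ∀ (k : K) (w : V), op k w = 0 → k = 0 ∨ w = 0
  op_comm : ∀ g : G, (∀ t ∈ T, g * t = t * g) → ∀ (k : K) (w : V), g • op k w = op k (g • w)
  op_conj : ∀ (g : G) (k : K), ∃ k' : K, ∀ w : V, g • op k w = op k' (g • w)
  odd_card : Nat.card K % 2 = 1

theorem exists_fieldData {G : Type u} {V : Type v} [Group G] [AddCommGroup V]
    [DistribMulAction G V] [Finite G] [Finite V] (hirr : Irred G V)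
    (hfaith : ∀ g : G, (∀ v : V, g • v = v) → g = 1)
    (hnb : ∀ e : AddMonoid.End V, ¬ IsBlock G e) {T : Subgroup G} [T.Normal]
    (hTc : ∀ a ∈ T, ∀ b ∈ T, a * b = b * a) {p : ℕ} (hp : p.Prime) (hp2 : p ≠ 2)
    (hpV : ∀ v : V, p • v = 0) :
    ∃ (K : Type v) (_ : Field K) (_ : Finite K), Nonempty (FieldData G V T K) := by
  classical
  have := hirr.1
  have := Fact.mk hp
  let K := scalars V T
  letI : CommRing K :=
    { (inferInstance : Ring K) with
      mul_comm := fun x y => Subtype.ext (scalars_comm hTc x.2 y.2) }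
  have : Nontrivial K := ⟨⟨0, 1, fun h => by
    obtain ⟨v, hv⟩ := exists_ne (0 : V)
    exact hv (DFunLike.congr_fun (congrArg Subtype.val h) v).symm⟩⟩
  have : NoZeroDivisors K := ⟨fun {x y} h => by
    by_contra hc
    push Not at hc
    refine hc.2 (Subtype.ext (AddMonoidHom.ext fun u => ?_))
    exact scalars_injective hirr hnb hTc x.2 (fun h0 => hc.1 (Subtype.ext h0))
      (DFunLike.congr_fun (congrArg Subtype.val h) u)⟩
  have : IsDomain K := NoZeroDivisors.to_isDomain K
  have : CharP K p := by
    refine (CharP.charP_iff_prime_eq_zero hp).2 (Subtype.ext (AddMonoidHom.ext fun v => ?_))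
    change ((p : K) : AddMonoid.End V) v = 0
    rw [show ((p : K) : AddMonoid.End V) = (p : AddMonoid.End V) from map_natCast K.subtype p,
      AddMonoid.End.natCast_apply, hpV]
  letI : Fintype K := Fintype.ofFinite K
  letI : Field K := Fintype.fieldOfDomain K
  refine ⟨K, inferInstance, inferInstance, ⟨
    { op := K.subtype
      emb := toScalar V T
      emb_inj := (injective_iff_map_eq_one (toScalar V T)).2 fun t ht => Subtype.ext <|
        hfaith t fun u => DFunLike.congr_fun (congrArg Subtype.val ht) u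
      op_emb := fun t w => rfl
      op_zero := fun k w h => ?_
      op_comm := fun g hg k w => ?_
      op_conj := fun g k => ⟨⟨cnj g (k : AddMonoid.End V), cnj_mem_scalars k.2 g⟩, fun w => by
        change g • (k : AddMonoid.End V) w = cnj g (k : AddMonoid.End V) (g • w)
        rw [cnj_apply, inv_smul_smul]⟩
      odd_card := ?_ }⟩⟩
  · by_cases hk : k = 0
    · exact Or.inl hk
    · exact Or.inr (scalars_injective hirr hnb hTc k.2 (fun h0 => hk (Subtype.ext h0)) h)
  · obtain ⟨x, hx⟩ := k
    change g • x w = x (g • w)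
    induction hx using Subring.closure_induction generalizing w with
    | mem x hx =>
      obtain ⟨t, ht, rfl⟩ := hx
      change g • t • w = t • g • w
      rw [smul_smul, smul_smul, hg t ht]
    | zero => exact smul_zero g
    | one => rfl
    | add a b _ _ ha hb =>
      change g • (a w + b w) = a (g • w) + b (g • w)
      rw [smul_add, ha, hb]
    | neg a _ ha =>
      change g • (- a w) = - a (g • w)
      rw [smul_neg, ha]
    | mul a b _ _ ha hb =>
      change g • a (b w) = a (b (g • w))
      rw [ha, hb]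
  · rw [Nat.card_eq_fintype_card]
    exact FiniteField.odd_card_of_char_ne_two (by rw [ringChar.eq K p]; exact hp2)

section Values

variable {K : Type*} [Field K] [Finite K]

/-- A half system: exactly one of `z`, `-z` for nonzero `z`. -/
theorem exists_half (h2 : (2 : K) ≠ 0) : ∃ s : K → Bool, ∀ z : K, z ≠ 0 → s (-z) = !s z := by
  classical
  let _ := Fintype.ofFinite K
  let e := Fintype.equivFin K
  refine ⟨fun z => decide (e z < e (-z)), fun z hz => ?_⟩
  have hne : e z ≠ e (-z) := fun h => hz (by
    have h' : z = -z := e.injective h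
    have h'' : (2 : K) * z = 0 := by rw [two_mul]; nth_rw 1 [h']; exact neg_add_cancel z
    exact (mul_eq_zero.1 h'').resolve_left h2)
  simp only [neg_neg, ← decide_not]
  apply decide_eq_decide.2
  constructor
  · intro h; exact lt_asymm h
  · intro h; exact lt_of_le_of_ne (not_lt.1 h) (Ne.symm hne)

/-- Three values inside every coset of the fourth powers. -/
theorem exists_three (h : 3 ≤ Nat.card (powMonoidHom 4 : Kˣ →* Kˣ).range) :
    ∃ χ : Kˣ → Fin 3, ∀ (z : Kˣ) (a : Fin 3), ∃ k : Kˣ, χ (k ^ 4 * z) = a := by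
  classical
  let H := (powMonoidHom 4 : Kˣ →* Kˣ).range
  let _ := Fintype.ofFinite H
  obtain ⟨w⟩ := Function.Embedding.nonempty_of_card_le (α := Fin 3) (β := H)
    (by rw [Fintype.card_fin, ← Nat.card_eq_fintype_card]; exact h)
  let r : Kˣ → Kˣ := fun z => (z : Kˣ ⧸ H).out
  refine ⟨fun z => if hz : ∃ a : Fin 3, ((w a : H) : Kˣ) = z * (r z)⁻¹ then hz.choose else 0,
    fun z a => ?_⟩
  have hr : r z * z⁻¹ ∈ H := by
    have := QuotientGroup.eq.1 (QuotientGroup.out_eq' (z : Kˣ ⧸ H))
    rw [mul_comm, ← H.inv_mem_iff, mul_inv_rev, inv_inv]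
    exact (mul_comm z _) ▸ this
  obtain ⟨k, hk⟩ := H.mul_mem (w a).2 hr
  refine ⟨k, ?_⟩
  have hk' : k ^ 4 * z = (w a : Kˣ) * r z := by
    rw [show k ^ 4 = powMonoidHom 4 k from rfl, hk, mul_assoc, inv_mul_cancel_right]
  have hcos : r (k ^ 4 * z) = r z := by
    simp only [r]
    congr 1
    rw [QuotientGroup.eq, show (k ^ 4 * z)⁻¹ * z = (k ^ 4)⁻¹ by
      rw [mul_inv_rev, mul_comm, ← mul_assoc, mul_inv_cancel, one_mul]]
    exact H.inv_mem ⟨k, rfl⟩
  have hval : ((w a : H) : Kˣ) = k ^ 4 * z * (r (k ^ 4 * z))⁻¹ := by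
    rw [hcos, hk', mul_inv_cancel_right]
  have hex : ∃ b : Fin 3, ((w b : H) : Kˣ) = k ^ 4 * z * (r (k ^ 4 * z))⁻¹ := ⟨a, hval⟩
  simp only [dif_pos hex]
  exact w.injective (Subtype.ext (hex.choose_spec.trans hval.symm))

end Values

end Cfsg.Agent.H81.BaseTwo
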