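import Mathlib

/-!
# Certificates for a block of rank two over the fields with five and nine elements

Vectors are functions on `Bool × Bool`; `pact k a c` multiplies by `k`, shifts by `c` and signs by
`a`.  A certificate names vectors `v`, four representatives `u` of different free orbits and a
scalar `lam` such that `v` and `l₁ v + lam • (l₂ v)` only admit the trivial symmetry.
-/

namespace Cfsg.Agent.H81.BaseTwo.Pauli

/-- Index set of the four coordinates. -/
abbrev D : Type := Bool × Bool

/-- Addition of indices. -/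
def dadd (d e : D) : D := (xor d.1 e.1, xor d.2 e.2)

theorem dadd_comm (d e : D) : dadd d e = dadd e d := by
  revert d e; decide

theorem dadd_assoc (d e f : D) : dadd (dadd d e) f = dadd d (dadd e f) := by
  revert d e f; decide

theorem dadd_self (d : D) : dadd d d = (false, false) := by
  revert d; decide

theorem dadd_zero (d : D) : dadd d (false, false) = d := by
  revert d; decide

variable {R : Type*} [CommRing R]

/-- The sign of a pair of indices. -/
def sgn (a d : D) : R := if xor (a.1 && d.1) (a.2 && d.2) then -1 else 1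

theorem sgn_mul_self (a d : D) : (sgn a d : R) * sgn a d = 1 := by
  unfold sgn; split_ifs <;> simp

theorem sgn_dadd (a d e : D) : (sgn a (dadd d e) : R) = sgn a d * sgn a e := by
  rcases a with ⟨_ | _, _ | _⟩ <;> rcases d with ⟨_ | _, _ | _⟩ <;>
    rcases e with ⟨_ | _, _ | _⟩ <;> simp [sgn, dadd]

theorem sgn_zero (d : D) : (sgn (false, false) d : R) = 1 := by
  simp [sgn]

/-- The action of an element of the block on coordinates. -/
def pact (k : R) (a c : D) (z : D → R) : D → R := fun d => k * sgn a d * z (dadd d c)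

theorem pact_one (z : D → R) : pact 1 (false, false) (false, false) z = z := by
  funext d
  simp [pact, sgn_zero, dadd_zero]

theorem map_sgn {S : Type*} [CommRing S] (f : R →+* S) (a d : D) : f (sgn a d) = sgn a d := by
  unfold sgn; split_ifs <;> simp

theorem map_pact {S : Type*} [CommRing S] (f : R →+* S) (k : R) (a c : D) (z : D → R) :
    f ∘ pact k a c z = pact (f k) a c (f ∘ z) := by
  funext d
  simp [pact, map_sgn]

/-- A certificate for a rank two block. -/
structure Cert (R : Type*) [CommRing R] where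
  /-- the first vector -/
  v : D → R
  /-- representatives of four orbits -/
  u : Fin 4 → D → R
  /-- the coefficient in the second vector -/
  lam : R
  /-- the quadratic relation of `lam` -/
  c1 : ℕ
  /-- the quadratic relation of `lam` -/
  c0 : ℕ
  v_ne : ∀ d, v d ≠ 0
  lam_ne : lam ≠ 0
  lam_eq : lam * lam = c1 * lam + c0
  gen : ∀ r : R, ∃ m n : ℕ, r = m + n * lam
  free_v : ∀ k a c, pact k a c v = v → a = (false, false) ∧ c = (false, false) ∧ k = 1
  free_u : ∀ i k a c, pact k a c (u i) = u i → a = (false, false) ∧ c = (false, false) ∧ k = 1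
  dist : ∀ i j k a c, pact k a c (u i) = u j → i = j
  uniq : ∀ μ : R, μ ≠ 0 → μ * μ = c1 * μ + c0 →
    ∀ (k : R) (a c : D), k * k * sgn a c = 1 → (a, c) ≠ ((false, false), (false, false)) →
    ∀ (k' : R) (a' c' : D), k' * k' * sgn a' c' = 1 → (a', c') ≠ ((false, false), (false, false)) →
    (sgn a c' : R) * sgn a' c = 1 →
    (∀ d, pact k a c v d + μ * pact k' a' c' v d =
      pact 1 (true, false) (false, false) v d + lam * pact 1 (false, true) (false, false) v d) →
    μ = lam ∧ k = 1 ∧ a = (true, false) ∧ c = (false, false) ∧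
      k' = 1 ∧ a' = (false, true) ∧ c' = (false, false)

theorem eq_of_map {R S : Type*} [CommRing R] [CommRing S] (e : R ≃+* S) {k : S} {a c : D}
    {z z' : D → R} (h : pact k a c ((e : R →+* S) ∘ z) = (e : R →+* S) ∘ z') :
    pact (e.symm k) a c z = z' := by
  funext d
  have h' := congrArg e.symm (congrFun h d)
  have hs : e.symm (sgn a d) = sgn a d := map_sgn (e.symm : S →+* R) a d
  simpa [pact, hs] using h'

/-- Transport of a certificate along an isomorphism. -/
def Cert.map {R S : Type*} [CommRing R] [CommRing S] (C : Cert R) (e : R ≃+* S) : Cert S where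
  v := (e : R →+* S) ∘ C.v
  u := fun i => (e : R →+* S) ∘ C.u i
  lam := e C.lam
  c1 := C.c1
  c0 := C.c0
  v_ne := fun d h => C.v_ne d (by simpa using h)
  lam_ne := fun h => C.lam_ne (by simpa using h)
  lam_eq := by rw [← map_mul, C.lam_eq, map_add, map_mul, map_natCast, map_natCast]
  gen := fun r => by
    obtain ⟨m, n, h⟩ := C.gen (e.symm r)
    exact ⟨m, n, by rw [← e.apply_symm_apply r, h, map_add, map_mul, map_natCast, map_natCast]⟩
  free_v := fun k a c h => by
    obtain ⟨ha, hc, hk⟩ := C.free_v _ a c (eq_of_map e h)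
    exact ⟨ha, hc, by rw [← e.apply_symm_apply k, hk, map_one]⟩
  free_u := fun i k a c h => by
    obtain ⟨ha, hc, hk⟩ := C.free_u i _ a c (eq_of_map e h)
    exact ⟨ha, hc, by rw [← e.apply_symm_apply k, hk, map_one]⟩
  dist := fun i j k a c h => C.dist i j _ a c (eq_of_map e h)
  uniq := fun μ hμ0 hμ k a c hk hne k' a' c' hk' hne' hcomm heq => by
    let f : S →+* R := e.symm
    have hf : ∀ r, f (e r) = r := e.symm_apply_apply
    have hfc : f ∘ ((e : R →+* S) ∘ C.v) = C.v := funext fun d => hf _
    have key : ∀ (q : S) (x y : D) (d : D),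
        f (pact q x y ((e : R →+* S) ∘ C.v) d) = pact (f q) x y C.v d := fun q x y d => by
      have := congrFun (map_pact f q x y ((e : R →+* S) ∘ C.v)) d
      rwa [hfc] at this
    obtain ⟨h1, h2, h3, h4, h5, h6, h7⟩ := C.uniq (f μ)
      (fun h => hμ0 (e.symm.injective (h.trans (map_zero e.symm).symm)))
      (by simpa using congrArg f hμ) (f k) a c (by simpa [map_sgn f] using congrArg f hk) hne
      (f k') a' c' (by simpa [map_sgn f] using congrArg f hk') hne'
      (by simpa [map_sgn f] using congrArg f hcomm)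
      (fun d => by
        have := congrArg f (heq d)
        simpa only [map_add, map_mul, map_one, key, hf] using this)
    refine ⟨?_, ?_, h3, h4, ?_, h6, h7⟩
    · rw [← h1]; exact (e.apply_symm_apply μ).symm
    · rw [← e.apply_symm_apply k]; exact (congrArg e h2).trans (map_one e)
    · rw [← e.apply_symm_apply k']; exact (congrArg e h5).trans (map_one e)

theorem sgn_sum {S : Type*} [CommRing S] (d d' : D) :
    ∑ a : D, (sgn a d : S) * sgn a d' = if d = d' then 4 else 0 := by
  rcases d with ⟨_ | _, _ | _⟩ <;> rcases d' with ⟨_ | _, _ | _⟩ <;>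
    simp [sgn, Fintype.sum_prod_type] <;> norm_num

theorem eq_combination {K : Type*} [Field K] {v : D → K} (hv : ∀ d, v d ≠ 0) (h4 : (4 : K) ≠ 0)
    (z : D → K) (d' : D) :
    z d' = ∑ a : D, (∑ d : D, z d / (4 * v d) * sgn a d) * pact 1 a (false, false) v d' := by
  simp only [pact, one_mul, dadd_zero, Finset.sum_mul]
  rw [Finset.sum_comm]
  have h : ∀ d : D, ∑ a : D, z d / (4 * v d) * sgn a d * (sgn a d' * v d') =
      z d / (4 * v d) * (if d = d' then 4 else 0) * v d' := fun d => by
    rw [← sgn_sum, Finset.mul_sum, Finset.sum_mul]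
    exact Finset.sum_congr rfl fun a _ => by ring
  simp only [h, mul_ite, mul_zero, ite_mul, zero_mul, Finset.sum_ite_eq', Finset.mem_univ, if_true]
  have := hv d'
  field_simp

/-- Four coordinates as a function on the index set. -/
def mkVec {α : Type*} (x y z w : α) : D → α := fun d =>
  if d.2 then (if d.1 then w else z) else (if d.1 then y else x)

set_option synthInstance.maxSize 4096 in
set_option synthInstance.maxHeartbeats 400000 in
set_option maxHeartbeats 1000000 in
set_option maxRecDepth 10000 in
/-- The certificate over the field with five elements. -/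
def cert5 : Cert (ZMod 5) where
  v := mkVec 1 3 2 3
  u := ![mkVec 1 0 1 1, mkVec 1 0 2 1, mkVec 1 0 1 2, mkVec 2 0 1 1]
  lam := 2
  c1 := 2
  c0 := 0
  v_ne := by decide +kernel
  lam_ne := by decide
  lam_eq := by decide
  gen := fun r => ⟨r.val, 0, by simp⟩
  free_v := by decide +kernel
  free_u := by decide +kernel
  dist := by decide +kernel
  uniq := by decide +kernel

/-- The field with nine elements. -/
abbrev R9 : Type := QuadraticAlgebra (ZMod 3) 2 0

instance : Fintype R9 := Fintype.ofEquiv _ (QuadraticAlgebra.equivProd (2 : ZMod 3) 0).symm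

set_option synthInstance.maxSize 4096 in
set_option synthInstance.maxHeartbeats 400000 in
set_option maxHeartbeats 1000000 in
set_option maxRecDepth 10000 in
/-- The certificate over the field with nine elements. -/
def cert9 : Cert R9 where
  v := mkVec ⟨2, 2⟩ ⟨2, 2⟩ ⟨0, 2⟩ ⟨1, 1⟩
  u := ![mkVec ⟨1, 0⟩ ⟨1, 0⟩ ⟨0, 0⟩ ⟨1, 0⟩, mkVec ⟨0, 0⟩ ⟨1, 0⟩ ⟨1, 0⟩ ⟨0, 1⟩,
    mkVec ⟨0, 0⟩ ⟨1, 0⟩ ⟨1, 0⟩ ⟨1, 1⟩, mkVec ⟨0, 0⟩ ⟨1, 0⟩ ⟨1, 0⟩ ⟨2, 1⟩]
  lam := ⟨1, 1⟩
  c1 := 2
  c0 := 1
  v_ne := by decide +kernel
  lam_ne := by decide +kernel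
  lam_eq := by decide +kernel
  gen := fun r => by
    have h : ∀ r : R9, ∃ m n : Fin 3, r = (m : ℕ) + (n : ℕ) * (⟨1, 1⟩ : R9) := by decide +kernel
    obtain ⟨m, n, hr⟩ := h r
    exact ⟨m, n, hr⟩
  free_v := by decide +kernel
  free_u := by decide +kernel
  dist := by decide +kernel
  uniq := by decide +kernel

end Cfsg.Agent.H81.BaseTwo.Pauli
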