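import Mathlib
import Cfsg.Agent.H10.BaseTwo.OddPrimitive
import Cfsg.Agent.H81.BaseTwo.Field
import Cfsg.Agent.H81.BaseTwo.Pauli

/-!
# A regular pair from a split block of rank two and a certificate

`L₀` has index four in `L`; the centraliser of `L₀` acts on the four-dimensional space `W₀`
spanned by the translates of the fixed vector of `L` under two commuting involutions `b`.
-/

namespace Cfsg.Agent.H81.BaseTwo

open scoped commutatorElement
open Cfsg.Agent.H10.BaseThree Pauli

universe u v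

/-- The product of the selected members of a pair. -/
def ppow {G : Type*} [Group G] (f : Bool → G) (a : D) : G :=
  (if a.1 then f false else 1) * (if a.2 then f true else 1)

/-- A split block of rank two. -/
structure Block (G : Type u) (V : Type v) [Group G] [AddCommGroup V] [DistribMulAction G V]
    (T B L L₀ : Subgroup G) (l b : Bool → G) : Prop where
  le : L₀ ≤ L
  l_mem : ∀ e, l e ∈ L
  b_mem : ∀ e, b e ∈ B
  l_sq : ∀ e, l e * l e = 1
  b_sq : ∀ e, b e * b e = 1
  b_comm : b false * b true = b true * b false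
  l₀_comm : ∀ x ∈ L₀, ∀ e, x * b e = b e * x
  pair : ∀ (e e' : Bool) (z : V),
    l e • b e' • z = if e = e' then -(b e' • l e • z) else b e' • l e • z
  decomp : ∀ x ∈ cent B L₀, ∃ (a c : D), ∃ t ∈ T, ∃ y ∈ L₀, x = t * y * ppow l a * ppow b c

theorem regular2_block {G : Type u} {V : Type v} [Group G] [AddCommGroup V]
    [DistribMulAction G V] [Finite G] [Finite V] {T B L L₀ : Subgroup G} {ζ : G} {v₀ : V}
    (hLay : Cfsg.Agent.H10.BaseTwo.Layer G V T B L ζ v₀) {K : Type v} [Field K] [Finite K]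
    (FD : FieldData G V T K) (hfull : ∀ k : K, k ≠ 0 → ∃ t : T, FD.emb t = k)
    (h2 : (2 : K) ≠ 0) {l b : Bool → G} (hblk : Block G V T B L L₀ l b) (C : Cert K) :
    ∃ t : V × V, Cfsg.Agent.H10.BaseTwo.Regular2 G t := by
  classical
  have F := hLay.frame
  have hBn := hLay.bnormal
  have hTn := F.tnormal
  have hBT : ∀ x ∈ B, ∀ t ∈ T, x * t = t * x := fun x hx t ht => (F.central t ht x hx).symm
  have hopc : ∀ x ∈ B, ∀ (k : K) (z : V), x • FD.op k z = FD.op k (x • z) := fun x hx =>
    FD.op_comm x (hBT x hx)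
  have hop0 : ∀ x : V, FD.op 0 x = 0 := fun x => by rw [map_zero]; rfl
  have hop1 : ∀ x : V, FD.op 1 x = x := fun x => by rw [map_one]; rfl
  have hopmul : ∀ (a b : K) (x : V), FD.op (a * b) x = FD.op a (FD.op b x) := fun a b x => by
    rw [map_mul]; rfl
  have hopadd : ∀ (a b : K) (x : V), FD.op (a + b) x = FD.op a x + FD.op b x := fun a b x => by
    rw [map_add]; rfl
  have hopneg : ∀ (x : V), FD.op (-1) x = -x := fun x => by rw [map_neg, map_one]; rfl
  have hopinj : ∀ (a b : K) (z : V), z ≠ 0 → FD.op a z = FD.op b z → a = b := fun a b z hz h => by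
    refine sub_eq_zero.1 ((FD.op_zero (a - b) z ?_).resolve_right hz)
    rw [map_sub]
    exact sub_eq_zero.2 h
  have h4 : (4 : K) ≠ 0 := by
    rw [show (4 : K) = 2 * 2 by norm_num]; exact mul_ne_zero h2 h2
  have hlB : ∀ e, l e ∈ B := fun e => F.lle (hblk.l_mem e)
  have hlpB : ∀ a, ppow l a ∈ B := fun a => by
    unfold ppow; exact mul_mem (by split_ifs; exacts [hlB _, one_mem B])
      (by split_ifs; exacts [hlB _, one_mem B])
  have hlpL : ∀ a, ppow l a ∈ L := fun a => by
    unfold ppow; exact mul_mem (by split_ifs; exacts [hblk.l_mem _, one_mem L])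
      (by split_ifs; exacts [hblk.l_mem _, one_mem L])
  have hbpB : ∀ a, ppow b a ∈ B := fun a => by
    unfold ppow; exact mul_mem (by split_ifs; exacts [hblk.b_mem _, one_mem B])
      (by split_ifs; exacts [hblk.b_mem _, one_mem B])
  have hl₀b : ∀ x ∈ L₀, ∀ d, x * ppow b d = ppow b d * x := fun x hx d => by
    have h : ∀ e, Commute x (b e) := fun e => hblk.l₀_comm x hx e
    unfold ppow
    exact (Commute.mul_right (by split_ifs; exacts [h _, Commute.one_right x])
      (by split_ifs; exacts [h _, Commute.one_right x])).eq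
  have hbb : ∀ c d, ppow b c * ppow b d = ppow b (dadd c d) := by
    have hf : ∀ x, b false * (b false * x) = x := fun x => by
      rw [← mul_assoc, hblk.b_sq, one_mul]
    have ht : ∀ x, b true * (b true * x) = x := fun x => by
      rw [← mul_assoc, hblk.b_sq, one_mul]
    have hc : ∀ x, b true * (b false * x) = b false * (b true * x) := fun x => by
      rw [← mul_assoc, ← hblk.b_comm, mul_assoc]
    rintro ⟨_ | _, _ | _⟩ ⟨_ | _, _ | _⟩ <;>
      simp [ppow, dadd, hblk.b_sq, hf, ht, hc, hblk.b_comm.symm, mul_assoc]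
  have hlb : ∀ (a d : D) (z : V),
      ppow l a • ppow b d • z = FD.op (sgn a d) (ppow b d • ppow l a • z) := by
    rintro ⟨_ | _, _ | _⟩ ⟨_ | _, _ | _⟩ z <;>
      simp [ppow, sgn, mul_smul, hblk.pair, smul_neg, hop1, hopneg, -map_neg, -map_one]
  -- the coordinates
  let e : D → V := fun d => ppow b d • v₀
  let vec : (D → K) → V := fun z => ∑ d, FD.op (z d) (e d)
  have hfixe : ∀ x ∈ L₀, ∀ d, x • e d = e d := fun x hx d => by
    simp only [e]
    rw [smul_smul, hl₀b x hx, mul_smul, hLay.vfix x (hblk.le hx)]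
  have hfixvec : ∀ x ∈ L₀, ∀ z, x • vec z = vec z := fun x hx z => by
    simp only [vec, Finset.smul_sum, hopc x (F.lle (hblk.le hx)), hfixe x hx]
  have hact : ∀ (t : T) (y : G), y ∈ L₀ → ∀ a c z,
      ((t : G) * y * ppow l a * ppow b c) • vec z = vec (pact (FD.emb t) a c z) := by
    intro t y hy a c z
    let σ : D ≃ D := ⟨dadd c, dadd c, fun d => by
      rw [← dadd_assoc, dadd_self, dadd_comm, dadd_zero], fun d => by
      rw [← dadd_assoc, dadd_self, dadd_comm, dadd_zero]⟩
    have hxB : (t : G) * y * ppow l a * ppow b c ∈ B :=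
      mul_mem (mul_mem (mul_mem (F.tle t.2) (F.lle (hblk.le hy))) (hlpB a)) (hbpB c)
    simp only [vec, Finset.smul_sum, hopc _ hxB]
    refine Fintype.sum_equiv σ _ _ fun d => ?_
    change FD.op (z d) _ = FD.op (pact (FD.emb t) a c z (dadd c d)) (e (dadd c d))
    have hd : dadd (dadd c d) c = d := by
      rw [dadd_comm c d, dadd_assoc, dadd_self, dadd_zero]
    rw [mul_smul, mul_smul, mul_smul]
    simp only [e]
    rw [smul_smul (ppow b c), hbb, hlb, hLay.vfix _ (hlpL a), hopc y (F.lle (hblk.le hy)),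
      ← mul_smul y, hl₀b y hy, mul_smul, hLay.vfix y (hblk.le hy), ← FD.op_emb, ← hopmul, ← hopmul,
      pact, hd]
    congr 2
    ring
  have hneg1 : (-1 : K) ≠ 1 := fun h => h2 (by linear_combination -h)
  have hvadd : ∀ z z', vec z + vec z' = vec (fun d => z d + z' d) := fun z z' => by
    simp only [vec, hopadd, Finset.sum_add_distrib]
  have hvop : ∀ k z, FD.op k (vec z) = vec (fun d => k * z d) := fun k z => by
    simp only [vec, map_sum, hopmul]
  have hvsum : ∀ (f : D → D → K), vec (fun d => ∑ a, f a d) = ∑ a, vec (f a) := fun f => by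
    simp only [vec]
    rw [Finset.sum_comm]
    refine Finset.sum_congr rfl fun d _ => ?_
    rw [map_sum]
    exact AddMonoidHom.finsetSum_apply _ _ _
  let lact : D → (D → K) → (D → K) := fun a => pact 1 a (false, false)
  have hlact : ∀ a z, ppow l a • vec z = vec (lact a z) := fun a z => by
    have h := hact 1 1 (one_mem _) a (false, false) z
    simpa [ppow, lact] using h
  haveI := F.cent_normal
  let N₀ := (cent B L₀).subgroupOf B
  have hTC₀ : T ≤ cent B L₀ := fun t ht => mem_cent.2
    ⟨F.tle ht, fun x hx => (F.central t ht x (F.lle (hblk.le hx))).symm⟩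
  have hCle : cent B L ≤ cent B L₀ := fun x hx => mem_cent.2
    ⟨(mem_cent.1 hx).1, fun y hy => (mem_cent.1 hx).2 y (hblk.le hy)⟩
  have hbpC : ∀ d, ppow b d ∈ cent B L₀ := fun d =>
    mem_cent.2 ⟨hbpB d, fun x hx => hl₀b x hx d⟩
  haveI hN₀n : N₀.Normal := by
    refine ⟨fun x hx y => ?_⟩
    rw [Subgroup.mem_subgroupOf] at hx ⊢
    have h := mul_mem (hTC₀ (F.comm (y : G) y.2 (x : G) x.2)) hx
    rwa [commutatorElement_def, inv_mul_cancel_right] at h
  letI : CommGroup (B ⧸ N₀) :=
    { (inferInstance : Group (B ⧸ N₀)) with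
      mul_comm := fun x y => by
        induction x using QuotientGroup.induction_on with
        | _ a =>
          induction y using QuotientGroup.induction_on with
          | _ b =>
            refine commutatorElement_eq_one_iff_mul_comm.1
              ((map_commutatorElement (QuotientGroup.mk' N₀) a b).symm.trans
                ((QuotientGroup.eq_one_iff _).2 ?_))
            exact hTC₀ (F.comm (a : G) a.2 (b : G) b.2) }
  letI := Fintype.ofFinite (B ⧸ N₀)
  let rep : B ⧸ N₀ → B := fun q => if q = 1 then 1 else q.out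
  have hrep : ∀ q, (rep q : B ⧸ N₀) = q := fun q => by
    by_cases h : q = 1
    · simp [rep, h]
    · simp [rep, h]
  have hrep1 : rep 1 = 1 := if_pos rfl
  have hlc : ∀ x ∈ cent B L, ∀ a, ppow l a * x = x * ppow l a := fun x hx a =>
    (mem_cent.1 hx).2 _ (hlpL a)
  have hsep : ∀ d : D, ppow b d ∈ cent B L → d = (false, false) := by
    intro d hd
    have h : ∀ a, (sgn a d : K) = 1 := fun a => by
      refine hopinj _ 1 (e d) (fun h => hLay.vne ((smul_eq_zero_iff_eq _).1 h)) ?_
      have h1 := hlb a d v₀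
      rw [smul_smul, hlc _ hd, mul_smul, hLay.vfix _ (hlpL a)] at h1
      rw [hop1]; exact h1.symm
    have h10 := h (true, false)
    have h01 := h (false, true)
    rcases d with ⟨_ | _, _ | _⟩ <;> simp_all [sgn]
  let r : (B ⧸ N₀) × D → B := fun qd => rep qd.1 * ⟨ppow b qd.2, hbpB _⟩
  have hrinj : ∀ x y, x ≠ y → ((r x)⁻¹ * r y : B) ∉ (cent B L).subgroupOf B := by
    rintro ⟨q, d⟩ ⟨q', d'⟩ hne hmem
    rw [Subgroup.mem_subgroupOf] at hmem
    have hq : q = q' := by
      rw [← hrep q, ← hrep q', QuotientGroup.eq, Subgroup.mem_subgroupOf]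
      have := mul_mem (mul_mem (hbpC d) (hCle hmem)) (inv_mem (hbpC d'))
      simpa [r, mul_assoc] using this
    subst hq
    refine hne (Prod.ext rfl ?_)
    have h : ppow b (dadd d d') ∈ cent B L := by
      rw [← hbb]
      have hinv : ppow b d = (ppow b d)⁻¹ := eq_inv_of_mul_eq_one_left (by
        rw [hbb, dadd_self]; simp [ppow])
      rw [hinv]
      simpa [r, mul_assoc] using hmem
    have h' := hsep _ h
    calc d = dadd d (dadd d d') := by rw [h', dadd_zero]
      _ = d' := by rw [← dadd_assoc, dadd_self, dadd_comm, dadd_zero]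
  have huniq : ∀ z z' : B ⧸ N₀ → D → K,
      ∑ q, (rep q : G) • vec (z q) = ∑ q, (rep q : G) • vec (z' q) → z = z' := by
    intro z z' h
    have hexp : ∀ y : B ⧸ N₀ → D → K, ∑ q, (rep q : G) • vec (y q) =
        ∑ x : (B ⧸ N₀) × D, (r x : G) • FD.op (y x.1 x.2) v₀ := fun y => by
      rw [Fintype.sum_prod_type]
      refine Finset.sum_congr rfl fun q _ => ?_
      simp only [vec, e, Finset.smul_sum, r, Subgroup.coe_mul, mul_smul, hopc _ (hbpB _)]
    rw [hexp, hexp] at h
    have hfix : ∀ (y : B ⧸ N₀ → D → K) (x : (B ⧸ N₀) × D), ∀ m ∈ L,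
        m • FD.op (y x.1 x.2) v₀ = FD.op (y x.1 x.2) v₀ := fun y x m hm => by
      rw [hopc m (F.lle hm), hLay.vfix m hm]
    have := hLay.uniq _ r hrinj _ _ (hfix z) (hfix z') h
    funext q d
    exact hopinj _ _ v₀ hLay.vne (congrFun this (q, d))
  have hvinj : ∀ z z', vec z = vec z' → z = z' := fun z z' h => by
    have hs : ∀ y : D → K, ∑ q, (rep q : G) • vec (if q = (1 : B ⧸ N₀) then y else 0) = vec y := by
      intro y
      rw [Fintype.sum_eq_single 1 fun q hq => ?_]
      · simp [hrep1]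
      · simp [if_neg hq, vec, hop0]
    exact by
      simpa using congrFun (huniq (fun q => if q = 1 then z else 0) (fun q => if q = 1 then z' else 0)
        (by rw [hs, hs, h])) 1
  have hv0 : vec C.v ≠ 0 := fun h => by
    have h' : vec C.v = vec 0 := by rw [h]; simp [vec, hop0]
    exact C.v_ne (false, false) (congrFun (hvinj _ _ h') (false, false))
  have hu0 : ∀ i, vec (C.u i) ≠ 0 := fun i h => by
    have h' : vec (C.u i) = vec 0 := by rw [h]; simp [vec, hop0]
    have hz := hvinj _ _ h'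
    refine hneg1 (C.free_u i (-1) (false, false) (false, false) ?_).2.2
    rw [hz]; funext d; simp [pact]
  have hdec : ∀ x ∈ cent B L₀, ∃ (a c : D) (t : T), ∃ y ∈ L₀,
      x = (t : G) * y * ppow l a * ppow b c ∧ ∀ z, x • vec z = vec (pact (FD.emb t) a c z) := by
    intro x hx
    obtain ⟨a, c, t, ht, y, hy, rfl⟩ := hblk.decomp x hx
    exact ⟨a, c, ⟨t, ht⟩, y, hy, rfl, hact ⟨t, ht⟩ y hy a c⟩
  have hstab : ∀ z : D → K, vec z ≠ 0 →
      (∀ k a c, pact k a c z = z → a = (false, false) ∧ c = (false, false) ∧ k = 1) →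
      ∀ x ∈ B, x • vec z = vec z → x ∈ L₀ := by
    intro z hz hfree x hx hxz
    have hxC : x ∈ cent B L₀ := by
      refine mem_cent.2 ⟨hx, fun y hy => commutatorElement_eq_one_iff_mul_comm.1
        (hLay.fpf _ (F.comm y (F.lle (hblk.le hy)) x hx) _ hz ?_)⟩
      have h1 : y ∈ MulAction.stabilizer G (vec z) := hfixvec y hy z
      have h2 : x ∈ MulAction.stabilizer G (vec z) := hxz
      have : ⁅y, x⁆ ∈ MulAction.stabilizer G (vec z) := by
        rw [commutatorElement_def]
        exact mul_mem (mul_mem (mul_mem h1 h2) (inv_mem h1)) (inv_mem h2)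
      exact this
    obtain ⟨a, c, t, y, hy, rfl, hz'⟩ := hdec x hxC
    obtain ⟨rfl, rfl, hk⟩ := hfree _ a c (hvinj _ _ ((hz' z).symm.trans hxz))
    have ht : t = 1 := FD.emb_inj (hk.trans (map_one FD.emb).symm)
    simpa [ht, ppow] using hy
  -- the vectors
  obtain ⟨col, hcol1, hcol0, hcol⟩ := Cfsg.Agent.H10.BaseThree.exists_colouring (B ⧸ N₀)
  let wc : D → K := fun d => lact (true, false) C.v d + C.lam * lact (false, true) C.v d
  let γ : B ⧸ N₀ → D → K := fun q =>
    if h : q = 1 then wc else C.u ((col q).pred fun h' => h (hcol0 q h'))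
  refine ⟨(vec C.v, ∑ q, (rep q : G) • vec (γ q)), fun g hg1 hg2 => ?_⟩
  have hinvfix : ∀ x : G, x • vec C.v = vec C.v → x⁻¹ • vec C.v = vec C.v := fun x hx => by
    rw [inv_smul_eq_iff]; exact hx.symm
  have hnormL : ∀ x : G, x • vec C.v = vec C.v → ∀ y ∈ L₀, x * y * x⁻¹ ∈ L₀ := fun x hx y hy =>
    hstab _ hv0 C.free_v _ (hBn.conj_mem y (F.lle (hblk.le hy)) x) (by
      rw [mul_smul, mul_smul, hinvfix x hx, hfixvec y hy, hx])
  have hcentconj : ∀ x : G, x • vec C.v = vec C.v → ∀ c ∈ cent B L₀, x * c * x⁻¹ ∈ cent B L₀ := by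
    intro x hx c hc
    refine mem_cent.2 ⟨hBn.conj_mem c (mem_cent.1 hc).1 x, fun l hl => ?_⟩
    have h := (mem_cent.1 hc).2 _ (hnormL x⁻¹ (hinvfix x hx) l hl)
    rw [inv_inv] at h
    calc l * (x * c * x⁻¹) = x * (x⁻¹ * l * x * c) * x⁻¹ := by group
      _ = x * (c * (x⁻¹ * l * x)) * x⁻¹ := by rw [h]
      _ = x * c * x⁻¹ * l := by group
  have hlC : ∀ a, ppow l a ∈ cent B L₀ := fun a =>
    mem_cent.2 ⟨hlpB a, fun y hy => F.lcomm y (hblk.le hy) _ (hlpL a)⟩
  -- the twist of the scalars
  have hτex : ∀ k : K, ∃ k' : K, ∀ z : V, g • FD.op k z = FD.op k' (g • z) := by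
    intro k
    by_cases hk : k = 0
    · exact ⟨0, fun z => by rw [hk, hop0, hop0, smul_zero]⟩
    obtain ⟨t, rfl⟩ := hfull k hk
    refine ⟨FD.emb ⟨g * t * g⁻¹, hTn.conj_mem t t.2 g⟩, fun z => ?_⟩
    rw [FD.op_emb, FD.op_emb, smul_smul, smul_smul]
    congr 1
    group
  choose τ hτ using hτex
  have hτv : ∀ k, g • FD.op k (vec C.v) = FD.op (τ k) (vec C.v) := fun k => by
    rw [hτ, hg1]
  let τh : K →+* K :=
    { toFun := τ
      map_one' := hopinj _ _ _ hv0 (by rw [← hτv, hop1, hg1])
      map_mul' := fun x y => hopinj _ _ _ hv0 (by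
        rw [← hτv, hopmul, hτ x, hτv, ← hopmul])
      map_zero' := hopinj _ _ _ hv0 (by rw [← hτv, hop0, smul_zero])
      map_add' := fun x y => hopinj _ _ _ hv0 (by
        rw [← hτv, hopadd, smul_add, hτv, hτv, ← hopadd]) }
  have hspan : ∀ z, vec z = ∑ a, FD.op (∑ d, z d / (4 * C.v d) * sgn a d) (ppow l a • vec C.v) := by
    intro z
    simp only [hlact, hvop, ← hvsum]
    exact congrArg vec (funext fun d' => eq_combination C.v_ne h4 z d')
  have hglv : ∀ a, ∃ z, g • ppow l a • vec C.v = vec z := by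
    intro a
    obtain ⟨a', c', t, y, -, -, hz⟩ := hdec _ (hcentconj g hg1 _ (hlC a))
    refine ⟨pact (FD.emb t) a' c' C.v, ?_⟩
    rw [← hz, mul_smul, mul_smul, hinvfix g hg1]
  have hgW : ∀ z, ∃ z', g • vec z = vec z' := by
    intro z
    choose zz hzz using hglv
    refine ⟨fun d => ∑ a, τ (∑ d, z d / (4 * C.v d) * sgn a d) * zz a d, ?_⟩
    rw [hvsum, hspan z, Finset.smul_sum]
    refine Finset.sum_congr rfl fun a _ => ?_
    rw [hτ, hzz, hvop]
  let φ : B ⧸ N₀ →* B ⧸ N₀ := QuotientGroup.map N₀ N₀ ((MulAut.conjNormal g : B ≃* B) : B →* B)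
    (fun c hc => by
      rw [Subgroup.mem_comap, Subgroup.mem_subgroupOf]
      exact hcentconj g hg1 _ hc)
  have hφmk : ∀ y : B, φ (y : B ⧸ N₀) = ((MulAut.conjNormal g y : B) : B ⧸ N₀) := fun y => rfl
  have hφinj : Function.Injective φ := by
    rw [injective_iff_map_eq_one]
    intro x hx
    induction x using QuotientGroup.induction_on with
    | _ y =>
      rw [hφmk, QuotientGroup.eq_one_iff, Subgroup.mem_subgroupOf, MulAut.conjNormal_apply] at hx
      rw [QuotientGroup.eq_one_iff, Subgroup.mem_subgroupOf]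
      have := hcentconj g⁻¹ (hinvfix g hg1) _ hx
      group at this
      exact this
  let φe : (B ⧸ N₀) ≃ (B ⧸ N₀) := Equiv.ofBijective φ (Finite.injective_iff_bijective.1 hφinj)
  let c : B ⧸ N₀ → G := fun q => (rep (φ q) : G)⁻¹ * (g * (rep q : G) * g⁻¹)
  have hc : ∀ q, c q ∈ cent B L₀ := fun q => by
    have h : ((MulAut.conjNormal g (rep q) : B) : B ⧸ N₀) = φ q := by rw [← hφmk, hrep]
    have h2 := QuotientGroup.eq.1 ((hrep (φ q)).trans h.symm)
    rw [Subgroup.mem_subgroupOf] at h2
    simpa [c, MulAut.conjNormal_apply] using h2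
  have himg : ∀ q, ∃ z, c q • g • vec (γ q) = vec z := fun q => by
    obtain ⟨z, hz⟩ := hgW (γ q)
    obtain ⟨a, c', t, y, -, -, hz'⟩ := hdec _ (hc q)
    exact ⟨_, by rw [hz, hz']⟩
  choose img himg using himg
  have hmove : ∀ q, c q • g • vec (γ q) = vec (γ (φ q)) := by
    intro q
    have hsum : ∑ q', (rep q' : G) • vec (img (φe.symm q')) = ∑ q, (rep q : G) • vec (γ q) := by
      rw [← Fintype.sum_equiv φe (fun x => g • (rep x : G) • vec (γ x)) _ fun x => ?_,
        ← Finset.smul_sum]
      · exact hg2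
      rw [Equiv.symm_apply_apply, ← himg]
      change g • (rep x : G) • vec (γ x) = (rep (φ x) : G) • c x • g • vec (γ x)
      simp only [c, smul_smul]
      congr 1; group
    have := congrFun (huniq _ _ hsum) (φe q)
    rw [Equiv.symm_apply_apply] at this
    rw [himg, this]
    rfl
  have hc1 : c 1 = 1 := by simp [c, hrep1]
  have hgw : g • vec wc = vec wc := by
    have h := hmove 1
    rw [hc1, one_smul, map_one] at h
    simpa [γ] using h
  -- the images of the two involutions of `L`
  have himL : ∀ i : Bool, ∃ (a c : D) (k : K), k * k * sgn a c = 1 ∧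
      (a, c) ≠ ((false, false), (false, false)) ∧
      ∀ z, (g * l i * g⁻¹) • vec z = vec (pact k a c z) := by
    intro i
    have hiC : l i ∈ cent B L₀ :=
      mem_cent.2 ⟨hlB i, fun y hy => F.lcomm y (hblk.le hy) _ (hblk.l_mem i)⟩
    obtain ⟨a, c, t, y, hy, hxeq, hz⟩ := hdec _ (hcentconj g hg1 _ hiC)
    refine ⟨a, c, FD.emb t, ?_, ?_, hz⟩
    · have h1 : vec (pact (FD.emb t) a c (pact (FD.emb t) a c C.v)) = vec C.v := by
        rw [← hz, ← hz, smul_smul, show g * l i * g⁻¹ * (g * l i * g⁻¹) = 1 by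
          rw [show g * l i * g⁻¹ * (g * l i * g⁻¹) = g * (l i * l i) * g⁻¹ by group, hblk.l_sq,
            mul_one, mul_inv_cancel], one_smul]
      have h2 := congrFun (hvinj _ _ h1) (false, false)
      simp only [pact, dadd_assoc, dadd_self, dadd_zero, sgn_dadd] at h2
      refine mul_right_cancel₀ (C.v_ne (false, false)) ?_
      linear_combination h2 - (FD.emb t * FD.emb t * C.v (false, false) * sgn a c) *
        sgn_mul_self (R := K) a (false, false)
    · intro hac
      obtain ⟨rfl, rfl⟩ := Prod.mk.inj hac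
      have hxg : l i = g⁻¹ * t * g * (g⁻¹ * y * g) := by
        have : g * l i * g⁻¹ = t * y := by simpa [ppow] using hxeq
        calc l i = g⁻¹ * (g * l i * g⁻¹) * g := by group
          _ = _ := by rw [this]; group
      have htT : g⁻¹ * (t : G) * g ∈ T := by simpa using hTn.conj_mem t t.2 g⁻¹
      have hyL : g⁻¹ * y * g ∈ L₀ := by simpa using hnormL g⁻¹ (hinvfix g hg1) y hy
      have hcomm : l i * b i = b i * l i := by
        rw [hxg]
        exact ((show Commute _ (b i) from F.central _ htT _ (hblk.b_mem i)).mul_left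
          (show Commute _ (b i) from hblk.l₀_comm _ hyL i)).eq
      have h := hblk.pair i i v₀
      rw [if_pos rfl, smul_smul, hcomm, mul_smul, hLay.vfix _ (hblk.l_mem i)] at h
      have h' : FD.op 2 (b i • v₀) = 0 := by
        rw [← one_add_one_eq_two, hopadd, hop1]
        nth_rw 1 [h]
        exact neg_add_cancel _
      exact h2 ((FD.op_zero _ _ h').resolve_right fun h => hLay.vne ((smul_eq_zero_iff_eq _).1 h))
  obtain ⟨a, cc, k, hk, hne, hz⟩ := himL false
  obtain ⟨a', cc', k', hk', hne', hz'⟩ := himL true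
  have hk0 : k ≠ 0 := fun h => by simp [h] at hk
  have hk'0 : k' ≠ 0 := fun h => by simp [h] at hk'
  have hcommsgn : (sgn a cc' : K) * sgn a' cc = 1 := by
    have h1 : vec (pact k a cc (pact k' a' cc' C.v)) = vec (pact k' a' cc' (pact k a cc C.v)) := by
      rw [← hz, ← hz', ← hz', ← hz, smul_smul, smul_smul]
      congr 1
      calc g * l false * g⁻¹ * (g * l true * g⁻¹) = g * (l false * l true) * g⁻¹ := by group
        _ = g * (l true * l false) * g⁻¹ := by
          rw [F.lcomm _ (hblk.l_mem false) _ (hblk.l_mem true)]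
        _ = _ := by group
    have h2 := congrFun (hvinj _ _ h1) (false, false)
    simp only [pact, dadd_assoc, sgn_dadd, dadd_comm cc' cc] at h2
    have hs : (sgn a' cc : K) = sgn a cc' := by
      refine mul_left_cancel₀ (mul_ne_zero (mul_ne_zero (mul_ne_zero hk0 hk'0)
        (mul_ne_zero (left_ne_zero_of_mul_eq_one (sgn_mul_self (R := K) a (false, false)))
          (left_ne_zero_of_mul_eq_one (sgn_mul_self (R := K) a' (false, false)))))
        (C.v_ne (dadd (false, false) (dadd cc cc')))) ?_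
      linear_combination h2
    rw [hs]; exact sgn_mul_self a cc'
  have hgl : ∀ (i : Bool) (ai : D) (ci : D) (ki : K),
      (∀ z, (g * l i * g⁻¹) • vec z = vec (pact ki ai ci z)) →
      g • l i • vec C.v = vec (pact ki ai ci C.v) := fun i ai ci ki h => by
    rw [← h, mul_smul, mul_smul, hinvfix g hg1]
  have hl1 : ∀ z, l false • vec z = vec (lact (true, false) z) := fun z => by
    simpa [ppow] using hlact (true, false) z
  have hl2 : ∀ z, l true • vec z = vec (lact (false, true) z) := fun z => by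
    simpa [ppow] using hlact (false, true) z
  have hweq : vec wc = l false • vec C.v + FD.op C.lam (l true • vec C.v) := by
    rw [hl1, hl2, hvop, hvadd]
  have hμ0 : τ C.lam ≠ 0 := fun h => C.lam_ne ((map_eq_zero τh).1 h)
  have hμeq : τ C.lam * τ C.lam = C.c1 * τ C.lam + C.c0 := by
    have := congrArg τh C.lam_eq
    rw [map_mul, map_add, map_mul, map_natCast, map_natCast] at this
    exact this
  obtain ⟨hlam, rfl, rfl, rfl, rfl, rfl, rfl⟩ := C.uniq (τ C.lam) hμ0 hμeq k a cc hk hne k' a' cc'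
    hk' hne' hcommsgn fun d => by
      have h : g • vec wc = vec wc := hgw
      rw [hweq, smul_add, hτ, hgl _ _ _ _ hz, hgl _ _ _ _ hz', hvop, hvadd, hl1, hl2, hvop,
        hvadd] at h
      exact congrFun (hvinj _ _ h) d
  have hτid : ∀ x, τ x = x := fun x => by
    obtain ⟨m, n, rfl⟩ := C.gen x
    change τh (m + n * C.lam) = _
    rw [map_add, map_mul, map_natCast, map_natCast]
    exact congrArg (fun z => (m : K) + n * z) hlam
  have hgop : ∀ x z, g • FD.op x z = FD.op x (g • z) := fun x z => by rw [hτ, hτid]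
  have hgT : ∀ t ∈ T, g * t = t * g := fun t ht => by
    refine mul_inv_eq_iff_eq_mul.1 (congrArg Subtype.val (FD.emb_inj
      (show FD.emb ⟨g * t * g⁻¹, hTn.conj_mem t ht g⟩ = FD.emb ⟨t, ht⟩ from
        hopinj _ _ _ hv0 ?_)))
    rw [FD.op_emb, FD.op_emb]
    change (g * t * g⁻¹) • vec C.v = t • vec C.v
    rw [mul_smul, mul_smul, hinvfix g hg1]
    have := hgop (FD.emb ⟨t, ht⟩) (vec C.v)
    rwa [FD.op_emb, FD.op_emb, hg1] at this
  have hgfixl : ∀ i z, g • vec z = vec z → g • l i • vec z = l i • vec z := fun i z hzf => by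
    have hx : (g * l i * g⁻¹) • g • vec z = g • l i • vec z := by
      rw [mul_smul, mul_smul, inv_smul_smul]
    rw [← hx, hzf]
    cases i
    · rw [hz, hl1]
    · rw [hz', hl2]
  have hgall : ∀ z, g • vec z = vec z := by
    intro z
    rw [hspan z, Finset.smul_sum]
    refine Finset.sum_congr rfl fun a _ => ?_
    rw [hgop]
    congr 1
    rcases a with ⟨_ | _, _ | _⟩
    · simpa [ppow] using hg1
    · simpa [ppow] using hgfixl true _ hg1
    · simpa [ppow] using hgfixl false _ hg1
    · have h1 := hgfixl true _ hg1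
      rw [hl2] at h1
      simpa [ppow, mul_smul, hl2] using hgfixl false _ h1
  -- the colours
  have hcq : ∀ q, col (φ q) = col q ∧ c q ∈ L₀ := by
    intro q
    by_cases hq : q = 1
    · subst hq
      rw [map_one, hc1]
      exact ⟨rfl, one_mem _⟩
    have hφq : φ q ≠ 1 := fun h => hq (hφinj (h.trans (map_one φ).symm))
    have h := hmove q
    rw [hgall] at h
    simp only [γ, dif_neg hq, dif_neg hφq] at h
    obtain ⟨a, cc, t, y, hy, hxeq, hzc⟩ := hdec _ (hc q)
    have h' := hvinj _ _ ((hzc _).symm.trans h)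
    have hij := C.dist _ _ _ _ _ h'
    have hcolq : col (φ q) = col q := by
      rw [← Fin.succ_pred (col (φ q)) (fun h' => hφq (hcol0 _ h')),
        ← Fin.succ_pred (col q) (fun h' => hq (hcol0 q h')), hij]
    refine ⟨hcolq, hstab _ (hu0 ((col q).pred fun h' => hq (hcol0 q h'))) (C.free_u _) _
      (mem_cent.1 (hc q)).1 ?_⟩
    rw [h]
    simp only [hcolq]
  have hφid : ∀ q, φ q = q := hcol φ hφinj fun q => (hcq q).1
  have hBv : ∀ y ∈ B, g • y • vec C.v = y • vec C.v := by
    intro y hy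
    set q : B ⧸ N₀ := ((⟨y, hy⟩ : B) : B ⧸ N₀)
    have hr : (rep q : G)⁻¹ * y ∈ cent B L₀ := by
      have := QuotientGroup.eq.1 (hrep q : (rep q : B ⧸ N₀) = ((⟨y, hy⟩ : B) : B ⧸ N₀))
      rwa [Subgroup.mem_subgroupOf] at this
    obtain ⟨a, cc, t, y', -, -, hzx⟩ := hdec _ hr
    calc g • y • vec C.v = g • (rep q : G) • ((rep q : G)⁻¹ * y) • vec C.v := by
          rw [← mul_smul (rep q : G), mul_inv_cancel_left]
      _ = (g * (rep q : G) * g⁻¹) • g • vec (pact (FD.emb t) a cc C.v) := by
          rw [hzx, mul_smul, mul_smul, inv_smul_smul]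
      _ = (rep q : G) • c q • vec (pact (FD.emb t) a cc C.v) := by
          rw [hgall, ← mul_smul]
          congr 1
          simp only [c, hφid q]; group
      _ = y • vec C.v := by
          rw [hfixvec _ (hcq q).2, ← hzx, ← mul_smul, mul_inv_cancel_left]
  have hgB : ∀ y ∈ B, g * y = y * g := by
    intro y hy
    have hd : ∀ b' ∈ B, (y⁻¹ * (g * y * g⁻¹)) • b' • vec C.v = b' • vec C.v := by
      intro b' hb'
      have e1 : g⁻¹ • b' • vec C.v = b' • vec C.v := by rw [inv_smul_eq_iff, hBv b' hb']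
      have e2 : g • y • b' • vec C.v = y • b' • vec C.v := by
        rw [← mul_smul y, hBv _ (mul_mem hy hb')]
      rw [mul_smul, inv_smul_eq_iff, mul_smul, mul_smul, e1, e2]
    set d := y⁻¹ * (g * y * g⁻¹)
    have hdB : d ∈ B := mul_mem (inv_mem hy) (hBn.conj_mem y hy g)
    have hdv : d • vec C.v = vec C.v := by simpa using hd 1 (one_mem B)
    have hdT : d ∈ T := F.centre d hdB fun x hx => by
      refine commutatorElement_eq_one_iff_mul_comm.1 (hLay.fpf _ (F.comm d hdB x hx) _ hv0 ?_)
      rw [commutatorElement_def, mul_smul, mul_smul, mul_smul]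
      have e3 : d⁻¹ • x⁻¹ • vec C.v = x⁻¹ • vec C.v := by
        rw [inv_smul_eq_iff, hd _ (inv_mem hx)]
      rw [e3, smul_inv_smul, hdv]
    have hd1 : d = 1 := hLay.fpf d hdT _ hv0 hdv
    have h4 : g * y * g⁻¹ = y := (inv_mul_eq_one.1 hd1).symm
    exact mul_inv_eq_iff_eq_mul.1 h4
  intro z
  rw [hLay.fpf g (hLay.self g hgT hgB) _ hv0 hg1, one_smul]

end Cfsg.Agent.H81.BaseTwo
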