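import Mathlib

/-!
# Three classes rigidify a finite abelian group of odd order

One marked element `e`, the set `D` of the other generators together with the sums of adjacent
generators, and the rest: an endomorphism fixing `e` and preserving `D` is the identity.
-/

namespace Cfsg.Agent.H81.BaseTwo

variable {m : ℕ} {n : Fin m → ℕ}

/-- A vector with entries `1` on `S` and `0` elsewhere. -/
def zeroOne (S : Finset (Fin m)) : (i : Fin m) → ZMod (n i) := fun i => if i ∈ S then 1 else 0

theorem zeroOne_injective (hn : ∀ i, 3 ≤ n i) :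
    Function.Injective (zeroOne (n := n) : Finset (Fin m) → _) := by
  intro S S' h
  ext i
  have : Fact (1 < n i) := ⟨by have := hn i; omega⟩
  have h' := congrFun h i
  by_cases h1 : i ∈ S <;> by_cases h2 : i ∈ S' <;> simp_all [zeroOne]

theorem zeroOne_add_eq (hn : ∀ i, 3 ≤ n i) {A B C : Finset (Fin m)}
    (h : zeroOne (n := n) A + zeroOne B = zeroOne C) : Disjoint A B ∧ A ∪ B = C := by
  have key : ∀ i, ¬ (i ∈ A ∧ i ∈ B) ∧ ((i ∈ A ∨ i ∈ B) ↔ i ∈ C) := by
    intro i
    have : Fact (1 < n i) := ⟨by have := hn i; omega⟩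
    have : Fact (2 < n i) := ⟨by have := hn i; omega⟩
    have h1 : (1 : ZMod (n i)) + 1 ≠ 0 := fun h =>
      ZMod.neg_one_ne_one (n := n i) (neg_eq_of_add_eq_zero_left h)
    have h' := congrFun h i
    by_cases a : i ∈ A <;> by_cases b : i ∈ B <;> by_cases c : i ∈ C <;>
      simp_all [zeroOne, Pi.add_apply]
  refine ⟨Finset.disjoint_left.2 fun i ha hb => (key i).1 ⟨ha, hb⟩, ?_⟩
  ext i
  rw [Finset.mem_union]
  exact (key i).2

/-- In a finite abelian group of odd order some element `e` and some set `D` not containing it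
rigidify the group. -/
theorem exists_mark (X : Type*) [CommGroup X] [Finite X] (hodd : Odd (Nat.card X))
    [Nontrivial X] :
    ∃ (e : X) (D : Set X), e ≠ 1 ∧ e ∉ D ∧ (1 : X) ∉ D ∧
      (IsCyclic X → D = ∅) ∧ (D = ∅ → Subgroup.zpowers e = ⊤) ∧
      ∀ φ : X →* X, Function.Injective φ → φ e = e → (∀ x, φ x ∈ D ↔ x ∈ D) →
        ∀ x, φ x = x := by
  classical
  by_cases hc : IsCyclic X
  · obtain ⟨e, he⟩ := IsCyclic.exists_generator (α := X)
    have htop : Subgroup.zpowers e = ⊤ := eq_top_iff.2 fun x _ => he x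
    refine ⟨e, ∅, fun h => ?_, Set.notMem_empty _, Set.notMem_empty _, fun _ => rfl, fun _ => htop,
      fun φ _ hfe _ x => ?_⟩
    · obtain ⟨x, hx⟩ := exists_ne (1 : X)
      obtain ⟨k, rfl⟩ := Subgroup.mem_zpowers_iff.1 (he x)
      exact hx (by rw [h, one_zpow])
    · obtain ⟨k, rfl⟩ := Subgroup.mem_zpowers_iff.1 (he x)
      rw [map_zpow, hfe]
  obtain ⟨ι, hι, n0, hn0, ⟨e0⟩⟩ := CommGroup.equiv_prod_multiplicative_zmod_of_finite X
  let m := Fintype.card ι
  let n : Fin m → ℕ := fun i => n0 ((Fintype.equivFin ι).symm i)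
  let co : X ≃ ((i : Fin m) → ZMod (n i)) :=
    e0.toEquiv.trans <| (Equiv.piCongrRight fun i => Multiplicative.toAdd).trans
      (Equiv.piCongrLeft' (fun i => ZMod (n0 i)) (Fintype.equivFin ι))
  have hco : ∀ x y, co (x * y) = co x + co y := fun x y => by
    funext i; simp [co, n]
  have hn : ∀ i, 3 ≤ n i := by
    intro i
    have h1 : 1 < n i := hn0 _
    have hdvd : n i ∣ Nat.card X := by
      rw [Nat.card_congr co, Nat.card_pi]
      have h := Finset.dvd_prod_of_mem (fun j => Nat.card (ZMod (n j))) (Finset.mem_univ i)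
      rwa [Nat.card_zmod] at h
    obtain ⟨c, hc⟩ := hodd.of_dvd_nat hdvd
    omega
  have hm : 2 ≤ m := by
    by_contra hlt
    apply hc
    rcases Nat.lt_or_ge 0 m with h0 | h0
    · have hsub : ∀ i : Fin m, i = ⟨0, h0⟩ := fun i => Fin.ext (by simp only; omega)
      let g : X →* Multiplicative (ZMod (n ⟨0, h0⟩)) :=
        { toFun := fun x => Multiplicative.ofAdd (co x ⟨0, h0⟩)
          map_one' := by
            have h := hco 1 1
            rw [mul_one, left_eq_add] at h
            rw [h]; rfl
          map_mul' := fun x y => by rw [hco]; rfl }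
      refine isCyclic_of_injective g fun x y h => co.injective (funext fun i => ?_)
      rw [hsub i]
      exact Multiplicative.ofAdd.injective h
    · have : IsEmpty (Fin m) := ⟨fun i => by have := i.2; omega⟩
      obtain ⟨x, hx⟩ := exists_ne (1 : X)
      exact absurd (co.injective (Subsingleton.elim _ _)) hx
  let P : Finset (Fin m) → X := fun S => co.symm (zeroOne S)
  have hP : ∀ S, co (P S) = zeroOne S := fun S => co.apply_symm_apply _
  have hPinj : Function.Injective P := co.symm.injective.comp (zeroOne_injective hn)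
  have hPmul : ∀ A B, Disjoint A B → P A * P B = P (A ∪ B) := by
    intro A B h
    apply co.injective
    rw [hco, hP, hP, hP]
    funext i
    have : i ∈ A → i ∉ B := fun hi => Finset.disjoint_left.1 h hi
    by_cases a : i ∈ A <;> by_cases b : i ∈ B <;> simp_all [zeroOne]
  let z : Fin m := ⟨0, by omega⟩
  -- the supports
  let Sup : Set (Finset (Fin m)) :=
    {S | (∃ i, S = {i}) ∨ ∃ i j : Fin m, (j : ℕ) = i + 1 ∧ S = {i, j}}
  let D : Set X := P '' (Sup \ {{z}})
  have he : P {z} ≠ 1 := fun h => by
    have h1 : co (1 : X) = 0 := by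
      have h' := hco 1 1
      rwa [mul_one, left_eq_add] at h'
    have h2 := congrFun (((hP {z}).symm.trans (congrArg co h)).trans h1) z
    have : Fact (1 < n z) := ⟨by have := hn z; omega⟩
    simp [zeroOne] at h2
  have hDne : D.Nonempty := ⟨P {⟨1, by omega⟩}, {⟨1, by omega⟩}, ⟨Or.inl ⟨_, rfl⟩, fun h => by
    simp [z, Fin.ext_iff] at h⟩, rfl⟩
  refine ⟨P {z}, D, he, ?_, ?_, fun h => absurd h hc, fun h => absurd h hDne.ne_empty, ?_⟩
  · rintro ⟨S, hS, h⟩
    exact hS.2 (hPinj h)
  · rintro ⟨S, hS, h⟩
    have h0 : P ∅ = 1 := by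
      have h' := hPmul ∅ ∅ (Finset.disjoint_empty_left _)
      rwa [Finset.empty_union, mul_eq_left] at h'
    have hS0 : S = ∅ := hPinj (h.trans h0.symm)
    subst hS0
    rcases hS.1 with ⟨i, h⟩ | ⟨i, j, -, h⟩ <;> simp [eq_comm (a := (∅ : Finset (Fin m)))] at h
  intro φ hφ hfe hD
  let E : Set X := P '' Sup
  have hEdef : ∀ x, x ∈ E ↔ x ∈ D ∨ x = P {z} := by
    intro x
    constructor
    · rintro ⟨S, hS, rfl⟩
      by_cases h : S = {z}
      · exact Or.inr (by rw [h])
      · exact Or.inl ⟨S, ⟨hS, h⟩, rfl⟩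
    · rintro (⟨S, hS, rfl⟩ | rfl)
      · exact ⟨S, hS.1, rfl⟩
      · exact ⟨{z}, Or.inl ⟨z, rfl⟩, rfl⟩
  have hE : ∀ x ∈ E, φ x ∈ E := fun x hx => by
    rcases (hEdef x).1 hx with h | h
    · exact (hEdef _).2 (Or.inl ((hD x).2 h))
    · exact (hEdef _).2 (Or.inr (by rw [h, hfe]))
  -- the sums inside `E` are the adjacent pairs
  have hsum : ∀ a ∈ E, ∀ b ∈ E, a * b ∈ E → ∃ i j : Fin m,
      ((j : ℕ) = i + 1 ∨ (i : ℕ) = j + 1) ∧ a = P {i} ∧ b = P {j} := by
    rintro _ ⟨A, hA, rfl⟩ _ ⟨B, hB, rfl⟩ ⟨C, hC, hab⟩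
    have h := congrArg co hab
    rw [hco, hP, hP, hP] at h
    obtain ⟨hdis, hun⟩ := zeroOne_add_eq hn h.symm
    have hcard : A.card + B.card = C.card := by rw [← Finset.card_union_of_disjoint hdis, hun]
    have hle : ∀ S ∈ Sup, S.card = 1 ∨ S.card = 2 := by
      rintro S (⟨i, rfl⟩ | ⟨i, j, hij, rfl⟩)
      · simp
      · exact Or.inr (Finset.card_pair fun h => by subst h; omega)
    have hA1 : A.card = 1 := by
      rcases hle A hA with h | h <;> rcases hle B hB with h' | h' <;>
        rcases hle C hC with h'' | h'' <;> omega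
    have hB1 : B.card = 1 := by
      rcases hle B hB with h' | h' <;> rcases hle C hC with h'' | h'' <;> omega
    obtain ⟨i, rfl⟩ := Finset.card_eq_one.1 hA1
    obtain ⟨j, rfl⟩ := Finset.card_eq_one.1 hB1
    refine ⟨i, j, ?_, rfl, rfl⟩
    rcases hC with ⟨k, hk⟩ | ⟨k, l, hkl, hk⟩
    · rw [hk, Finset.card_singleton] at hcard
      simp at hcard
    · rw [hk] at hun
      have hik : i = k ∨ i = l := by
        simpa using (hun ▸ Finset.mem_union_left {j} (Finset.mem_singleton_self i) :
          i ∈ ({k, l} : Finset (Fin m)))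
      have hjk : j = k ∨ j = l := by
        simpa using (hun ▸ Finset.mem_union_right {i} (Finset.mem_singleton_self j) :
          j ∈ ({k, l} : Finset (Fin m)))
      have hne : i ≠ j := fun h => by simp [h] at hdis
      rcases hik with rfl | rfl <;> rcases hjk with rfl | rfl
      · exact absurd rfl hne
      · exact Or.inl hkl
      · exact Or.inr hkl
      · exact absurd rfl hne
  have hfix : ∀ k : ℕ, ∀ i : Fin m, (i : ℕ) ≤ k → φ (P {i}) = P {i} := by
    intro k
    induction k with
    | zero => intro i hi; rwa [show i = z from Fin.ext (Nat.le_zero.1 hi)]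
    | succ k ih =>
      intro i hi
      rcases Nat.lt_or_ge (i : ℕ) (k + 1) with h | h
      · exact ih i (by omega)
      have hik : (i : ℕ) = k + 1 := by omega
      let p : Fin m := ⟨k, by omega⟩
      have hp := ih p le_rfl
      have hdis : Disjoint ({p} : Finset (Fin m)) {i} := by
        simp [Fin.ext_iff, p]; omega
      have hmem : φ (P {p}) * φ (P {i}) ∈ E := by
        rw [← map_mul, hPmul _ _ hdis]
        exact hE _ ⟨_, Or.inr ⟨p, i, by simp [p, hik], Finset.insert_eq _ _ |>.symm⟩, rfl⟩
      obtain ⟨a, b, hadj, ha, hb⟩ := hsum _ (hE _ ⟨_, Or.inl ⟨p, rfl⟩, rfl⟩) _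
        (hE _ ⟨_, Or.inl ⟨i, rfl⟩, rfl⟩) hmem
      rw [hp] at ha
      have hap : a = p := (Finset.singleton_inj.1 (hPinj ha)).symm
      subst hap
      rcases hadj with hadj | hadj
      · rw [hb, show b = i from Fin.ext (by simp [p] at hadj; omega)]
      · have hbk : (b : ℕ) ≤ k := by simp [p] at hadj; omega
        have := hPinj (hφ (hb.trans (ih b hbk).symm))
        rw [Finset.singleton_inj] at this
        subst this
        simp [p] at hadj
        omega
  intro x
  let F : Subgroup X := φ.eqLocus (MonoidHom.id X)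
  have hgen : ∀ S : Finset (Fin m), ∀ v : (i : Fin m) → ZMod (n i), (∀ i ∉ S, v i = 0) →
      co.symm v ∈ F := by
    intro S
    induction S using Finset.induction_on with
    | empty =>
      intro v hv
      have h0 : co.symm v = 1 := by
        apply co.injective
        have h1 : co (1 : X) = 0 := by
          have h' := hco 1 1
          rwa [mul_one, left_eq_add] at h'
        rw [co.apply_symm_apply, h1]
        exact funext fun i => hv i (Finset.notMem_empty i)
      rw [h0]; exact one_mem F
    | insert a S ha ih =>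
      intro v hv
      have : NeZero (n a) := ⟨by have := hn a; omega⟩
      have hw : co.symm (Function.update v a 0) ∈ F := ih _ fun i hi => by
        by_cases h : i = a
        · subst h; simp
        · rw [Function.update_of_ne h]; exact hv i (by simp [h, hi])
      have hpow : ∀ k : ℕ, co (P {a} ^ k) = k • zeroOne {a} := by
        intro k
        induction k with
        | zero =>
          have h' := hco 1 1
          rw [mul_one, left_eq_add] at h'
          simp [h']
        | succ k ih => rw [pow_succ, hco, ih, hP, succ_nsmul]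
      have hsplit : co.symm v = co.symm (Function.update v a 0) * P {a} ^ (v a).val := by
        apply co.injective
        rw [co.apply_symm_apply, hco, co.apply_symm_apply, hpow]
        funext i
        by_cases h : i = a
        · subst h
          simp only [Pi.add_apply, Function.update_self, Pi.smul_apply, zeroOne,
            Finset.mem_singleton_self, if_true, zero_add, nsmul_one, ZMod.natCast_zmod_val]
        · simp only [Pi.add_apply, Function.update_of_ne h, Pi.smul_apply, zeroOne,
            Finset.mem_singleton, if_neg h, smul_zero, add_zero]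
      rw [hsplit]
      exact F.mul_mem hw (F.pow_mem (hfix a a le_rfl) _)
  have := hgen Finset.univ (co x) fun i hi => absurd (Finset.mem_univ i) hi
  rwa [co.symm_apply_apply] at this

end Cfsg.Agent.H81.BaseTwo
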