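import Mathlib
import Cfsg.Agent.H10.BaseThree.Colour
import Cfsg.Agent.H81.BaseTwo.OddMark

/-!
# A colour design on an abelian group of squarefree exponent

Two colours on elements of odd order, three on involutions and a small exceptional set `Z`.
-/

namespace Cfsg.Agent.H81.BaseTwo

/-- The elements of odd order. -/
def oddPart (X : Type*) [CommGroup X] : Subgroup X where
  carrier := {x | Odd (orderOf x)}
  one_mem' := by simp
  mul_mem' := fun {x y} (hx : Odd (orderOf x)) (hy : Odd (orderOf y)) =>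
    (hx.mul hy).of_dvd_nat ((Commute.all x y).orderOf_mul_dvd_mul_orderOf)
  inv_mem' := fun {x} (hx : Odd (orderOf x)) => by
    show Odd (orderOf x⁻¹)
    rwa [orderOf_inv]

/-- The elements of order at most two. -/
def twoPart (X : Type*) [CommGroup X] : Subgroup X := (powMonoidHom 2 : X →* X).ker

theorem mem_oddPart {X : Type*} [CommGroup X] {x : X} : x ∈ oddPart X ↔ Odd (orderOf x) := Iff.rfl

theorem mem_twoPart {X : Type*} [CommGroup X] {x : X} : x ∈ twoPart X ↔ x ^ 2 = 1 := Iff.rfl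

theorem eq_of_parts {X : Type*} [CommGroup X] (hsf : ∀ x : X, Squarefree (orderOf x)) (φ : X →* X)
    (ho : ∀ x ∈ oddPart X, φ x = x) (h2 : ∀ x ∈ twoPart X, φ x = x) (x : X) : φ x = x := by
  rcases Nat.even_or_odd (orderOf x) with ⟨m, hm⟩ | h
  · have hn : orderOf x = 2 * m := by omega
    have hcop : Nat.Coprime 2 m := Nat.coprime_of_squarefree_mul (hn ▸ hsf x)
    have hmodd : Odd m := Nat.coprime_two_left.1 hcop
    have hm0 : m ≠ 0 := fun h => by subst h; simp at hmodd
    have hsq : orderOf (x ^ 2) = m := by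
      rw [orderOf_pow' x (by norm_num : (2 : ℕ) ≠ 0), hn, Nat.gcd_eq_right (Dvd.intro m rfl)]
      omega
    have h1 : φ (x ^ 2) = x ^ 2 := ho _ (by rw [mem_oddPart, hsq]; exact hmodd)
    have h3 : φ (x ^ m) = x ^ m := h2 _ (by
      rw [mem_twoPart, ← pow_mul, mul_comm, ← hn, pow_orderOf_eq_one])
    have h4 : (φ x * x⁻¹) ^ 2 = 1 := by rw [mul_pow, ← map_pow, h1, inv_pow, mul_inv_cancel]
    have h5 : (φ x * x⁻¹) ^ m = 1 := by rw [mul_pow, ← map_pow, h3, inv_pow, mul_inv_cancel]
    have h6 := pow_gcd_eq_one.2 ⟨h4, h5⟩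
    rwa [hcop.gcd_eq_one, pow_one, mul_inv_eq_one] at h6
  · exact ho x h

theorem card_ge_nine {H : Type*} [CommGroup H] [Finite H] (hodd : Odd (Nat.card H))
    (hc : ¬ IsCyclic H) : 9 ≤ Nat.card H := by
  by_contra hlt
  apply hc
  have h := hodd
  rw [Nat.odd_iff] at h
  have hcases : Nat.card H = 1 ∨ Nat.card H = 3 ∨ Nat.card H = 5 ∨ Nat.card H = 7 := by omega
  rcases hcases with h | h | h | h
  · have : Subsingleton H := (Nat.card_eq_one_iff_unique.1 h).1
    exact inferInstance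
  · have : Fact (Nat.Prime 3) := ⟨by norm_num⟩
    exact isCyclic_of_prime_card h
  · have : Fact (Nat.Prime 5) := ⟨by norm_num⟩
    exact isCyclic_of_prime_card h
  · have : Fact (Nat.Prime 7) := ⟨by norm_num⟩
    exact isCyclic_of_prime_card h

/-- The part of the design living on involutions. -/
theorem exists_two_design (X : Type*) [CommGroup X] [Finite X] :
    ∃ (Z : Set X) (κ : X → Fin 3), Z ⊆ twoPart X ∧ (1 : X) ∉ Z ∧
      (Z.Nonempty → 4 * Z.ncard + 4 ≤ Nat.card (twoPart X)) ∧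
      ∀ φ : X →* X, Function.Injective φ → (∀ x ∈ twoPart X, (φ x ∈ Z ↔ x ∈ Z)) →
        (∀ x ∈ twoPart X, x ≠ 1 → x ∉ Z → κ (φ x) = κ x) → ∀ x ∈ twoPart X, φ x = x := by
  classical
  let H := twoPart X
  have hmap : ∀ (φ : X →* X) (x : X), x ∈ H → φ x ∈ H := fun φ x hx => by
    rw [mem_twoPart, ← map_pow, mem_twoPart.1 hx, map_one]
  have := Fintype.ofFinite H
  rcases le_or_gt (Nat.card H) 4 with hsmall | hbig
  · obtain ⟨emb⟩ := Function.Embedding.nonempty_of_card_le (α := {x : H // x ≠ 1}) (β := Fin 3) (by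
      simp only [Fintype.card_fin, Fintype.card_subtype_compl, Fintype.card_subtype_eq]
      rw [← Nat.card_eq_fintype_card]; omega)
    refine ⟨∅, fun x => if h : x ∈ H ∧ x ≠ 1 then emb ⟨⟨x, h.1⟩, fun hc => h.2 (congrArg Subtype.val hc)⟩
      else 0, Set.empty_subset _, Set.notMem_empty _, fun h => absurd h Set.not_nonempty_empty,
      fun φ hφ _ hk x hx => ?_⟩
    by_cases h1 : x = 1
    · rw [h1, map_one]
    have hne : φ x ≠ 1 := fun h => h1 (hφ (h.trans (map_one φ).symm))
    have := hk x hx h1 (Set.notMem_empty _)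
    simp only [dif_pos (And.intro (hmap φ x hx) hne), dif_pos (show x ∈ H ∧ x ≠ 1 from ⟨hx, h1⟩)] at this
    exact congrArg (fun y => ((y.1 : H) : X)) (emb.injective this)
  obtain ⟨col, hc1, hc0, hcol⟩ := Cfsg.Agent.H10.BaseThree.exists_colouring H
  -- the least used colour
  let cls : Fin 4 → Finset H := fun a => Finset.univ.filter fun x => col x = a.succ
  obtain ⟨a, -, ha⟩ := Finset.exists_min_image Finset.univ (fun a => (cls a).card)
    Finset.univ_nonempty
  have hsum : ∑ b, (cls b).card = Nat.card H - 1 := by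
    rw [← Finset.card_biUnion]
    · rw [show Finset.univ.biUnion cls = Finset.univ.erase (1 : H) from ?_,
        Finset.card_erase_of_mem (Finset.mem_univ _), Finset.card_univ, Nat.card_eq_fintype_card]
      ext x
      simp only [cls, Finset.mem_biUnion, Finset.mem_univ, true_and, Finset.mem_filter,
        Finset.mem_erase, and_true]
      constructor
      · rintro ⟨b, hb⟩ rfl
        exact Fin.succ_ne_zero b (hb.symm.trans hc1)
      · intro hx
        obtain ⟨b, hb⟩ := Fin.exists_succ_eq.2 (fun h => hx (hc0 x h))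
        exact ⟨b, hb.symm⟩
    · intro b _ b' _ hne
      rw [Function.onFun, Finset.disjoint_left]
      intro x hx hx'
      simp only [cls, Finset.mem_filter, Finset.mem_univ, true_and] at hx hx'
      exact hne (Fin.succ_injective _ (hx.symm.trans hx'))
  have hcard : 4 * (cls a).card + 4 ≤ Nat.card H := by
    have h4 : 4 * (cls a).card ≤ Nat.card H - 1 := by
      rw [← hsum]
      calc 4 * (cls a).card = ∑ _b : Fin 4, (cls a).card := by simp
        _ ≤ _ := Finset.sum_le_sum fun b _ => ha b (Finset.mem_univ b)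
    -- the group is elementary abelian of order at least eight
    have h2 : IsPGroup 2 H := fun x => ⟨1, Subtype.ext (by simpa using mem_twoPart.1 x.2)⟩
    obtain ⟨r, hr⟩ := IsPGroup.iff_card.1 h2
    have : 4 ∣ Nat.card H := by
      rw [hr] at hbig ⊢
      exact pow_dvd_pow 2 (show 2 ≤ r by
        by_contra hc
        have : 2 ^ r ≤ 2 ^ 1 := Nat.pow_le_pow_right (by norm_num) (by omega)
        omega)
    obtain ⟨k, hk⟩ := this
    omega
  refine ⟨Subtype.val '' (cls a : Set H),
    fun x => if h : x ∈ H then (if h' : ∃ b, (a.succAbove b).succ = col ⟨x, h⟩ then h'.choose else 0)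
      else 0, ?_, ?_, fun _ => ?_, fun φ hφ hZ hk => ?_⟩
  · rintro _ ⟨x, -, rfl⟩; exact x.2
  · rintro ⟨x, hx, h1⟩
    simp only [cls, Finset.coe_filter, Finset.mem_univ, true_and, Set.mem_ofPred_eq] at hx
    rw [show x = 1 from Subtype.ext h1, hc1] at hx
    exact Fin.succ_ne_zero a hx.symm
  · rw [Set.ncard_image_of_injective _ Subtype.val_injective, Set.ncard_coe_finset]
    exact hcard
  let ψ : H →* H :=
    { toFun := fun x => ⟨φ x, hmap φ x x.2⟩
      map_one' := Subtype.ext (map_one φ)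
      map_mul' := fun x y => Subtype.ext (map_mul φ (x : X) (y : X)) }
  have hψ : Function.Injective ψ := fun x y h => Subtype.ext (hφ (congrArg Subtype.val h))
  have key := hcol ψ hψ fun x => ?_
  · intro x hx
    exact congrArg Subtype.val (key ⟨x, hx⟩)
  by_cases h1 : x = 1
  · rw [h1, map_one]
  have hmem : ∀ z : H, (z : X) ∈ Subtype.val '' (cls a : Set H) ↔ col z = a.succ := fun z => by
    simp [cls]
  by_cases hxa : col x = a.succ
  · rw [hxa]
    exact (hmem (ψ x)).1 ((hZ x x.2).2 ((hmem x).2 hxa))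
  have hxa' : col (ψ x) ≠ a.succ := fun h => hxa ((hmem x).1 ((hZ x x.2).1 ((hmem (ψ x)).2 h)))
  have hex : ∀ z : H, z ≠ 1 → col z ≠ a.succ → ∃ b, (a.succAbove b).succ = col z := by
    intro z hz hza
    obtain ⟨b, hb⟩ := Fin.exists_succ_eq.2 (fun h => hz (hc0 z h))
    obtain ⟨b', rfl⟩ := Fin.exists_succAbove_eq (x := b) (y := a) fun h => hza (by rw [← hb, h])
    exact ⟨b', hb⟩
  have hx' := hex x h1 hxa
  have hψx' := hex (ψ x) (fun h => h1 (hψ (h.trans (map_one ψ).symm))) hxa'
  have := hk x x.2 (fun h => h1 (Subtype.ext h)) (fun h => hxa ((hmem x).1 h))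
  simp only [dif_pos (hmap φ x x.2), dif_pos x.2, dif_pos hx', dif_pos (show ∃ b, (a.succAbove b).succ
    = col ⟨φ x, hmap φ x x.2⟩ from hψx')] at this
  rw [← hx'.choose_spec, ← this]
  exact hψx'.choose_spec.symm

/-- The whole design. -/
theorem exists_design (X : Type*) [CommGroup X] [Finite X]
    (hsf : ∀ x : X, Squarefree (orderOf x)) :
    ∃ (Z : Set X) (κ₂ : X → Fin 3) (κ : X → Bool), (1 : X) ∉ Z ∧
      (Z.Nonempty → 4 * Z.ncard < Nat.card X) ∧
      ∀ φ : X →* X, Function.Injective φ → (∀ x, φ x ∈ Z ↔ x ∈ Z) →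
        (∀ x, x ∉ Z → orderOf x = 2 → κ₂ (φ x) = κ₂ x) →
        (∀ x, x ∉ Z → x ≠ 1 → Odd (orderOf x) → κ (φ x) = κ x) → ∀ x, φ x = x := by
  classical
  obtain ⟨Z₂, κ₂, hZ₂, h1Z₂, hcard₂, hrig₂⟩ := exists_two_design X
  have hord : ∀ x ∈ twoPart X, x ≠ 1 → orderOf x = 2 := fun x hx h1 =>
    orderOf_eq_prime (mem_twoPart.1 hx) h1
  have hodd : Odd (Nat.card (oddPart X)) := by
    rcases Nat.even_or_odd (Nat.card (oddPart X)) with he | ho
    · obtain ⟨x, hx⟩ := exists_prime_orderOf_dvd_card' (G := oddPart X) 2 (even_iff_two_dvd.1 he)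
      have h := x.2
      rw [mem_oddPart, Subgroup.orderOf_coe, hx] at h
      exact absurd h (by decide)
    · exact ho
  have hinter : ∀ x ∈ twoPart X, x ∈ oddPart X → x = 1 := fun x hx hx' => by
    by_contra h
    rw [mem_oddPart, hord x hx h] at hx'
    exact absurd hx' (by decide)
  rcases subsingleton_or_nontrivial (oddPart X) with hs | hnt
  · refine ⟨Z₂, κ₂, fun _ => false, h1Z₂, fun h => ?_, fun φ hφ hZ h2 _ x => eq_of_parts hsf φ ?_ ?_ x⟩
    · have := hcard₂ h
      have := Nat.le_of_dvd Nat.card_pos (Subgroup.card_subgroup_dvd_card (twoPart X))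
      omega
    · intro y hy
      have h1 : y = 1 := congrArg Subtype.val (Subsingleton.elim (⟨y, hy⟩ : oddPart X) 1)
      rw [h1, map_one]
    · exact hrig₂ φ hφ (fun y _ => hZ y) fun y hy h1 hn => h2 y hn (hord y hy h1)
  obtain ⟨e, D, he1, heD, h1D, hcyc, hDe, hrig⟩ := exists_mark (oddPart X) hodd
  let Zo : Set X := if IsCyclic (oddPart X) then ∅ else {(e : X)}
  let κ : X → Bool := fun x => if h : x ∈ oddPart X then
    (if IsCyclic (oddPart X) then decide ((⟨x, h⟩ : oddPart X) = e) else decide (⟨x, h⟩ ∈ D)) else false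
  have hZo : ∀ x ∈ Zo, x ∈ oddPart X ∧ x ≠ 1 := fun x hx => by
    simp only [Zo] at hx
    split_ifs at hx with h
    · exact absurd hx (Set.notMem_empty _)
    · rw [Set.mem_singleton_iff.1 hx]
      exact ⟨e.2, fun h' => he1 (Subtype.ext h')⟩
  refine ⟨Z₂ ∪ Zo, κ₂, κ, ?_, fun h => ?_, fun φ hφ hZ h2 ho x => ?_⟩
  · rintro (h | h)
    · exact h1Z₂ h
    · exact (hZo 1 h).2 rfl
  · have hmul : Nat.card (twoPart X) * Nat.card (oddPart X) ≤ Nat.card X := by
      rw [← Nat.card_prod]
      refine Nat.card_le_card_of_injective (fun z => ((z.1 : X) * (z.2 : X))) fun a b hab => ?_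
      have h0 : ((a.1 * b.1⁻¹ : twoPart X) : X) = ((b.2 * a.2⁻¹ : oddPart X) : X) := by
        push_cast
        have : (a.1 : X) = (b.1 : X) * (b.2 : X) * (a.2 : X)⁻¹ := eq_mul_inv_of_mul_eq hab
        rw [this, mul_right_comm _ (a.2 : X)⁻¹, mul_right_comm (b.1 : X), mul_inv_cancel, one_mul]
      have h1 := hinter _ (a.1 * b.1⁻¹).2 (h0 ▸ (b.2 * a.2⁻¹).2)
      have e1 : a.1 = b.1 := mul_inv_eq_one.1 (Subtype.ext h1)
      have e2 : b.2 = a.2 := mul_inv_eq_one.1 (Subtype.ext (h0.symm.trans h1))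
      exact Prod.ext e1 e2.symm
    have hun : (Z₂ ∪ Zo).ncard ≤ Z₂.ncard + Zo.ncard := Set.ncard_union_le _ _
    have hpos : 1 ≤ Nat.card (twoPart X) := Nat.card_pos
    by_cases hc : IsCyclic (oddPart X)
    · simp only [Zo, if_pos hc, Set.union_empty] at h ⊢
      have := hcard₂ h
      have := Nat.le_of_dvd Nat.card_pos (Subgroup.card_subgroup_dvd_card (twoPart X))
      omega
    · have h9 := card_ge_nine hodd hc
      simp only [Zo, if_neg hc, Set.ncard_singleton] at hun ⊢
      rcases Z₂.eq_empty_or_nonempty with h0 | h0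
      · rw [h0, Set.ncard_empty] at hun
        rw [h0]
        nlinarith
      · have := hcard₂ h0
        nlinarith
  have hZ' : ∀ y, y ∈ twoPart X → (y ∈ Z₂ ∪ Zo ↔ y ∈ Z₂) := fun y hy =>
    ⟨fun h => h.elim id fun h' => absurd (hinter y hy (hZo y h').1) (hZo y h').2, Or.inl⟩
  have hZ'' : ∀ y, y ∈ oddPart X → (y ∈ Z₂ ∪ Zo ↔ y ∈ Zo) := fun y hy =>
    ⟨fun h => h.elim (fun h' => absurd (hinter y (hZ₂ h') hy) (fun h'' => h1Z₂ (h'' ▸ h'))) id, Or.inr⟩
  refine eq_of_parts hsf φ ?_ ?_ x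
  swap
  · refine hrig₂ φ hφ (fun y hy => ?_) fun y hy h1 hn =>
      h2 y (fun h => hn ((hZ' y hy).1 h)) (hord y hy h1)
    rw [← hZ' y hy, ← hZ' (φ y) (by rw [mem_twoPart, ← map_pow, mem_twoPart.1 hy, map_one])]
    exact hZ y
  have hmap : ∀ y ∈ oddPart X, φ y ∈ oddPart X := fun y hy => by
    rw [mem_oddPart, orderOf_injective φ hφ y]; exact hy
  let ψ : oddPart X →* oddPart X :=
    { toFun := fun y => ⟨φ y, hmap y y.2⟩
      map_one' := Subtype.ext (map_one φ)
      map_mul' := fun a b => Subtype.ext (map_mul φ (a : X) (b : X)) }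
  have hψ : Function.Injective ψ := fun a b h => Subtype.ext (hφ (congrArg Subtype.val h))
  have hκ : ∀ y : oddPart X, (y : X) ∉ Zo → y ≠ 1 → κ (φ y) = κ y := fun y hy h1 =>
    ho y (fun h => hy ((hZ'' y y.2).1 h)) (fun h => h1 (Subtype.ext h)) y.2
  suffices key : ∀ y, ψ y = y from fun y hy => congrArg Subtype.val (key ⟨y, hy⟩)
  by_cases hc : IsCyclic (oddPart X)
  · have hfe : ψ e = e := by
      have h := hκ e (by simp [Zo, hc]) he1
      simp only [κ, dif_pos e.2, dif_pos (hmap e e.2), if_pos hc, Subtype.coe_eta, decide_true,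
        decide_eq_true_eq] at h
      exact h
    intro y
    have hy : y ∈ Subgroup.zpowers e := by rw [hDe (hcyc hc)]; exact Subgroup.mem_top y
    obtain ⟨k, rfl⟩ := Subgroup.mem_zpowers_iff.1 hy
    rw [map_zpow, hfe]
  · have hin : ∀ y : oddPart X, (y : X) ∈ Zo ↔ y = e := fun y => by
      simp [Zo, hc]
    have hfe : ψ e = e := by
      have h := (hZ'' _ (hmap e e.2)).1 ((hZ e).2 (Or.inr ((hin e).2 rfl)))
      exact (hin (ψ e)).1 h
    refine hrig ψ hψ hfe fun y => ?_
    by_cases hye : y = e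
    · rw [hye, hfe]
    by_cases hy1 : y = 1
    · rw [hy1, map_one]
    have h := hκ y (fun h => hye ((hin y).1 h)) hy1
    simp only [κ, dif_pos y.2, dif_pos (hmap y y.2), if_neg hc, Subtype.coe_eta] at h
    exact (decide_eq_decide.1 h)

end Cfsg.Agent.H81.BaseTwo
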