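import Mathlib
import Cfsg.Agent.H10.BaseTwo.Setup
import Cfsg.Agent.H81.BaseTwo.Field

/-!
# A vector spanning a two-dimensional module of the centraliser of `L`
-/

namespace Cfsg.Agent.H81.BaseTwo

open scoped commutatorElement
open Cfsg.Agent.H10.BaseThree

universe u v

theorem exists_pair_data {G : Type u} {V : Type v} [Group G] [AddCommGroup V]
    [DistribMulAction G V] [Finite G] {T B L : Subgroup G} {ζ : G} {v : V}
    (hLay : Cfsg.Agent.H10.BaseTwo.Layer G V T B L ζ v) {K : Type v} [Field K] [Finite K]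
    (D : FieldData G V T K) :
    ∃ (i j : G) (w : V) (a b : K), i ∈ cent B L ∧ j ∈ cent B L ∧
      (∃ (n : ℕ) (l : G), l ∈ L ∧ j ^ n = l * ζ) ∧
      cent B L ≤ L ⊔ T ⊔ Subgroup.zpowers i ⊔ Subgroup.zpowers j ∧
      w ≠ 0 ∧ (∀ l ∈ L, l • w = w) ∧ (∀ x ∈ B, x • w = w → x ∈ L) ∧
      i • w = D.op a w + D.op b (j • w) := by
  classical
  have F := hLay.frame
  obtain ⟨i, hi, j, hj, n, ⟨l, hl, hjn⟩, hgen⟩ := F.exists_pair D.emb D.emb_inj
  have hstab : ∀ u : V, u ≠ 0 → (∀ l ∈ L, l • u = u) → ∀ x ∈ B, x • u = u → x ∈ L := by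
    intro u hu huL x hx hxu
    refine F.lmax (B ⊓ MulAction.stabilizer G u) (fun y hy => ⟨F.lle hy, huL y hy⟩) inf_le_left ?_ ?_
      ⟨hx, hxu⟩
    · intro a ha c hc
      refine commutatorElement_eq_one_iff_mul_comm.1 (hLay.fpf _ (F.comm a ha.1 c hc.1) u hu ?_)
      have : ⁅a, c⁆ ∈ MulAction.stabilizer G u := by
        rw [commutatorElement_def]
        exact mul_mem (mul_mem (mul_mem ha.2 hc.2) (inv_mem ha.2)) (inv_mem hc.2)
      exact this
    · rw [eq_bot_iff]
      exact fun t ht => Subgroup.mem_bot.2 (hLay.fpf t ht.2 u hu ht.1.2)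
  suffices h : ∃ (w : V) (a b : K), w ≠ 0 ∧ (∀ l ∈ L, l • w = w) ∧
      i • w = D.op a w + D.op b (j • w) by
    obtain ⟨w, a, b, hw, hwL, he⟩ := h
    exact ⟨i, j, w, a, b, hi, hj, ⟨n, l, hl, hjn⟩, hgen, hw, hwL, hstab w hw hwL, he⟩
  -- elements of `L T` act as scalars on the fixed space of `L`
  have hscal : ∀ x ∈ L ⊔ T, ∃ s : K, s ≠ 0 ∧ ∀ u : V, (∀ l ∈ L, l • u = u) → x • u = D.op s u := by
    intro x hx
    obtain ⟨l', hl', t, ht, rfl⟩ := F.mem_sup_iff.1 hx
    refine ⟨D.emb ⟨t, ht⟩, fun h0 => ?_, fun u hu => ?_⟩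
    · have h := congrArg (fun k => k * D.emb ⟨t⁻¹, T.inv_mem ht⟩) h0
      simp only [zero_mul, ← map_mul] at h
      rw [show (⟨t, ht⟩ : T) * ⟨t⁻¹, T.inv_mem ht⟩ = 1 from Subtype.ext (mul_inv_cancel t),
        map_one] at h
      exact one_ne_zero h
    · rw [D.op_emb, ← F.central t ht l' (F.lle hl'), mul_smul, hu l' hl']
  by_cases hiLT : i ∈ L ⊔ T
  · obtain ⟨s, -, hs⟩ := hscal i hiLT
    exact ⟨v, s, 0, hLay.vne, hLay.vfix, by rw [hs v hLay.vfix, map_zero]; exact (add_zero _).symm⟩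
  have hij : ⁅j, i⁆ ≠ 1 := fun h => hiLT (F.mem_sup_of_central D.emb D.emb_inj hi fun y hy => by
    refine commutatorElement_eq_one_iff_mul_comm.2 ?_
    have hle : L ⊔ T ⊔ Subgroup.zpowers i ⊔ Subgroup.zpowers j ≤ Subgroup.centralizer {i} := by
      refine sup_le (sup_le (sup_le ?_ ?_) ?_) ?_
      · exact fun z hz => Subgroup.mem_centralizer_singleton_iff.2 ((mem_cent.1 hi).2 z hz)
      · exact fun z hz => Subgroup.mem_centralizer_singleton_iff.2 (F.central z hz i (mem_cent.1 hi).1)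
      · exact Subgroup.zpowers_le.2 (Subgroup.mem_centralizer_singleton_iff.2 rfl)
      · exact Subgroup.zpowers_le.2 (Subgroup.mem_centralizer_singleton_iff.2
          (commutatorElement_eq_one_iff_mul_comm.1 h))
    exact (Subgroup.mem_centralizer_singleton_iff.1 (hle (hgen hy))).symm)
  have hiB := (mem_cent.1 hi).1
  have hjB := (mem_cent.1 hj).1
  let e : T := ⟨⁅j, i⁆, F.comm j hjB i hiB⟩
  have he : D.emb e = -1 := by
    have h2 : e ^ 2 = 1 := Subtype.ext (by
      change ⁅j, i⁆ ^ 2 = 1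
      rw [← F.comm_pow_left hjB hiB]
      exact F.comm_eq_one_of_sup (F.sq_mem_sup D.emb D.emb_inj hj) hi)
    have h3 : D.emb e ^ 2 = 1 := by rw [← map_pow, h2, map_one]
    refine (sq_eq_one_iff.1 h3).resolve_left fun h1 => hij ?_
    exact congrArg Subtype.val (D.emb_inj (h1.trans (map_one D.emb).symm))
  obtain ⟨si, hsi0, hsi⟩ := hscal _ (F.sq_mem_sup D.emb D.emb_inj hi)
  obtain ⟨sj, hsj0, hsj⟩ := hscal _ (F.sq_mem_sup D.emb D.emb_inj hj)
  obtain ⟨a, b, hab⟩ : ∃ a b : K, a ^ 2 = si + sj * b ^ 2 := by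
    letI := Fintype.ofFinite K
    obtain ⟨a, b, hab⟩ := FiniteField.exists_root_sum_quadratic
      (f := Polynomial.X ^ 2 - Polynomial.C si) (g := Polynomial.C (-sj) * Polynomial.X ^ 2)
      (Polynomial.degree_X_pow_sub_C (by norm_num) _)
      (Polynomial.degree_C_mul_X_pow 2 (neg_ne_zero.2 hsj0))
      (by rw [← Nat.card_eq_fintype_card]; exact D.odd_card)
    refine ⟨a, b, ?_⟩
    simp only [Polynomial.eval_sub, Polynomial.eval_pow, Polynomial.eval_X, Polynomial.eval_C,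
      Polynomial.eval_mul] at hab
    linear_combination hab
  have hcommT : ∀ c ∈ cent B L, ∀ t ∈ T, c * t = t * c := fun c hc t ht =>
    (F.central t ht c (mem_cent.1 hc).1).symm
  have hiK := D.op_comm i (hcommT i hi)
  have hjK := D.op_comm j (hcommT j hj)
  have hfixC : ∀ c ∈ cent B L, ∀ u : V, (∀ l ∈ L, l • u = u) → ∀ l ∈ L, l • c • u = c • u :=
    fun c hc u hu l hl => by rw [smul_smul, (mem_cent.1 hc).2 l hl, mul_smul, hu l hl]
  -- `(i - b j)² = a²` on the fixed space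
  let P : V → V := fun u => i • u - D.op b (j • u) + D.op a u
  have hP : ∀ u : V, (∀ l ∈ L, l • u = u) → i • P u = D.op a (P u) + D.op b (j • P u) := by
    intro u hu
    have h1 : j • i • u = - (i • j • u) := by
      rw [smul_smul, show j * i = ⁅j, i⁆ * (i * j) by rw [commutatorElement_def]; group, mul_smul,
        show ⁅j, i⁆ • (i * j) • u = D.op (D.emb e) ((i * j) • u) from (D.op_emb e _).symm, he,
        map_neg, map_one, mul_smul]
      rfl
    have e1 : i • i • u = D.op si u := by rw [smul_smul, ← pow_two, hsi u hu]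
    have e2 : j • j • u = D.op sj u := by rw [smul_smul, ← pow_two, hsj u hu]
    have e3 : ∀ (k k' : K) (w : V), D.op k (D.op k' w) = D.op (k * k') w := fun k k' w => by
      rw [map_mul]; rfl
    have e4 : D.op (a * a) u = D.op si u + D.op (b * (b * sj)) u := by
      rw [← pow_two, hab, show b * (b * sj) = sj * b ^ 2 by ring, map_add]; rfl
    simp only [P, smul_add, smul_sub, hiK, hjK, h1, e1, e2, map_add, map_sub, map_neg, e3, mul_assoc]
    rw [e4, mul_comm b a]
    abel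
  by_cases hz : P v = 0
  · refine ⟨v, -a, b, hLay.vne, hLay.vfix, ?_⟩
    rw [map_neg]
    change i • v = - D.op a v + D.op b (j • v)
    have : i • v - D.op b (j • v) + D.op a v = 0 := hz
    rw [← sub_eq_zero, ← this]
    abel
  · refine ⟨P v, a, b, hz, fun l hl => ?_, hP v hLay.vfix⟩
    have hl' : ∀ t ∈ T, l * t = t * l := fun t ht => (F.central t ht l (F.lle hl)).symm
    simp only [P, smul_add, smul_sub, D.op_comm l hl', hfixC i hi v hLay.vfix l hl,
      hfixC j hj v hLay.vfix l hl, hLay.vfix l hl]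

end Cfsg.Agent.H81.BaseTwo
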