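import Mathlib
import Cfsg.Agent.H10.BaseTwo.OddPrimitive
import Cfsg.Agent.H81.BaseTwo.Design
import Cfsg.Agent.H81.BaseTwo.Pair

/-!
# A regular pair when the field of scalars has enough fourth powers, or at most one involution is present

The components of the second vector are multiples of one vector; the coefficient `k` at a class
`q` of prime order carries the colour `k ^ 4 * u ^ 2` (`q` of order two) or `k ^ n * u` (`n` odd),
where `u` is the scalar of the `n`-th power of the representative.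
-/

namespace Cfsg.Agent.H81.BaseTwo

open scoped commutatorElement
open Cfsg.Agent.H10.BaseThree

universe u v

theorem exists_avoid {X : Type*} [CommGroup X] [Finite X] (Z : Set X)
    (hZ : Z.Nonempty → 4 * Z.ncard < Nat.card X) (x y : X) :
    ∃ z, z ∉ Z ∧ x * z ∉ Z ∧ z⁻¹ * y ∉ Z ∧ x * (z⁻¹ * y) ∉ Z := by
  rcases Z.eq_empty_or_nonempty with h | h
  · exact ⟨1, by simp [h]⟩
  have hlt := hZ h
  by_contra hc
  push Not at hc
  let S₁ := (fun a : X => x⁻¹ * a) '' Z
  let S₂ := (fun a : X => y * a⁻¹) '' Z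
  let S₃ := (fun a : X => x * y * a⁻¹) '' Z
  have hcov : (Set.univ : Set X) ⊆ Z ∪ S₁ ∪ S₂ ∪ S₃ := by
    intro z _
    by_cases h1 : z ∈ Z
    · exact Or.inl (Or.inl (Or.inl h1))
    by_cases h2 : x * z ∈ Z
    · exact Or.inl (Or.inl (Or.inr ⟨_, h2, by group⟩))
    by_cases h3 : z⁻¹ * y ∈ Z
    · refine Or.inl (Or.inr ⟨_, h3, ?_⟩)
      simp [mul_left_comm]
    refine Or.inr ⟨_, hc z h1 h2 h3, ?_⟩
    change x * y * (x * (z⁻¹ * y))⁻¹ = z
    rw [mul_left_comm x, mul_inv_rev, inv_inv, mul_inv_cancel_left]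
  have h0 := Set.ncard_le_ncard hcov (Set.toFinite _)
  rw [Set.ncard_univ] at h0
  have u1 := Set.ncard_union_le (Z ∪ S₁ ∪ S₂) S₃
  have u2 := Set.ncard_union_le (Z ∪ S₁) S₂
  have u3 := Set.ncard_union_le Z S₁
  have i1 : S₁.ncard ≤ Z.ncard := Set.ncard_image_le (Set.toFinite Z)
  have i2 : S₂.ncard ≤ Z.ncard := Set.ncard_image_le (Set.toFinite Z)
  have i3 : S₃.ncard ≤ Z.ncard := Set.ncard_image_le (Set.toFinite Z)
  omega

theorem two_ne_zero_of_odd {K : Type*} [Field K] [Finite K] (h : Nat.card K % 2 = 1) :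
    (2 : K) ≠ 0 := by
  let _ := Fintype.ofFinite K
  intro h2
  have hc : ringChar K = 2 := by
    have hd : ringChar K ∣ 2 := ringChar.dvd (by exact_mod_cast h2)
    exact ((Nat.dvd_prime Nat.prime_two).1 hd).resolve_left (CharP.ringChar_ne_one)
  have h0 := FiniteField.even_card_iff_char_two.1 hc
  rw [← Nat.card_eq_fintype_card] at h0
  omega

theorem exists_values {K : Type*} [Field K] [Finite K]
    (h : 3 ≤ Nat.card (powMonoidHom 4 : Kˣ →* Kˣ).range) :
    ∃ χ : K → Fin 3, ∀ z : K, z ≠ 0 → ∀ a : Fin 3, ∃ k : K, k ≠ 0 ∧ χ (k ^ 4 * z) = a := by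
  classical
  obtain ⟨χ, hχ⟩ := exists_three h
  refine ⟨fun z => if hz : z = 0 then 0 else χ (Units.mk0 z hz), fun z hz a => ?_⟩
  obtain ⟨k, hk⟩ := hχ (Units.mk0 z hz) a
  refine ⟨k, k.ne_zero, ?_⟩
  have hne : (k : K) ^ 4 * z ≠ 0 := mul_ne_zero (pow_ne_zero _ k.ne_zero) hz
  simp only [dif_neg hne]
  rw [← hk]
  congr 1
  exact Units.ext (by simp)

theorem regular2_generic {G : Type u} {V : Type v} [Group G] [AddCommGroup V]
    [DistribMulAction G V] [Finite G] [Finite V] {T B L : Subgroup G} {ζ : G} {v₀ : V}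
    (hLay : Cfsg.Agent.H10.BaseTwo.Layer G V T B L ζ v₀) {K : Type v} [Field K] [Finite K]
    (D : FieldData G V T K)
    (h4 : (∀ x ∈ B, ∀ y ∈ B, x ^ 2 ∈ cent B L → y ^ 2 ∈ cent B L → x ∉ cent B L → y ∉ cent B L →
        x⁻¹ * y ∈ cent B L) ∨
      3 ≤ Nat.card (powMonoidHom 4 : Kˣ →* Kˣ).range) :
    ∃ t : V × V, Cfsg.Agent.H10.BaseTwo.Regular2 G t := by
  classical
  have F := hLay.frame
  have hBn := hLay.bnormal
  have hTn := F.tnormal
  haveI := F.cent_normal
  let N := (cent B L).subgroupOf B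
  letI : CommGroup (B ⧸ N) :=
    { (inferInstance : Group (B ⧸ N)) with
      mul_comm := fun x y => by
        induction x using QuotientGroup.induction_on with
        | _ a =>
          induction y using QuotientGroup.induction_on with
          | _ b =>
            refine commutatorElement_eq_one_iff_mul_comm.1
              ((map_commutatorElement (QuotientGroup.mk' N) a b).symm.trans
                ((QuotientGroup.eq_one_iff _).2 ?_))
            exact F.tle_cent (F.comm (a : G) a.2 (b : G) b.2) }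
  letI := Fintype.ofFinite (B ⧸ N)
  obtain ⟨R, hR, hRx⟩ := F.expo
  have hord : ∀ q : B ⧸ N, orderOf q ∣ R := fun q => by
    induction q using QuotientGroup.induction_on with
    | _ b =>
      refine orderOf_dvd_of_pow_eq_one ?_
      rw [← QuotientGroup.mk_pow, QuotientGroup.eq_one_iff, Subgroup.mem_subgroupOf,
        Subgroup.coe_pow]
      exact F.tle_cent (hRx _ b.2)
  have hsf : ∀ q : B ⧸ N, Squarefree (orderOf q) := fun q => hR.squarefree_of_dvd (hord q)
  obtain ⟨Z, κ₂, κ, h1Z, hZcard, hrigid⟩ := exists_design (B ⧸ N) hsf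
  have hex : ∀ q : B ⧸ N, ∃ b : B, (b : B ⧸ N) = q ∧ (b : G) ^ orderOf q ∈ T ∧ (q = 1 → b = 1) := by
    intro q
    by_cases hq : q = 1
    · exact ⟨1, by simp [hq], by simp, fun _ => rfl⟩
    obtain ⟨r, hr⟩ := hord q
    have hcop : Nat.Coprime r (orderOf q) := (Nat.coprime_of_squarefree_mul (hr ▸ hR)).symm
    obtain ⟨m, hm⟩ := exists_pow_eq_self_of_coprime hcop
    refine ⟨(q.out ^ r) ^ m, ?_, ?_, fun h => absurd h hq⟩
    · simpa using hm
    · rw [Subgroup.coe_pow, Subgroup.coe_pow, ← pow_mul, ← pow_mul,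
        show r * (m * orderOf q) = R * m by rw [hr]; ring, pow_mul]
      exact pow_mem (hRx _ q.out.2) m
  choose rep hrep hrepT hrep1' using hex
  have hrep1 : rep 1 = 1 := hrep1' 1 rfl
  have hrepinj : ∀ p q, p ≠ q → ((rep p)⁻¹ * rep q : B) ∉ N := fun p q hne hmem => hne (by
    rw [← hrep p, ← hrep q]; exact QuotientGroup.eq.2 hmem)
  let uu : B ⧸ N → K := fun q => D.emb ⟨_, hrepT q⟩
  have hemb0 : ∀ t : T, D.emb t ≠ 0 := fun t => ((Group.isUnit t).map D.emb).ne_zero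
  have hu0 : ∀ q, uu q ≠ 0 := fun q => hemb0 _
  obtain ⟨s, hs⟩ := exists_half (two_ne_zero_of_odd D.odd_card)
  obtain ⟨χ, hχ⟩ : ∃ χ : K → Fin 3, ∀ q : B ⧸ N, orderOf q = 2 →
      ∃ k : K, k ≠ 0 ∧ χ (k ^ 4 * uu q ^ 2) = κ₂ q := by
    rcases h4 with h4 | h4
    · refine ⟨fun _ => if h : ∃ q : B ⧸ N, orderOf q = 2 then κ₂ h.choose else 0, fun q hq => ?_⟩
      refine ⟨1, one_ne_zero, ?_⟩
      have hex : ∃ q : B ⧸ N, orderOf q = 2 := ⟨q, hq⟩
      rw [dif_pos hex]
      refine congrArg κ₂ ?_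
      have hout : ∀ q : B ⧸ N, orderOf q = 2 →
          (rep q : G) ^ 2 ∈ cent B L ∧ (rep q : G) ∉ cent B L := fun q hq => by
        refine ⟨F.tle_cent (by simpa [hq] using hrepT q), fun h => ?_⟩
        have h1 : q = 1 := by
          rw [← hrep q, QuotientGroup.eq_one_iff, Subgroup.mem_subgroupOf]
          exact h
        simp [h1] at hq
      rw [← hrep q, ← hrep hex.choose, QuotientGroup.eq, Subgroup.mem_subgroupOf]
      obtain ⟨a1, a2⟩ := hout _ hex.choose_spec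
      obtain ⟨b1, b2⟩ := hout q hq
      exact h4 _ (rep hex.choose).2 _ (rep q).2 a1 b1 a2 b2
    · obtain ⟨χ, hχ⟩ := exists_values h4
      exact ⟨χ, fun q _ => hχ _ (pow_ne_zero _ (hu0 q)) _⟩
  have hkex : ∀ q : B ⧸ N, ∃ k : K, (k = 0 ↔ q ∈ Z) ∧
      (q ∉ Z → orderOf q = 2 → χ (k ^ 4 * uu q ^ 2) = κ₂ q) ∧
      (q ∉ Z → Odd (orderOf q) → s (k ^ orderOf q * uu q) = κ q) := by
    intro q
    by_cases hqZ : q ∈ Z
    · exact ⟨0, by simp [hqZ], fun h => absurd hqZ h, fun h => absurd hqZ h⟩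
    by_cases h2 : orderOf q = 2
    · obtain ⟨k, hk0, hk⟩ := hχ q h2
      exact ⟨k, by simp [hk0, hqZ], fun _ _ => hk, fun _ h => absurd (h2 ▸ h) (by decide)⟩
    by_cases hodd : Odd (orderOf q)
    · by_cases hcol : s (uu q) = κ q
      · exact ⟨1, by simp [hqZ], fun _ h => absurd h h2, fun _ _ => by simpa using hcol⟩
      · refine ⟨-1, by simp [hqZ], fun _ h => absurd h h2, fun _ _ => ?_⟩
        rw [hodd.neg_one_pow, neg_one_mul, hs _ (hu0 q)]
        revert hcol
        cases s (uu q) <;> cases κ q <;> simp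
    · exact ⟨1, by simp [hqZ], fun _ h => absurd h h2, fun _ h => absurd h hodd⟩
  choose k hkZ hk2 hkodd using hkex
  obtain ⟨i, j, w, a, b, hi, hj, ⟨n₀, l₀, hl₀, hjn⟩, hgenC, hw0, hwL, hstab, hiw⟩ :=
    exists_pair_data hLay D
  let γ : B ⧸ N → V := fun q => if q = 1 then j • w else D.op (k q) w
  refine ⟨(w, ∑ q, (rep q : G) • γ q), fun g hg1 hg2 => ?_⟩
  have hinvfix : ∀ x : G, x • w = w → x⁻¹ • w = w := fun x hx => by
    rw [inv_smul_eq_iff]; exact hx.symm
  have hnormL : ∀ x : G, x • w = w → ∀ l ∈ L, x * l * x⁻¹ ∈ L := fun x hx l hl =>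
    hstab _ (hBn.conj_mem l (F.lle hl) x) (by
      rw [mul_smul, mul_smul, hinvfix x hx, hwL l hl, hx])
  have hgfix : ∀ z : V, (∀ l ∈ L, l • z = z) → ∀ l ∈ L, l • g • z = g • z := fun z hz l hl => by
    have h := hz _ (hnormL g⁻¹ (hinvfix g hg1) l hl)
    rw [inv_inv, mul_smul, mul_smul, inv_smul_eq_iff] at h
    exact h
  have hBT : ∀ x ∈ B, ∀ t ∈ T, x * t = t * x := fun x hx t ht => (F.central t ht x hx).symm
  have hγL : ∀ q, ∀ l ∈ L, l • γ q = γ q := fun q l hl => by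
    simp only [γ]; split_ifs
    · rw [smul_smul, (mem_cent.1 hj).2 l hl, mul_smul, hwL l hl]
    · rw [D.op_comm l (hBT l (F.lle hl)), hwL l hl]
  have hcentconj : ∀ x : G, x • w = w → ∀ c ∈ cent B L, x * c * x⁻¹ ∈ cent B L := by
    intro x hx c hc
    refine mem_cent.2 ⟨hBn.conj_mem c (mem_cent.1 hc).1 x, fun l hl => ?_⟩
    have h := (mem_cent.1 hc).2 _ (hnormL x⁻¹ (hinvfix x hx) l hl)
    rw [inv_inv] at h
    calc l * (x * c * x⁻¹) = x * (x⁻¹ * l * x * c) * x⁻¹ := by group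
      _ = x * (c * (x⁻¹ * l * x)) * x⁻¹ := by rw [h]
      _ = x * c * x⁻¹ * l := by group
  let φ : B ⧸ N →* B ⧸ N := QuotientGroup.map N N ((MulAut.conjNormal g : B ≃* B) : B →* B)
    (fun c hc => by
      rw [Subgroup.mem_comap, Subgroup.mem_subgroupOf]
      exact hcentconj g hg1 _ hc)
  have hφmk : ∀ y : B, φ (y : B ⧸ N) = ((MulAut.conjNormal g y : B) : B ⧸ N) := fun y => rfl
  have hφinj : Function.Injective φ := by
    rw [injective_iff_map_eq_one]
    intro x hx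
    induction x using QuotientGroup.induction_on with
    | _ y =>
      rw [hφmk, QuotientGroup.eq_one_iff, Subgroup.mem_subgroupOf, MulAut.conjNormal_apply] at hx
      rw [QuotientGroup.eq_one_iff, Subgroup.mem_subgroupOf]
      have := hcentconj g⁻¹ (hinvfix g hg1) _ hx
      group at this
      exact this
  let φe : (B ⧸ N) ≃ (B ⧸ N) := Equiv.ofBijective φ (Finite.injective_iff_bijective.1 hφinj)
  let c : B ⧸ N → G := fun q => (rep (φ q) : G)⁻¹ * (g * (rep q : G) * g⁻¹)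
  have hc : ∀ q, c q ∈ cent B L := fun q => by
    have h : ((MulAut.conjNormal g (rep q) : B) : B ⧸ N) = φ q := by rw [← hφmk, hrep]
    have h2 := QuotientGroup.eq.1 ((hrep (φ q)).trans h.symm)
    rw [Subgroup.mem_subgroupOf] at h2
    simpa [c, MulAut.conjNormal_apply] using h2
  have hmove : ∀ q, c q • g • γ q = γ (φ q) := by
    intro q
    have hu : ∀ q', ∀ l ∈ L, l • (c (φe.symm q') • g • γ (φe.symm q')) =
        c (φe.symm q') • g • γ (φe.symm q') := fun q' l hl => by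
      rw [smul_smul, (mem_cent.1 (hc _)).2 l hl, mul_smul, hgfix _ (hγL _) l hl]
    have hsum : ∑ q', (rep q' : G) • (c (φe.symm q') • g • γ (φe.symm q')) =
        ∑ q, (rep q : G) • γ q := by
      rw [← Fintype.sum_equiv φe (fun x => g • (rep x : G) • γ x) _ fun x => ?_, ← Finset.smul_sum]
      · exact hg2
      rw [Equiv.symm_apply_apply]
      change g • (rep x : G) • γ x = (rep (φ x) : G) • c x • g • γ x
      simp only [c, smul_smul]
      congr 1; group
    have := congrFun (hLay.uniq _ rep hrepinj _ _ hu hγL hsum) (φe q)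
    rw [Equiv.symm_apply_apply] at this
    exact this
  have hc1 : c 1 = 1 := by simp [c, hrep1]
  have hjw : g • j • w = j • w := by
    have h := hmove 1
    rw [hc1, one_smul, map_one] at h
    simpa [γ] using h
  let S : Subgroup G :=
    { carrier := {x | x ∈ cent B L ∧ x⁻¹ * (g * x * g⁻¹) ∈ L}
      mul_mem' := fun {a b} ha hb => ⟨mul_mem ha.1 hb.1, by
        have h := (mem_cent.1 hb.1).2 _ ha.2
        have : (a * b)⁻¹ * (g * (a * b) * g⁻¹) =
            a⁻¹ * (g * a * g⁻¹) * (b⁻¹ * (g * b * g⁻¹)) := by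
          calc (a * b)⁻¹ * (g * (a * b) * g⁻¹)
              = b⁻¹ * (a⁻¹ * (g * a * g⁻¹) * b) * (b⁻¹ * (g * b * g⁻¹)) := by group
            _ = _ := by rw [h]; group
        rw [this]; exact L.mul_mem ha.2 hb.2⟩
      one_mem' := ⟨one_mem _, by group; exact L.one_mem⟩
      inv_mem' := fun {a} ha => ⟨inv_mem ha.1, by
        have h := (mem_cent.1 ha.1).2 _ (L.inv_mem ha.2)
        have : a⁻¹⁻¹ * (g * a⁻¹ * g⁻¹) = (a⁻¹ * (g * a * g⁻¹))⁻¹ := by
          calc a⁻¹⁻¹ * (g * a⁻¹ * g⁻¹) = a * (a⁻¹ * (g * a * g⁻¹))⁻¹ * a⁻¹ := by group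
            _ = _ := by rw [← h]; group
        rw [this]; exact L.inv_mem ha.2⟩ }
  have hdisp : ∀ x ∈ B, g • x • w = x • w → x⁻¹ * (g * x * g⁻¹) ∈ L := fun x hx hxw => by
    refine hstab _ (mul_mem (inv_mem hx) (hBn.conj_mem x hx g)) ?_
    rw [mul_smul, inv_smul_eq_iff, mul_smul, mul_smul, hinvfix g hg1, hxw]
  have hjS : j ∈ S := ⟨hj, hdisp j (mem_cent.1 hj).1 hjw⟩
  have hζeq : g * ζ * g⁻¹ = ζ := by
    have h1 : j ^ n₀ ∈ S := pow_mem hjS n₀
    have h2 : l₀ ∈ S := ⟨F.le_cent hl₀, L.mul_mem (L.inv_mem hl₀) (hnormL g hg1 l₀ hl₀)⟩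
    have h3 : ζ ∈ S := by
      have := S.mul_mem (S.inv_mem h2) h1
      rwa [hjn, inv_mul_cancel_left] at this
    have h4 : ζ⁻¹ * (g * ζ * g⁻¹) ∈ L ⊓ T :=
      ⟨h3.2, T.mul_mem (T.inv_mem F.zeta_mem) (hTn.conj_mem ζ F.zeta_mem g)⟩
    rw [F.linf, Subgroup.mem_bot] at h4
    exact (inv_mul_eq_one.1 h4).symm
  have hgT : ∀ t ∈ T, g * t = t * g := fun t ht => by
    rw [F.tgen] at ht
    obtain ⟨m, rfl⟩ := Subgroup.mem_zpowers_iff.1 ht
    exact ((show Commute g ζ from mul_inv_eq_iff_eq_mul.1 hζeq).zpow_right m)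
  have hiwfix : g • i • w = i • w := by
    rw [hiw, smul_add, D.op_comm g hgT, D.op_comm g hgT, hg1, hjw]
  have hgenS : ∀ x ∈ cent B L, x ∈ S := fun x hx => by
    refine (sup_le (sup_le (sup_le ?_ ?_) ?_) ?_ : L ⊔ T ⊔ _ ⊔ _ ≤ S) (hgenC hx)
    · exact fun l hl => ⟨F.le_cent hl, L.mul_mem (L.inv_mem hl) (hnormL g hg1 l hl)⟩
    · exact fun t ht => ⟨F.tle_cent ht, by rw [hgT t ht]; group; exact L.one_mem⟩
    · exact Subgroup.zpowers_le.2 ⟨hi, hdisp i (mem_cent.1 hi).1 hiwfix⟩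
    · exact Subgroup.zpowers_le.2 hjS
  -- the shape of `c q`
  have hcT : ∀ q, ∀ t ∈ T, c q * t = t * c q := fun q => hBT _ (mem_cent.1 (hc q)).1
  have hmovek : ∀ q, q ≠ 1 → D.op (k q) (c q • w) = D.op (k (φ q)) w := fun q hq => by
    have hφq : φ q ≠ 1 := fun h => hq (hφinj (h.trans (map_one φ).symm))
    have h := hmove q
    simp only [γ, if_neg hq, if_neg hφq] at h
    rwa [D.op_comm g hgT, hg1, D.op_comm (c q) (hcT q)] at h
  have hop0 : ∀ x : V, D.op 0 x = 0 := fun x => by rw [map_zero]; rfl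
  have hopmul : ∀ (a b : K) (x : V), D.op (a * b) x = D.op a (D.op b x) := fun a b x => by
    rw [map_mul]; rfl
  have hopinj : ∀ a b : K, D.op a w = D.op b w → a = b := fun a b h => by
    refine sub_eq_zero.1 ((D.op_zero (a - b) w ?_).resolve_right hw0)
    rw [map_sub]
    exact sub_eq_zero.2 h
  have hZiff : ∀ q, φ q ∈ Z ↔ q ∈ Z := fun q => by
    by_cases hq : q = 1
    · simp [hq, map_one]
    rw [← hkZ q, ← hkZ (φ q)]
    have h := hmovek q hq
    constructor
    · intro h0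
      rw [h0, hop0] at h
      exact (D.op_zero _ _ h).resolve_right fun h' => hw0 ((smul_eq_zero_iff_eq _).1 h')
    · intro h0
      rw [h0, hop0] at h
      exact (D.op_zero _ _ h.symm).resolve_right hw0
  have hρ : ∀ q, q ≠ 1 → q ∉ Z → c q • w = D.op (k (φ q) / k q) w := fun q hq hqZ => by
    have hk0 : k q ≠ 0 := fun h => hqZ ((hkZ q).1 h)
    have h := congrArg (fun x => D.op (k q)⁻¹ x) (hmovek q hq)
    simp only [← hopmul] at h
    rwa [inv_mul_cancel₀ hk0, map_one, ← div_eq_inv_mul] at h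
  have hphase : ∀ q, q ≠ 1 → q ∉ Z → ∃ e : T, e ^ orderOf q = 1 ∧
      k q ^ orderOf q * uu q =
        k (φ q) ^ orderOf q * uu (φ q) * D.emb e ^ (orderOf q).choose 2 := by
    intro q hq hqZ
    set n := orderOf q
    have hn' : orderOf (φ q) = n := orderOf_injective φ hφinj q
    have hb' := (rep (φ q)).2
    have hcB := (mem_cent.1 (hc q)).1
    have hk0 : k q ≠ 0 := fun h => hqZ ((hkZ q).1 h)
    let e : T := ⟨⁅c q, (rep (φ q) : G)⁆, F.comm _ hcB _ hb'⟩
    refine ⟨e, Subtype.ext ?_, ?_⟩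
    · change ⁅c q, (rep (φ q) : G)⁆ ^ n = 1
      rw [← F.comm_pow_right hcB hb', commutatorElement_eq_one_iff_mul_comm]
      exact hcT q _ (hn' ▸ hrepT (φ q))
    have hgrp : ((rep (φ q) : G) * c q) ^ n = (rep q : G) ^ n := by
      rw [show (rep (φ q) : G) * c q = g * (rep q : G) * g⁻¹ by simp only [c]; group, conj_pow,
        hgT _ (hrepT q), mul_inv_cancel_right]
    rw [F.mul_pow_two_class hb' hcB] at hgrp
    have hρn : ∀ m : ℕ, (c q) ^ m • w = D.op ((k (φ q) / k q) ^ m) w := by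
      intro m
      induction m with
      | zero => rw [pow_zero, pow_zero, one_smul, map_one]; rfl
      | succ m ih =>
        rw [pow_succ', mul_smul, ih, D.op_comm _ (hcT q), hρ q hq hqZ, ← hopmul, ← pow_succ]
    have hT' : (rep (φ q) : G) ^ n ∈ T := hn' ▸ hrepT (φ q)
    have heq : D.emb ⟨_, hrepT q⟩ =
        D.emb ⟨_, hT'⟩ * ((k (φ q) / k q) ^ n * D.emb e ^ n.choose 2) := by
      refine hopinj _ _ ?_
      rw [D.op_emb, hopmul, D.op_emb, hopmul, ← map_pow, D.op_emb]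
      change (rep q : G) ^ n • w =
        (rep (φ q) : G) ^ n • D.op ((k (φ q) / k q) ^ n) (((e ^ n.choose 2 : T) : G) • w)
      rw [← D.op_comm _ (hBT _ (F.tle (e ^ n.choose 2 : T).2)), ← hρn, smul_smul, smul_smul]
      congr 1
      rw [← hgrp, Subgroup.coe_pow, mul_assoc, mul_assoc,
        F.central _ (pow_mem e.2 _) _ (pow_mem hcB _)]
    change k q ^ n * D.emb ⟨_, hrepT q⟩ = k (φ q) ^ n * D.emb ⟨_, hrepT (φ q)⟩ * _
    rw [heq, show (⟨(rep (φ q) : G) ^ n, hT'⟩ : T) = ⟨_, hrepT (φ q)⟩ from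
      Subtype.ext (by simp only [hn']), div_pow]
    field_simp
  have hφid : ∀ q, φ q = q := by
    refine hrigid φ hφinj hZiff (fun q hqZ h2 => ?_) fun q hqZ hq1 hodd => ?_
    · have hq1 : q ≠ 1 := fun h => by simp [h] at h2
      have hφZ : φ q ∉ Z := fun h => hqZ ((hZiff q).1 h)
      have hn' : orderOf (φ q) = 2 := (orderOf_injective φ hφinj q).trans h2
      obtain ⟨e, he, heq⟩ := hphase q hq1 hqZ
      rw [h2] at he heq
      rw [← hk2 q hqZ h2, ← hk2 (φ q) hφZ hn']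
      congr 1
      have h1 : D.emb e ^ 2 = 1 := by rw [← map_pow, he, map_one]
      have h2' := congrArg (fun z => z ^ 2) heq
      norm_num [Nat.choose_self] at h2'
      linear_combination h2'.symm + (k (φ q) ^ 4 * uu (φ q) ^ 2) * h1.symm
    · have hφZ : φ q ∉ Z := fun h => hqZ ((hZiff q).1 h)
      have hn' : orderOf (φ q) = orderOf q := orderOf_injective φ hφinj q
      obtain ⟨e, he, heq⟩ := hphase q hq1 hqZ
      rw [← hkodd q hqZ hodd, ← hkodd (φ q) hφZ (hn'.symm ▸ hodd), hn']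
      congr 1
      obtain ⟨m, hm⟩ := hodd
      have h2 : (orderOf q).choose 2 = orderOf q * m := by
        rw [Nat.choose_two_right, show orderOf q - 1 = 2 * m by omega, mul_left_comm,
          Nat.mul_div_cancel_left _ (by norm_num)]
      rw [heq, h2, pow_mul, ← map_pow, he, map_one, one_pow, mul_one]
  have hcL : ∀ q, q ∉ Z → c q ∈ L := fun q hqZ => by
    by_cases hq : q = 1
    · rw [hq, hc1]; exact L.one_mem
    refine hstab _ (mem_cent.1 (hc q)).1 ?_
    have hk0 : k q ≠ 0 := fun h => hqZ ((hkZ q).1 h)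
    rw [hρ q hq hqZ, hφid q, div_self hk0, map_one]
    rfl
  have hlam : ∀ y : B, (y : B ⧸ N) ∉ Z → (y : G)⁻¹ * (g * (y : G) * g⁻¹) ∈ L := by
    intro y hy
    refine hdisp y y.2 ?_
    set q : B ⧸ N := (y : B ⧸ N)
    have hr : (rep q : G)⁻¹ * (y : G) ∈ cent B L := by
      have := QuotientGroup.eq.1 (hrep q : (rep q : B ⧸ N) = (y : B ⧸ N))
      rwa [Subgroup.mem_subgroupOf] at this
    set x := (rep q : G)⁻¹ * (y : G) with hx
    have hl' := (hgenS x hr).2
    have h1 : g * (y : G) * g⁻¹ = (rep q : G) * c q * (x * (x⁻¹ * (g * x * g⁻¹))) := by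
      simp only [c, hφid q, hx]; group
    calc g • (y : G) • w = (g * (y : G) * g⁻¹) • w := by rw [mul_smul, mul_smul, hinvfix g hg1]
      _ = (rep q : G) • c q • x • w := by
        rw [h1, mul_smul, mul_smul x, hwL _ hl', mul_smul]
      _ = (y : G) • w := by
        rw [smul_smul (c q), (mem_cent.1 hr).2 _ (hcL q hy), mul_smul, hwL _ (hcL q hy), hx,
          ← mul_smul, mul_inv_cancel_left]
  have hkey : ∀ x y : B, (x : G)⁻¹ * (g * (x : G) * g⁻¹) ∈ L → (y : G)⁻¹ * (g * (y : G) * g⁻¹) ∈ L →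
      ((x * y : B) : G)⁻¹ * (g * ((x * y : B) : G) * g⁻¹) ∈ L →
      ⁅(x : G)⁻¹ * (g * (x : G) * g⁻¹), (y : G)⁆ = 1 := by
    intro x y hx hy hxy
    set l := (x : G)⁻¹ * (g * (x : G) * g⁻¹) with hldef
    have h1 : (y : G)⁻¹ * l * (y : G) ∈ L := by
      have h := L.mul_mem hxy (L.inv_mem hy)
      rw [show ((x * y : B) : G)⁻¹ * (g * ((x * y : B) : G) * g⁻¹) *
        ((y : G)⁻¹ * (g * (y : G) * g⁻¹))⁻¹ = (y : G)⁻¹ * l * (y : G) by
          rw [hldef, Subgroup.coe_mul]; group] at h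
      exact h
    have h2 : ⁅(y : G)⁻¹, l⁆ ∈ L ⊓ T := by
      refine ⟨?_, F.comm _ (inv_mem y.2) l (F.lle hx)⟩
      rw [commutatorElement_def, inv_inv]
      exact L.mul_mem h1 (L.inv_mem hx)
    rw [F.linf, Subgroup.mem_bot] at h2
    have h3 := commutatorElement_eq_one_iff_mul_comm.1 h2
    refine commutatorElement_eq_one_iff_mul_comm.2 ?_
    calc l * (y : G) = (y : G) * ((y : G)⁻¹ * l) * (y : G) := by group
      _ = (y : G) * (l * (y : G)⁻¹) * (y : G) := by rw [h3]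
      _ = (y : G) * l := by group
  have hout : ∀ x : B, (x : B ⧸ N) ∉ Z → Commute g (x : G) := by
    intro x hx
    have hl := hlam x hx
    have hz : (x : G)⁻¹ * (g * (x : G) * g⁻¹) ∈ L ⊓ T := by
      refine ⟨hl, F.centre _ (F.lle hl) fun y hy => commutatorElement_eq_one_iff_mul_comm.1 ?_⟩
      obtain ⟨z, hz1, hz2, hz3, hz4⟩ := exists_avoid Z hZcard (x : B ⧸ N) ((⟨y, hy⟩ : B) : B ⧸ N)
      induction z using QuotientGroup.induction_on with
      | _ z =>
        have ha := hkey x z hl (hlam z hz1) (hlam (x * z) (by rwa [QuotientGroup.mk_mul]))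
        have hb := hkey x (z⁻¹ * ⟨y, hy⟩) hl (hlam _ (by
          rwa [QuotientGroup.mk_mul, QuotientGroup.mk_inv]))
          (hlam _ (by rwa [QuotientGroup.mk_mul, QuotientGroup.mk_mul, QuotientGroup.mk_inv]))
        have := F.comm_mul_right (F.lle hl) z.2 (z⁻¹ * ⟨y, hy⟩ : B).2
        rw [ha, hb, one_mul] at this
        simpa using this
    rw [F.linf, Subgroup.mem_bot] at hz
    exact mul_inv_eq_iff_eq_mul.1 (inv_mul_eq_one.1 hz).symm
  have hgB : ∀ y ∈ B, g * y = y * g := by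
    intro y hy
    obtain ⟨z, hz1, -, hz3, -⟩ := exists_avoid Z hZcard 1 ((⟨y, hy⟩ : B) : B ⧸ N)
    induction z using QuotientGroup.induction_on with
    | _ z =>
      have h := (hout z hz1).mul_right (hout (z⁻¹ * ⟨y, hy⟩) (by
        rwa [QuotientGroup.mk_mul, QuotientGroup.mk_inv]))
      simpa using h.eq
  intro z
  rw [hLay.fpf g (hLay.self g hgT hgB) w hw0 hg1, one_smul]

end Cfsg.Agent.H81.BaseTwo
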