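import Mathlib
import Cfsg.Agent.H81.BaseTwo.Field
import Cfsg.Agent.H81.BaseTwo.MaxLayer
import Cfsg.Agent.H10.BaseTwo.OddPrimitive

/-!
# Enlarging the group until the centre of the layer is the whole group of scalars
-/

namespace Cfsg.Agent.H81.BaseTwo

open scoped commutatorElement
open Cfsg.Agent.H10.BaseThree

universe u v

/-- All the data of a group that is maximal among solvable `p'`-groups without blocks. -/
structure Full (G : Type u) (V : Type v) [Group G] [AddCommGroup V] [DistribMulAction G V]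
    (p : ℕ) (T B L : Subgroup G) (ζ : G) (v₀ : V) (K : Type v) [Field K] where
  /-- the field data -/
  data : FieldData G V T K
  layer : Cfsg.Agent.H10.BaseTwo.Layer G V T B L ζ v₀
  irred : Irred G V
  faith : ∀ g : G, (∀ v : V, g • v = v) → g = 1
  noblock : ∀ e : AddMonoid.End V, ¬ IsBlock G e
  coprime : ¬ p ∣ Nat.card G
  max : ∀ A : Subgroup G, A.Normal → T ≤ A → (∀ a ∈ A, ∀ b ∈ A, a * b = b * a) → A ≤ T
  full : ∀ k : K, k ≠ 0 → ∃ t : T, data.emb t = k

/-- It is enough to treat the maximal groups. -/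
theorem exists_pair_of_full {G : Type u} {V : Type v} [Group G] [AddCommGroup V]
    [DistribMulAction G V] [Finite G] [Finite V] [Group.IsSolvable G] {p : ℕ} (hp : p.Prime)
    (hp2 : p ≠ 2) (hpV : ∀ v : V, p • v = 0) (hpG : ¬ p ∣ Nat.card G) (hirr : Irred G V)
    (hnb : ∀ e : AddMonoid.End V, ¬ IsBlock G e)
    (hmain : ∀ (H : Subgroup (AddMonoid.End V)ˣ) [Group.IsSolvable H] (T B L : Subgroup H) (ζ : H)
      (v₀ : V) (K : Type v) [Field K] [Finite K], Full H V p T B L ζ v₀ K →
        ∃ t : V × V, Cfsg.Agent.H10.BaseTwo.Regular2 H t) :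
    ∃ t : V × V, Cfsg.Agent.H10.BaseTwo.Regular2 G t := by
  classical
  have := hirr.1
  let ρ : G →* (AddMonoid.End V)ˣ := (DistribMulAction.toAddMonoidEnd G V).toHomUnits
  have hρ : ∀ (g : G) (v : V), ρ g • v = g • v := fun g v => rfl
  let Fam : Set (Subgroup (AddMonoid.End V)ˣ) :=
    {H | Group.IsSolvable H ∧ ¬ p ∣ Nat.card H}
  have h0 : ρ.range ∈ Fam :=
    ⟨Group.isSolvable_of_surjective ρ.rangeRestrict_surjective,
      fun h => hpG (h.trans (Subgroup.card_range_dvd ρ))⟩
  obtain ⟨H, hGH, ⟨⟨hsol, hpH⟩, hHmax⟩⟩ := (Set.toFinite Fam).exists_le_maximal h0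
  let ι : G →* H := ρ.codRestrict H fun g => hGH ⟨g, rfl⟩
  have hι : ∀ (g : G) (v : V), ι g • v = g • v := fun g v => rfl
  have hirr' : Irred H V := ⟨hirr.1, fun U hU => hirr.2 U fun g v hv => hι g v ▸ hU (ι g) v hv⟩
  have hfaith : ∀ g : H, (∀ v : V, g • v = v) → g = 1 := fun g hg =>
    Subtype.ext (Units.ext (AddMonoidHom.ext hg))
  have hnb' : ∀ e : AddMonoid.End V, ¬ IsBlock H e := fun e he => hnb e
    ⟨he.idem, he.ne_zero, he.ne_one, fun g hg => by
      have h : cnj (ι g) e = cnj g e := by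
        ext v
        rw [cnj_apply, cnj_apply, ← map_inv, hι, hι]
      rw [← h] at hg ⊢
      exact he.orth _ hg⟩
  suffices ht : ∃ t : V × V, Cfsg.Agent.H10.BaseTwo.Regular2 H t by
    obtain ⟨t, ht⟩ := ht
    exact ⟨t, fun g h1 h2 w => ht (ι g) h1 h2 w⟩
  rcases subsingleton_or_nontrivial H with hsub | hnt
  · exact ⟨(0, 0), fun g _ _ w => by rw [Subsingleton.elim g 1, one_smul]⟩
  obtain ⟨T, B, L, ζ, v₀, hLay, hmax⟩ := exists_max_layer_data hirr' hfaith hnb'
  have hTn := hLay.frame.tnormal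
  have hTc : ∀ a ∈ T, ∀ b ∈ T, a * b = b * a := fun a ha b hb =>
    hLay.frame.central a ha b (hLay.frame.tle hb)
  obtain ⟨K, _, _, ⟨D⟩⟩ := exists_fieldData hirr' hfaith hnb' hTc hp hp2 hpV
  refine hmain H T B L ζ v₀ K ⟨D, hLay, hirr', hfaith, hnb', hpH, hmax, ?_⟩
  -- the units of `K` normalise `H`
  let μ : Kˣ →* (AddMonoid.End V)ˣ := Units.map (D.op : K →* AddMonoid.End V)
  have hμ : ∀ (k : Kˣ) (v : V), μ k • v = D.op (k : K) v := fun k v => rfl
  let U := μ.range
  have hnorm : H ≤ Subgroup.normalizer (U : Set (AddMonoid.End V)ˣ) := by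
    have hle : ∀ h : H, ∀ x ∈ U, (h : (AddMonoid.End V)ˣ) * x * (h : (AddMonoid.End V)ˣ)⁻¹ ∈ U := by
      rintro h _ ⟨k, rfl⟩
      obtain ⟨k', hk'⟩ := D.op_conj h k
      have hk0 : k' ≠ 0 := fun h0 => by
        obtain ⟨v, hv⟩ := exists_ne (0 : V)
        have h1 := hk' v
        rw [h0, map_zero] at h1
        have h2 : D.op (k : K) v = 0 := (smul_eq_zero_iff_eq h).1 h1
        exact k.ne_zero ((D.op_zero _ _ h2).resolve_right hv)
      refine ⟨Units.mk0 k' hk0, Units.ext (AddMonoidHom.ext fun v => ?_)⟩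
      change D.op k' v = h • μ k • h⁻¹ • v
      rw [hμ, hk', smul_inv_smul]
    intro h hh
    rw [Subgroup.mem_normalizer_iff]
    intro x
    refine ⟨hle ⟨h, hh⟩ x, fun hx => ?_⟩
    have h' := hle ⟨h, hh⟩⁻¹ _ hx
    simpa [mul_assoc] using h'
  let J := H ⊔ U
  have hmem : ∀ x ∈ J, ∃ h ∈ H, ∃ y ∈ U, h * y = x := fun x hx => by
    have hx' : x ∈ ((H ⊔ U : Subgroup (AddMonoid.End V)ˣ) : Set (AddMonoid.End V)ˣ) := hx
    rw [Subgroup.coe_mul_of_left_le_normalizer_right _ _ hnorm] at hx'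
    obtain ⟨a, ha, b, hb, rfl⟩ := hx'
    exact ⟨a, ha, b, hb, rfl⟩
  have hJnorm : J ≤ Subgroup.normalizer (U : Set (AddMonoid.End V)ˣ) :=
    sup_le hnorm Subgroup.le_normalizer
  let U' : Subgroup J := U.subgroupOf J
  haveI : U'.Normal := Subgroup.normal_subgroupOf_of_le_normalizer hJnorm
  let f : H →* J ⧸ U' := (QuotientGroup.mk' U').comp (Subgroup.inclusion le_sup_left)
  have hf : Function.Surjective f := by
    intro q
    induction q using QuotientGroup.induction_on with
    | _ x =>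
      obtain ⟨h, hh, y, hy, hxy⟩ := hmem x x.2
      refine ⟨⟨h, hh⟩, QuotientGroup.eq.2 ?_⟩
      rw [Subgroup.mem_subgroupOf]
      simpa [← hxy] using hy
  have hU : Group.IsSolvable U := Group.isSolvable_of_surjective μ.rangeRestrict_surjective
  have hJ : J ∈ Fam := by
    refine ⟨?_, fun hd => ?_⟩
    · haveI : Group.IsSolvable U' := Group.isSolvable_of_surjective
        (f := (Subgroup.subgroupOfEquivOfLe (le_sup_right : U ≤ J)).symm.toMonoidHom)
        (MulEquiv.surjective _)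
      haveI : Group.IsSolvable (J ⧸ U') := Group.isSolvable_of_surjective hf
      exact Group.isSolvable_of_ker_le_range U'.subtype (QuotientGroup.mk' U') (by simp)
    · rw [Subgroup.card_eq_card_quotient_mul_card_subgroup U'] at hd
      rcases hp.dvd_mul.1 hd with h | h
      · exact hpH (h.trans (Subgroup.card_dvd_of_surjective f hf))
      · rw [Nat.card_congr (Subgroup.subgroupOfEquivOfLe (le_sup_right : U ≤ J)).toEquiv] at h
        have hpK : p ∣ Nat.card K := by
          have hchar : (p : K) = 0 := by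
            obtain ⟨v, hv⟩ := exists_ne (0 : V)
            refine (D.op_zero _ v ?_).resolve_right hv
            rw [map_natCast, AddMonoid.End.natCast_apply, hpV]
          haveI : CharP K p := (CharP.charP_iff_prime_eq_zero hp).2 hchar
          letI := Fintype.ofFinite K
          obtain ⟨n, -, hn⟩ := FiniteField.card K p
          rw [Nat.card_eq_fintype_card, hn]
          exact dvd_pow_self p n.ne_zero
        have h' := h.trans (Subgroup.card_range_dvd μ)
        rw [Nat.card_units] at h'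
        have hpos : 0 < Nat.card K := Nat.card_pos
        have := Nat.dvd_sub hpK h'
        rw [show Nat.card K - (Nat.card K - 1) = 1 by omega] at this
        exact hp.one_lt.ne' (Nat.dvd_one.1 this)
  have hUH : U ≤ H := le_sup_right.trans (hHmax hJ le_sup_left)
  -- they form an abelian normal subgroup containing `T`
  let A : Subgroup H := U.subgroupOf H
  have hAn : A.Normal := Subgroup.normal_subgroupOf_of_le_normalizer hnorm
  have hAc : ∀ a ∈ A, ∀ b ∈ A, a * b = b * a := by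
    intro a ha b hb
    obtain ⟨i, hi⟩ := Subgroup.mem_subgroupOf.1 ha
    obtain ⟨j, hj⟩ := Subgroup.mem_subgroupOf.1 hb
    exact Subtype.ext (by rw [Subgroup.coe_mul, Subgroup.coe_mul, ← hi, ← hj, ← map_mul, mul_comm, map_mul])
  have hTA : T ≤ A := fun t ht => Subgroup.mem_subgroupOf.2 ⟨Units.mk0 (D.emb ⟨t, ht⟩)
      ((Group.isUnit (⟨t, ht⟩ : T)).map D.emb).ne_zero,
    Units.ext (AddMonoidHom.ext fun v => D.op_emb ⟨t, ht⟩ v)⟩
  intro k hk
  have hkA : (⟨μ (Units.mk0 k hk), hUH ⟨_, rfl⟩⟩ : H) ∈ A := Subgroup.mem_subgroupOf.2 ⟨_, rfl⟩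
  refine ⟨⟨_, hmax A hAn hTA hAc hkA⟩, ?_⟩
  obtain ⟨v, hv⟩ := exists_ne (0 : V)
  refine sub_eq_zero.1 ((D.op_zero _ v ?_).resolve_right hv)
  rw [map_sub]
  exact sub_eq_zero.2 (D.op_emb _ v)

end Cfsg.Agent.H81.BaseTwo
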