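import Mathlib
import Cfsg.Agent.H81.BaseTwo.Block

/-!
# Splitting a block of rank two when the scalars contain a square root of `-1`
-/

namespace Cfsg.Agent.H81.BaseTwo

open scoped commutatorElement
open Cfsg.Agent.H10.BaseThree Pauli

universe u v

variable {G : Type u} [Group G] {T B L : Subgroup G} {ζ : G}

/-- With a centre of two-power order the layer has exponent two over its centre. -/
theorem sq_mem_centre (F : Frame T B L ζ) (h2 : ∃ k, Nat.card T = 2 ^ k) {x : G} (hx : x ∈ B) :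
    x ^ 2 ∈ T := by
  obtain ⟨R, hR, hRx⟩ := F.expo
  obtain ⟨k, hk⟩ := h2
  refine F.centre _ (pow_mem hx 2) fun b hb => commutatorElement_eq_one_iff_mul_comm.1 ?_
  rw [F.comm_pow_left hx hb]
  have h1 : ⁅x, b⁆ ^ R = 1 := by
    rw [← F.comm_pow_left hx hb]
    exact commutatorElement_eq_one_iff_mul_comm.2 (F.central _ (hRx x hx) b hb)
  have h3 : ⁅x, b⁆ ^ Nat.card T = 1 :=
    congrArg Subtype.val (pow_card_eq_one' (x := (⟨⁅x, b⁆, F.comm x hx b hb⟩ : T)))
  have hg := pow_gcd_eq_one.2 ⟨h1, h3⟩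
  have hd : Nat.gcd R (Nat.card T) ∣ 2 := by
    rw [hk]
    obtain ⟨j, -, hj⟩ := (Nat.dvd_prime_pow Nat.prime_two).1 (Nat.gcd_dvd_right R (2 ^ k))
    have hs : Squarefree (2 ^ j : ℕ) := hR.squarefree_of_dvd (hj ▸ Nat.gcd_dvd_left R (2 ^ k))
    rw [hj]
    rcases Nat.lt_or_ge j 2 with h | h
    · exact pow_dvd_pow 2 (by omega : j ≤ 1) |>.trans (by simp)
    · exact absurd (hs 2 (by rw [← pow_two]; exact pow_dvd_pow 2 h)) (by decide)
  obtain ⟨m, hm⟩ := hd
  rw [hm, pow_mul, hg, one_pow]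

section Field

variable {K : Type*} [Field K]

/-- Every character of `B` over its centre is a commutator. -/
theorem exists_dual [Finite G] (F : Frame T B L ζ) (f : T →* K) (hf : Function.Injective f)
    (χ : B →* T) (hχ : ∀ b : B, (b : G) ∈ T → χ b = 1) :
    ∃ z ∈ B, ∀ b : B, ⁅z, (b : G)⁆ = (χ b : G) := by
  classical
  let M := T.subgroupOf B
  haveI : M.Normal := ⟨fun m hm y => by
    rw [Subgroup.mem_subgroupOf] at hm ⊢
    rw [Subgroup.coe_mul, Subgroup.coe_mul, ← F.central _ hm y y.2, mul_assoc, Subgroup.coe_inv,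
      mul_inv_cancel, mul_one]
    exact hm⟩
  have hz : ∀ (z : G) (hz : z ∈ B), M ≤ (f.comp (F.kappa z hz)).ker := fun z hz m hm => by
    rw [MonoidHom.mem_ker, MonoidHom.comp_apply, show F.kappa z hz m = 1 from Subtype.ext
      (commutatorElement_eq_one_iff_mul_comm.2 (F.central _ (Subgroup.mem_subgroupOf.1 hm) z hz).symm),
      map_one]
  have hχM : M ≤ (f.comp χ).ker := fun m hm => by
    rw [MonoidHom.mem_ker, MonoidHom.comp_apply, hχ m (Subgroup.mem_subgroupOf.1 hm), map_one]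
  let Φ : B ⧸ M → (B ⧸ M →* K) := fun q =>
    QuotientGroup.lift M (f.comp (F.kappa _ q.out.2)) (hz _ _)
  have hΦ : Function.Injective Φ := by
    intro q q' h
    rw [← QuotientGroup.out_eq' q, ← QuotientGroup.out_eq' q', QuotientGroup.eq,
      Subgroup.mem_subgroupOf]
    refine F.centre _ (SetLike.coe_mem _) fun b hb => commutatorElement_eq_one_iff_mul_comm.1 ?_
    have e : ⁅(q.out : G), b⁆ = ⁅(q'.out : G), b⁆ :=
      congrArg Subtype.val (hf (DFunLike.congr_fun h (QuotientGroup.mk' M ⟨b, hb⟩)))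
    rw [Subgroup.coe_mul, Subgroup.coe_inv, F.comm_mul_left (inv_mem q.out.2) q'.out.2 hb, ← e,
      ← F.comm_mul_left (inv_mem q.out.2) q.out.2 hb, inv_mul_cancel, commutatorElement_one_left]
  obtain ⟨hfin, hle⟩ := card_monoidHom_le (B ⧸ M) K
  have hbij : Function.Bijective Φ :=
    (Nat.bijective_iff_injective_and_card Φ).2
      ⟨hΦ, le_antisymm (Nat.card_le_card_of_injective Φ hΦ) hle⟩
  obtain ⟨q, hq⟩ := hbij.2 (QuotientGroup.lift M (f.comp χ) hχM)
  exact ⟨q.out, q.out.2, fun b => congrArg Subtype.val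
    (hf (DFunLike.congr_fun hq (QuotientGroup.mk' M b)))⟩

variable (F : Frame T B L ζ) (f : T →* K) (hf : Function.Injective f) {e₀ : T} (he₀ : f e₀ = -1)
include F f hf he₀

theorem comm_cases (hsq : ∀ x ∈ B, x ^ 2 ∈ T) {u w : G} (hu : u ∈ B) (hw : w ∈ B) :
    ⁅u, w⁆ = 1 ∨ ⁅u, w⁆ = (e₀ : G) := by
  let t : T := ⟨⁅u, w⁆, F.comm u hu w hw⟩
  have h : f t ^ 2 = 1 := by
    rw [← map_pow, show t ^ 2 = 1 from Subtype.ext (by
      change ⁅u, w⁆ ^ 2 = 1
      rw [← F.comm_pow_left hu hw]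
      exact commutatorElement_eq_one_iff_mul_comm.2 (F.central _ (hsq u hu) w hw)), map_one]
  rcases sq_eq_one_iff.1 h with h1 | h1
  · exact Or.inl (congrArg Subtype.val (hf (h1.trans (map_one f).symm)))
  · exact Or.inr (congrArg Subtype.val (hf (h1.trans he₀.symm)))

theorem minus_one_sq : (e₀ : G) * (e₀ : G) = 1 := by
  have : e₀ * e₀ = 1 := hf (by rw [map_mul, he₀, map_one]; simp)
  exact congrArg Subtype.val this

theorem minus_one_ne (h2 : (2 : K) ≠ 0) : (e₀ : G) ≠ 1 := fun h => h2 (by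
  have h' : e₀ = 1 := Subtype.ext h
  rw [h', map_one] at he₀
  linear_combination he₀)

/-- Every element of the layer becomes an involution after scaling. -/
theorem exists_involution_lift [Finite G] (h2 : (2 : K) ≠ 0) (hBn : B.Normal)
    (hmax : ∀ A : Subgroup G, A.Normal → T ≤ A → (∀ a ∈ A, ∀ b ∈ A, a * b = b * a) → A ≤ T)
    (hsq : ∀ x ∈ B, x ^ 2 ∈ T) {s₀ : T} (hs₀ : f s₀ * f s₀ = -1) {x : G} (hx : x ∈ B) :
    ∃ t ∈ T, x * t * (x * t) = 1 := by
  classical
  have hTn := F.tnormal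
  have hTc : ∀ a ∈ T, ∀ b ∈ T, a * b = b * a := fun a ha b hb => F.central a ha b (F.tle hb)
  have hse : (s₀ : G) ^ 2 = (e₀ : G) := by
    have : s₀ ^ 2 = e₀ := hf (by rw [map_pow, pow_two, hs₀, he₀])
    exact congrArg Subtype.val this
  -- the elements whose square is a square of the centre
  let P : Subgroup G :=
    { carrier := {x | x ∈ B ∧ ∃ t ∈ T, x ^ 2 = t ^ 2}
      one_mem' := ⟨one_mem B, 1, one_mem T, rfl⟩
      inv_mem' := fun {a} ⟨ha, t, ht, h⟩ => ⟨inv_mem ha, t⁻¹, inv_mem ht, by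
        rw [inv_pow, h, inv_pow]⟩
      mul_mem' := fun {a b} ⟨ha, s, hs, h⟩ ⟨hb, t, ht, h'⟩ => by
        obtain ⟨c, hc, hc'⟩ : ∃ c ∈ T, ⁅b, a⁆ = c ^ 2 := by
          rcases comm_cases F f hf he₀ hsq hb ha with h1 | h1
          · exact ⟨1, one_mem T, by rw [h1, one_pow]⟩
          · exact ⟨s₀, s₀.2, by rw [h1, hse]⟩
        refine ⟨mul_mem ha hb, s * t * c, mul_mem (mul_mem hs ht) hc, ?_⟩
        rw [F.mul_pow_two_class ha hb, Nat.choose_self, pow_one, h, h', hc',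
          (show Commute (s * t) c from hTc _ (mul_mem hs ht) _ hc).mul_pow,
          (show Commute s t from hTc _ hs _ ht).mul_pow] }
  suffices hP : x ∈ P by
    obtain ⟨-, t, ht, h⟩ := hP
    refine ⟨t⁻¹, inv_mem ht, ?_⟩
    have hc : Commute x t⁻¹ := (F.central _ (inv_mem ht) x hx).symm
    rw [← pow_two, hc.mul_pow, h, inv_pow, mul_inv_cancel]
  by_contra hxP
  have hPn : P.Normal := ⟨fun a ⟨ha, t, ht, h⟩ g =>
    ⟨hBn.conj_mem a ha g, g * t * g⁻¹, hTn.conj_mem t ht g, by rw [conj_pow, h, conj_pow]⟩⟩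
  have hTP : ∀ t ∈ T, t ∈ P := fun t ht => ⟨F.tle ht, t, ht, rfl⟩
  have hodd : ∀ a ∈ B, a ∉ P → ∃ m : ℤ, a ^ 2 = ζ ^ (2 * m + 1) := by
    intro a ha haP
    obtain ⟨n, hn⟩ : ∃ n : ℤ, ζ ^ n = a ^ 2 := Subgroup.mem_zpowers_iff.1 (F.tgen ▸ hsq a ha)
    rcases Int.even_or_odd n with ⟨m, hm⟩ | ⟨m, hm⟩
    · refine absurd ⟨ha, ζ ^ m, zpow_mem F.zeta_mem m, ?_⟩ haP
      rw [← hn, hm, zpow_add, pow_two]
    · exact ⟨m, by rw [← hn, hm]⟩
  have hindex : ∀ a ∈ B, ∀ b ∈ B, a ∉ P → b ∉ P → a * b ∈ P := by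
    intro a ha b hb haP hbP
    obtain ⟨m, hm⟩ := hodd a ha haP
    obtain ⟨n, hn⟩ := hodd b hb hbP
    obtain ⟨c, hc, hc'⟩ : ∃ c ∈ T, ⁅b, a⁆ = c ^ 2 := by
      rcases comm_cases F f hf he₀ hsq hb ha with h1 | h1
      · exact ⟨1, one_mem T, by rw [h1, one_pow]⟩
      · exact ⟨s₀, s₀.2, by rw [h1, hse]⟩
    refine ⟨mul_mem ha hb, ζ ^ (m + n + 1) * c, mul_mem (zpow_mem F.zeta_mem _) hc, ?_⟩
    rw [F.mul_pow_two_class ha hb, Nat.choose_self, pow_one, hm, hn, hc', ← zpow_add,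
      (show Commute (ζ ^ (m + n + 1)) c from hTc _ (zpow_mem F.zeta_mem _) _ hc).mul_pow,
      ← zpow_natCast (ζ ^ (m + n + 1)) 2, ← zpow_mul]
    congr 2
    push_cast; ring
  let χ : B →* T :=
    { toFun := fun b => if (b : G) ∈ P then 1 else e₀
      map_one' := if_pos (one_mem P)
      map_mul' := fun a b => by
        by_cases ha : (a : G) ∈ P <;> by_cases hb : (b : G) ∈ P
        · simp [ha, hb, mul_mem ha hb]
        · have hab : (a : G) * b ∉ P := fun h => hb (by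
            simpa using mul_mem (inv_mem ha) h)
          simp [ha, hb, hab]
        · have hab : (a : G) * b ∉ P := fun h => ha (by
            simpa using mul_mem h (inv_mem hb))
          simp [ha, hb, hab]
        · simp only [Subgroup.coe_mul, if_neg ha, if_neg hb, if_pos (hindex _ a.2 _ b.2 ha hb)]
          exact Subtype.ext (minus_one_sq F f hf he₀).symm }
  obtain ⟨z, hzB, hz⟩ := exists_dual F f hf χ fun b hb => if_pos (hTP _ hb)
  haveI := hBn
  haveI := hPn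
  let A : Subgroup G := B ⊓ Subgroup.centralizer (P : Set G)
  have hA : A ≤ T := by
    refine hmax A inferInstance (le_inf F.tle fun t ht => Subgroup.mem_centralizer_iff.2
      fun a ha => (F.central t ht a (ha : a ∈ P).1).symm) fun a ha b hb => ?_
    have hca : ∀ p ∈ P, Commute p a := fun p hp => Subgroup.mem_centralizer_iff.1 ha.2 p hp
    have hcb : ∀ p ∈ P, Commute p b := fun p hp => Subgroup.mem_centralizer_iff.1 hb.2 p hp
    by_cases haP : a ∈ P
    · exact (hcb a haP).eq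
    by_cases hbP : b ∈ P
    · exact (hca b hbP).symm.eq
    have h := (hca _ (hindex a ha.1 b hb.1 haP hbP)).eq
    rw [mul_assoc] at h
    exact (mul_left_cancel h).symm
  have hzA : z ∈ A := ⟨hzB, Subgroup.mem_centralizer_iff.2 fun p hp =>
    ((commutatorElement_eq_one_iff_mul_comm.1 (by
      rw [hz ⟨p, hp.1⟩]; simp [χ, show p ∈ P from hp]) : z * p = p * z)).symm⟩
  refine minus_one_ne F f hf he₀ h2 ?_
  have h := hz ⟨x, hx⟩
  rw [commutatorElement_eq_one_iff_mul_comm.2 (F.central z (hA hzA) x hx)] at h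
  simpa [χ, hxP] using h.symm

end Field

section Split

variable {V : Type v} [AddCommGroup V] [DistribMulAction G V]

/-- Either the quotient by the centraliser of `L` has order at most two, or a block splits off. -/
theorem exists_block [Finite G] (F : Frame T B L ζ) {K : Type v} [Field K]
    (FD : FieldData G V T K) (h2 : (2 : K) ≠ 0) (hsq : ∀ x ∈ B, x ^ 2 ∈ T) {e₀ : T}
    (he₀ : FD.emb e₀ = -1) (hinv : ∀ x ∈ B, ∃ t ∈ T, x * t * (x * t) = 1) :
    (∀ x ∈ B, ∀ y ∈ B, x ^ 2 ∈ cent B L → y ^ 2 ∈ cent B L → x ∉ cent B L → y ∉ cent B L →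
        x⁻¹ * y ∈ cent B L) ∨
      ∃ (L₀ : Subgroup G) (l b : Bool → G), Block G V T B L L₀ l b := by
  classical
  refine or_iff_not_imp_left.2 fun hns => ?_
  push Not at hns
  obtain ⟨x, hxB, y, hyB, -, -, hx, hy, hxy⟩ := hns
  have hcases := fun {u w : G} (hu : u ∈ B) (hw : w ∈ B) =>
    comm_cases F FD.emb FD.emb_inj he₀ hsq hu hw
  have hee := minus_one_sq F FD.emb FD.emb_inj he₀
  have hne := minus_one_ne F FD.emb FD.emb_inj he₀ h2
  have hsymm : ∀ {u w : G}, u ∈ B → w ∈ B → ⁅u, w⁆ = ⁅w, u⁆ := fun {u w} hu hw => by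
    rw [← commutatorElement_inv w u]
    rcases hcases hw hu with h | h <;> rw [h]
    · exact inv_one
    · exact inv_eq_of_mul_eq_one_right hee
  have hCLT : ∀ z ∈ cent B L, z ∈ L ⊔ T := fun z hz => by
    obtain ⟨t, ht, h⟩ := hinv z (mem_cent.1 hz).1
    have h' := F.mem_sup_of_pow_mem (mul_mem hz (F.tle_cent ht)) Nat.prime_two
      (by rw [pow_two, h]; exact one_mem L)
    simpa using mul_mem h' (Subgroup.mem_sup_right (S := L) (inv_mem ht))
  have hsep : ∀ z ∈ B, z ∉ cent B L → ∃ l ∈ L, ⁅l, z⁆ = (e₀ : G) := by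
    intro z hz hzn
    by_contra hc
    push Not at hc
    exact hzn (mem_cent.2 ⟨hz, fun l hl => commutatorElement_eq_one_iff_mul_comm.1
      ((hcases (F.lle hl) hz).resolve_right (hc l hl))⟩)
  obtain ⟨l₁, hl₁, hl₁x⟩ := hsep x hxB hx
  have hl₁B := F.lle hl₁
  obtain ⟨y₁, hy₁B, hy₁, hl₁y⟩ : ∃ y₁ ∈ B, y₁ ∉ cent B L ∧ ⁅l₁, y₁⁆ = 1 := by
    rcases hcases hl₁B hyB with h | h
    · exact ⟨y, hyB, hy, h⟩
    refine ⟨x * y, mul_mem hxB hyB, fun hc => hxy ?_, ?_⟩
    · have := mul_mem (inv_mem (F.tle_cent (hsq x hxB))) hc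
      simpa [pow_two, mul_assoc] using this
    · rw [F.comm_mul_right hl₁B hxB hyB, hl₁x, h, hee]
  obtain ⟨l₂, hl₂, hl₂x, hl₂y⟩ : ∃ l₂ ∈ L, ⁅l₂, x⁆ = 1 ∧ ⁅l₂, y₁⁆ = (e₀ : G) := by
    obtain ⟨m, hm, hmy⟩ := hsep y₁ hy₁B hy₁
    rcases hcases (F.lle hm) hxB with h | h
    · exact ⟨m, hm, h, hmy⟩
    refine ⟨m * l₁, mul_mem hm hl₁, ?_, ?_⟩
    · rw [F.comm_mul_left (F.lle hm) hl₁B hxB, h, hl₁x, hee]
    · rw [F.comm_mul_left (F.lle hm) hl₁B hy₁B, hmy, hl₁y, mul_one]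
  have hl₂B := F.lle hl₂
  have hLcomm : ∀ {u w : G}, u ∈ L → w ∈ L → ⁅u, w⁆ = 1 := fun hu hw =>
    commutatorElement_eq_one_iff_mul_comm.2 (F.lcomm _ hu _ hw)
  obtain ⟨y₂, hy₂B, hxy₂, hl₁y₂, hl₂y₂⟩ :
      ∃ y₂ ∈ B, ⁅x, y₂⁆ = 1 ∧ ⁅l₁, y₂⁆ = 1 ∧ ⁅l₂, y₂⁆ = (e₀ : G) := by
    rcases hcases hxB hy₁B with h | h
    · exact ⟨y₁, hy₁B, h, hl₁y, hl₂y⟩
    refine ⟨y₁ * l₁, mul_mem hy₁B hl₁B, ?_, ?_, ?_⟩
    · rw [F.comm_mul_right hxB hy₁B hl₁B, h, hsymm hxB hl₁B, hl₁x, hee]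
    · rw [F.comm_mul_right hl₁B hy₁B hl₁B, hl₁y, commutatorElement_self, mul_one]
    · rw [F.comm_mul_right hl₂B hy₁B hl₁B, hl₂y, hLcomm hl₂ hl₁, mul_one]
  have hscale : ∀ {u w s : G}, u ∈ B → w ∈ B → s ∈ T → ⁅u, w * s⁆ = ⁅u, w⁆ := fun hu hw hs => by
    rw [F.comm_mul_right hu hw (F.tle hs),
      commutatorElement_eq_one_iff_mul_comm.2 (F.central _ hs _ hu).symm, mul_one]
  obtain ⟨s, hs, hss⟩ := hinv x hxB
  obtain ⟨t, ht, htt⟩ := hinv y₂ hy₂B
  have hb1B : x * s ∈ B := mul_mem hxB (F.tle hs)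
  have hb2B : y₂ * t ∈ B := mul_mem hy₂B (F.tle ht)
  have hb12 : ⁅x * s, y₂ * t⁆ = 1 := by
    rw [hscale hb1B hy₂B ht, hsymm hb1B hy₂B, hscale hy₂B hxB hs, hsymm hy₂B hxB, hxy₂]
  have c11 : ⁅l₁, x * s⁆ = (e₀ : G) := by rw [hscale hl₁B hxB hs, hl₁x]
  have c12 : ⁅l₁, y₂ * t⁆ = 1 := by rw [hscale hl₁B hy₂B ht, hl₁y₂]
  have c21 : ⁅l₂, x * s⁆ = 1 := by rw [hscale hl₂B hxB hs, hl₂x]
  have c22 : ⁅l₂, y₂ * t⁆ = (e₀ : G) := by rw [hscale hl₂B hy₂B ht, hl₂y₂]
  have hlsq : ∀ {u : G}, u ∈ L → u * u = 1 := fun {u} hu => by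
    have h : u * u ∈ L ⊓ T := ⟨mul_mem hu hu, by simpa [pow_two] using hsq u (F.lle hu)⟩
    rwa [F.linf, Subgroup.mem_bot] at h
  let l : Bool → G := fun e => if e then l₂ else l₁
  let b : Bool → G := fun e => if e then y₂ * t else x * s
  let L₀ : Subgroup G :=
    L ⊓ (Subgroup.centralizer {x * s} ⊓ Subgroup.centralizer {y₂ * t})
  have hL₀ : ∀ {u : G}, u ∈ L → ⁅u, x * s⁆ = 1 → ⁅u, y₂ * t⁆ = 1 → u ∈ L₀ := fun hu h h' =>
    ⟨hu, Subgroup.mem_centralizer_singleton_iff.2 (commutatorElement_eq_one_iff_mul_comm.1 h),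
      Subgroup.mem_centralizer_singleton_iff.2 (commutatorElement_eq_one_iff_mul_comm.1 h')⟩
  refine ⟨L₀, l, b,
    { le := inf_le_left
      l_mem := fun e => by cases e <;> simp [l, hl₁, hl₂]
      b_mem := fun e => by cases e <;> simp [b, hb1B, hb2B]
      l_sq := fun e => by cases e <;> simp [l, hlsq hl₁, hlsq hl₂]
      b_sq := fun e => by cases e <;> simp [b, hss, htt]
      b_comm := commutatorElement_eq_one_iff_mul_comm.1 (by simpa [b] using hb12)
      l₀_comm := fun u hu e => by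
        cases e
        · simpa [b] using Subgroup.mem_centralizer_singleton_iff.1 hu.2.1
        · simpa [b] using Subgroup.mem_centralizer_singleton_iff.1 hu.2.2
      pair := ?_
      decomp := ?_ }⟩
  · intro e e' z
    have hgen : ∀ {u w : G}, ⁅u, w⁆ = (e₀ : G) → u • w • z = -(w • u • z) := fun {u w} h => by
      rw [smul_smul, show u * w = ⁅u, w⁆ * (w * u) by rw [commutatorElement_def]; group, h,
        mul_smul, mul_smul, ← FD.op_emb, he₀, map_neg, map_one]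
      rfl
    have hgen1 : ∀ {u w : G}, ⁅u, w⁆ = 1 → u • w • z = w • u • z := fun {u w} h => by
      rw [smul_smul, commutatorElement_eq_one_iff_mul_comm.1 h, mul_smul]
    cases e <;> cases e'
    · simpa [l, b] using hgen c11
    · simpa [l, b] using hgen1 c12
    · simpa [l, b] using hgen1 c21
    · simpa [l, b] using hgen c22
  · intro z hz
    have hzB := (mem_cent.1 hz).1
    obtain ⟨c, hc1, hc2⟩ : ∃ c : D, ⁅l₁, z * ppow b c⁆ = 1 ∧ ⁅l₂, z * ppow b c⁆ = 1 := by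
      rcases hcases hl₁B hzB with h | h <;> rcases hcases hl₂B hzB with h' | h'
      · exact ⟨(false, false), by simp [ppow, h, h']⟩
      · exact ⟨(false, true), by
          simp [ppow, b, F.comm_mul_right hl₁B hzB hb2B, F.comm_mul_right hl₂B hzB hb2B, h, h',
            c12, c22, hee]⟩
      · exact ⟨(true, false), by
          simp [ppow, b, F.comm_mul_right hl₁B hzB hb1B, F.comm_mul_right hl₂B hzB hb1B, h, h',
            c11, c21, hee]⟩
      · refine ⟨(true, true), ?_⟩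
        simp [ppow, b, F.comm_mul_right hl₁B hzB (mul_mem hb1B hb2B),
          F.comm_mul_right hl₂B hzB (mul_mem hb1B hb2B), F.comm_mul_right hl₁B hb1B hb2B,
          F.comm_mul_right hl₂B hb1B hb2B, h, h', c11, c12, c21, c22, hee]
    have hbB : ppow b c ∈ B := by
      rcases c with ⟨_ | _, _ | _⟩ <;> simp [ppow, b, hb1B, hb2B, mul_mem hb1B hb2B]
    have hbL₀ : ∀ u ∈ L₀, ⁅u, ppow b c⁆ = 1 := fun u hu => by
      have k1 : Commute u (x * s) := Subgroup.mem_centralizer_singleton_iff.1 hu.2.1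
      have k2 : Commute u (y₂ * t) := Subgroup.mem_centralizer_singleton_iff.1 hu.2.2
      refine commutatorElement_eq_one_iff_mul_comm.2 ?_
      rcases c with ⟨_ | _, _ | _⟩
      · simp [ppow]
      · simpa [ppow, b] using k2.eq
      · simpa [ppow, b] using k1.eq
      · simpa [ppow, b] using (k1.mul_right k2).eq
    have hzc : z * ppow b c ∈ cent B L := by
      refine mem_cent.2 ⟨mul_mem hzB hbB, fun u hu => commutatorElement_eq_one_iff_mul_comm.1 ?_⟩
      have huB := F.lle hu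
      have h0 : ∀ {w : G}, w ∈ L₀ → ⁅w, z * ppow b c⁆ = 1 := fun {w} hw => by
        rw [F.comm_mul_right (F.lle hw.1) hzB hbB, hbL₀ w hw, mul_one]
        exact commutatorElement_eq_one_iff_mul_comm.2 ((mem_cent.1 hz).2 w hw)
      obtain ⟨a, ha⟩ : ∃ a : D, u * ppow l a ∈ L₀ := by
        rcases hcases huB hb1B with h | h <;> rcases hcases huB hb2B with h' | h'
        · exact ⟨(false, false), by simpa [ppow] using hL₀ hu h h'⟩
        · refine ⟨(false, true), ?_⟩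
          simpa [ppow, l] using hL₀ (mul_mem hu hl₂)
            (by rw [F.comm_mul_left huB hl₂B hb1B, h, c21, mul_one])
            (by rw [F.comm_mul_left huB hl₂B hb2B, h', c22, hee])
        · refine ⟨(true, false), ?_⟩
          simpa [ppow, l] using hL₀ (mul_mem hu hl₁)
            (by rw [F.comm_mul_left huB hl₁B hb1B, h, c11, hee])
            (by rw [F.comm_mul_left huB hl₁B hb2B, h', c12, mul_one])
        · refine ⟨(true, true), ?_⟩
          simpa [ppow, l, mul_assoc] using hL₀ (mul_mem (mul_mem hu hl₁) hl₂)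
            (by rw [F.comm_mul_left (mul_mem huB hl₁B) hl₂B hb1B, F.comm_mul_left huB hl₁B hb1B,
              h, c11, c21, hee, mul_one])
            (by rw [F.comm_mul_left (mul_mem huB hl₁B) hl₂B hb2B, F.comm_mul_left huB hl₁B hb2B,
              h', c12, c22, mul_one, hee])
      have hla : ppow l a ∈ L ∧ ⁅ppow l a, z * ppow b c⁆ = 1 := by
        suffices key : ∀ w₀ ∈ B, ⁅l₁, w₀⁆ = 1 → ⁅l₂, w₀⁆ = 1 →
            ppow l a ∈ L ∧ ⁅ppow l a, w₀⁆ = 1 from key _ (mul_mem hzB hbB) hc1 hc2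
        intro w₀ hzb hc1 hc2
        rcases a with ⟨_ | _, _ | _⟩
        · simp [ppow, one_mem]
        · simp [ppow, l, hl₂, hc2]
        · simp [ppow, l, hl₁, hc1]
        · simp [ppow, l, mul_mem hl₁ hl₂, F.comm_mul_left hl₁B hl₂B hzb, hc1, hc2]
      have hu' : u = u * ppow l a * ppow l a := by
        rw [mul_assoc, hlsq hla.1, mul_one]
      rw [hu', F.comm_mul_left (F.lle (mul_mem hu hla.1)) (F.lle hla.1) (mul_mem hzB hbB), h0 ha,
        hla.2, mul_one]
    obtain ⟨w, hw, t', ht', hwt⟩ := F.mem_sup_iff.1 (hCLT _ hzc)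
    have hwB := F.lle hw
    obtain ⟨a, ha⟩ : ∃ a : D, w * ppow l a ∈ L₀ := by
      rcases hcases hwB hb1B with h | h <;> rcases hcases hwB hb2B with h' | h'
      · exact ⟨(false, false), by simpa [ppow] using hL₀ hw h h'⟩
      · refine ⟨(false, true), ?_⟩
        simpa [ppow, l] using hL₀ (mul_mem hw hl₂)
          (by rw [F.comm_mul_left hwB hl₂B hb1B, h, c21, mul_one])
          (by rw [F.comm_mul_left hwB hl₂B hb2B, h', c22, hee])
      · refine ⟨(true, false), ?_⟩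
        simpa [ppow, l] using hL₀ (mul_mem hw hl₁)
          (by rw [F.comm_mul_left hwB hl₁B hb1B, h, c11, hee])
          (by rw [F.comm_mul_left hwB hl₁B hb2B, h', c12, mul_one])
      · refine ⟨(true, true), ?_⟩
        simpa [ppow, l, mul_assoc] using hL₀ (mul_mem (mul_mem hw hl₁) hl₂)
          (by rw [F.comm_mul_left (mul_mem hwB hl₁B) hl₂B hb1B, F.comm_mul_left hwB hl₁B hb1B,
            h, c11, c21, hee, mul_one])
          (by rw [F.comm_mul_left (mul_mem hwB hl₁B) hl₂B hb2B, F.comm_mul_left hwB hl₁B hb2B,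
            h', c12, c22, mul_one, hee])
    refine ⟨a, c, t', ht', _, ha, ?_⟩
    have hlaL : ppow l a ∈ L := by
      rcases a with ⟨_ | _, _ | _⟩ <;> simp [ppow, l, hl₁, hl₂, one_mem, mul_mem hl₁ hl₂]
    have hbb : ppow b c * ppow b c = 1 := by
      rcases c with ⟨_ | _, _ | _⟩
      · simp [ppow]
      · simpa [ppow, b] using htt
      · simpa [ppow, b] using hss
      · have hcm : Commute (x * s) (y₂ * t) := commutatorElement_eq_one_iff_mul_comm.1 hb12
        simp only [ppow, b, if_true, Bool.false_eq_true, if_false]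
        rw [← pow_two, hcm.mul_pow, pow_two, pow_two, hss, htt, one_mul]
    calc z = z * ppow b c * ppow b c := by rw [mul_assoc, hbb, mul_one]
      _ = w * t' * ppow b c := by rw [hwt]
      _ = t' * w * ppow b c := by rw [F.central t' ht' w hwB]
      _ = t' * (w * ppow l a) * ppow l a * ppow b c := by
        rw [mul_assoc (t' : G) (w * ppow l a), mul_assoc w, hlsq hlaL, mul_one]

end Split

end Cfsg.Agent.H81.BaseTwo
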