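import Mathlib
import Cfsg.Agent.H81.BaseTwo.Generic
import Cfsg.Agent.H81.BaseTwo.Split
import Cfsg.Agent.H81.BaseTwo.Reduce

/-!
# A regular pair when the scalars are not the field with three elements
-/

namespace Cfsg.Agent.H81.BaseTwo

open scoped commutatorElement
open Cfsg.Agent.H10.BaseThree Pauli

universe u v

theorem few_fourth_powers {K : Type*} [Field K] [Finite K] (hodd : Nat.card K % 2 = 1)
    (h : ¬ 3 ≤ Nat.card (powMonoidHom 4 : Kˣ →* Kˣ).range) :
    Nat.card K = 3 ∨ Nat.card K = 5 ∨ Nat.card K = 9 := by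
  rw [IsCyclic.card_powMonoidHom_range, Nat.card_units] at h
  have h2 : 2 ≤ Nat.card K := Finite.one_lt_card
  have hg : Nat.gcd (Nat.card K - 1) 4 ≤ 4 := Nat.le_of_dvd (by norm_num) (Nat.gcd_dvd_right _ _)
  have hg0 : 0 < Nat.gcd (Nat.card K - 1) 4 := Nat.gcd_pos_of_pos_right _ (by norm_num)
  have h12 : Nat.card K - 1 < 3 * Nat.gcd (Nat.card K - 1) 4 :=
    (Nat.div_lt_iff_lt_mul hg0).1 (not_le.1 h)
  have h13 : Nat.card K ≤ 12 := by omega
  revert h hodd h2 h13
  generalize Nat.card K = n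
  intros
  interval_cases n <;> simp_all

/-- The certificate for the field in question. -/
theorem nonempty_cert {K : Type*} [Field K] [Finite K] (h : Nat.card K = 5 ∨ Nat.card K = 9) {i : K}
    (hi : i * i = -1) : Nonempty (Cert K) := by
  classical
  letI := Fintype.ofFinite K
  rcases h with h | h <;> rw [Nat.card_eq_fintype_card] at h
  · exact ⟨cert5.map (ZMod.ringEquivOfPrime K (by norm_num) h)⟩
  obtain ⟨n, hp, hn⟩ := FiniteField.card K (ringChar K)
  have h3 : ringChar K = 3 := by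
    rw [h] at hn
    have hd : ringChar K ∣ 3 ^ 2 := by
      rw [show (3 : ℕ) ^ 2 = 9 by norm_num, hn]; exact dvd_pow_self _ n.ne_zero
    exact (Nat.prime_dvd_prime_iff_eq hp Nat.prime_three).1 (hp.dvd_of_dvd_pow hd)
  haveI : CharP K 3 := h3 ▸ ringChar.charP K
  letI : Algebra (ZMod 3) K := ZMod.algebra K 3
  have h30 : (3 : K) = 0 := by exact_mod_cast CharP.cast_eq_zero K 3
  let e : R9 →ₐ[ZMod 3] K := QuadraticAlgebra.lift ⟨i, by
    rw [hi, zero_smul, add_zero, Algebra.smul_def, mul_one, map_ofNat]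
    linear_combination -h30⟩
  have hinj : Function.Injective e := (injective_iff_map_eq_zero e).2 fun r hr => by
    have hinv : ∀ r : R9, r = 0 ∨ ∃ s, r * s = 1 := by decide +kernel
    refine (hinv r).resolve_right ?_
    rintro ⟨s, hs⟩
    have h1 := congrArg e hs
    rw [map_mul, hr, zero_mul, map_one] at h1
    exact zero_ne_one h1
  have hcard : Fintype.card R9 = Fintype.card K := by rw [h]; rfl
  exact ⟨cert9.map (RingEquiv.ofBijective e.toRingHom
    ((Fintype.bijective_iff_injective_and_card _).2 ⟨hinj, hcard⟩))⟩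

theorem regular2_large {G : Type u} {V : Type v} [Group G] [AddCommGroup V] [DistribMulAction G V]
    [Finite G] [Finite V] {p : ℕ} {T B L : Subgroup G} {ζ : G} {v₀ : V} {K : Type v} [Field K]
    [Finite K] (hF : Full G V p T B L ζ v₀ K) (h3 : Nat.card K ≠ 3) :
    ∃ t : V × V, Cfsg.Agent.H10.BaseTwo.Regular2 G t := by
  classical
  by_cases h4 : 3 ≤ Nat.card (powMonoidHom 4 : Kˣ →* Kˣ).range
  · exact regular2_generic hF.layer hF.data (Or.inr h4)
  have h59 : Nat.card K = 5 ∨ Nat.card K = 9 :=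
    (few_fourth_powers hF.data.odd_card h4).resolve_left h3
  have h2 : (2 : K) ≠ 0 := two_ne_zero_of_odd hF.data.odd_card
  obtain ⟨i, hi⟩ : ∃ i : K, i * i = -1 := by
    letI := Fintype.ofFinite K
    obtain ⟨i, hi⟩ := (FiniteField.isSquare_neg_one_iff (F := K)).2 (by
      rw [← Nat.card_eq_fintype_card]; rcases h59 with h | h <;> rw [h] <;> norm_num)
    exact ⟨i, hi.symm⟩
  have F := hF.layer.frame
  obtain ⟨e₀, he₀⟩ := hF.full (-1) (neg_ne_zero.2 one_ne_zero)
  obtain ⟨s₀, hs₀⟩ := hF.full i fun h => by simp [h] at hi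
  have hT2 : ∃ k, Nat.card T = 2 ^ k := by
    have hb : Nat.card T = Nat.card Kˣ := Nat.card_congr (Equiv.ofBijective
      (fun t : T => Units.mk0 (hF.data.emb t) ((Group.isUnit t).map hF.data.emb).ne_zero)
      ⟨fun a b hab => hF.data.emb_inj (congrArg Units.val hab), fun k => by
        obtain ⟨t, ht⟩ := hF.full k k.ne_zero
        exact ⟨t, Units.ext ht⟩⟩)
    rw [hb, Nat.card_units]
    rcases h59 with h | h <;> rw [h]
    · exact ⟨2, rfl⟩
    · exact ⟨3, rfl⟩
  have hsq : ∀ x ∈ B, x ^ 2 ∈ T := fun x hx => sq_mem_centre F hT2 hx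
  have hinv : ∀ x ∈ B, ∃ t ∈ T, x * t * (x * t) = 1 := fun x hx =>
    exists_involution_lift F hF.data.emb hF.data.emb_inj he₀ h2 hF.layer.bnormal hF.max hsq
      (s₀ := s₀) (by rw [hs₀, hi]) hx
  rcases exists_block F hF.data h2 hsq he₀ hinv with hsmall | ⟨L₀, l, b, hblk⟩
  · exact regular2_generic hF.layer hF.data (Or.inl hsmall)
  · obtain ⟨C⟩ := nonempty_cert h59 hi
    exact regular2_block hF.layer hF.data hF.full h2 hblk C

end Cfsg.Agent.H81.BaseTwo
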