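import Mathlib

/-!
# Certificates for a block of rank three over the field with three elements

Vectors are functions on `Fin 8`; the six generators of the block act on one binary digit each.
`tv` tabulates the orbit of the first vector, a free orbit of size `128`.
-/

namespace Cfsg.Agent.H81.BaseTwo.Trip

/-- The eight-dimensional space. -/
abbrev Vec : Type := Fin 8 → ZMod 3

/-- A binary digit of an index. -/
def bit (d : Fin 8) (i : Fin 3) : Bool := (d : ℕ).testBit i

/-- Change a binary digit of an index. -/
def setBit (d : Fin 8) (i : Fin 3) (b : Bool) : Fin 8 :=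
  if bit d i = b then d else Fin.ofNat 8 (Nat.xor d (2 ^ (i : ℕ)))

/-- A `2 × 2` matrix acting on one digit. -/
def gstep (M : Bool → Bool → ZMod 3) (i : Fin 3) (z : Vec) : Vec := fun d =>
  M (bit d i) false * z (setBit d i false) + M (bit d i) true * z (setBit d i true)

theorem gstep_add (M : Bool → Bool → ZMod 3) (i : Fin 3) (z w : Vec) :
    gstep M i (z + w) = gstep M i z + gstep M i w := by
  funext d
  simp only [gstep, Pi.add_apply]
  ring

/-- The data of a certificate. -/
structure Data where
  /-- the number of special elements -/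
  n : ℕ
  /-- the number of candidates -/
  k : ℕ
  /-- the first matrices -/
  A : Fin 3 → Bool → Bool → ZMod 3
  /-- the second matrices -/
  B : Fin 3 → Bool → Bool → ZMod 3
  /-- three commuting special elements -/
  s : Fin 3 → Fin 128
  /-- the orbit table -/
  col : Fin 8 → ℕ
  /-- the generators on the orbit -/
  gmc : Fin 6 → ℕ
  /-- which description of the special elements applies -/
  byCount : Bool
  /-- the special elements -/
  sp : Fin n → Fin 128
  /-- their coordinates -/
  cs : Fin n → Vec
  /-- the coordinates of the unit vectors -/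
  units : Fin 8 → Vec
  /-- the coordinates of the second vectors -/
  cw : Fin k → Vec
  /-- the possible actions on special elements -/
  L : Fin k → List (Fin n → Fin n)
  /-- representatives of further free orbits -/
  u : Fin 4 → Vec

namespace Data

variable (C : Data)

/-- The orbit vector with a given index. -/
def tv (x : Fin 128) : Vec := fun d => ((((C.col d) >>> (2 * (x : ℕ))) % 4 : ℕ) : ZMod 3)

/-- The action of a generator. -/
def gen (j : Fin 6) : Vec → Vec :=
  let i : Fin 3 := Fin.ofNat 3 ((j : ℕ) / 2)
  gstep (if (j : ℕ) % 2 = 0 then C.A i else C.B i) i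

/-- A generator on indices. -/
def gmul (j : Fin 6) (x : Fin 128) : Fin 128 := Fin.ofNat 128 ((C.gmc j) >>> (7 * (x : ℕ)))

/-- The index of the negative. -/
def negIdx (x : Fin 128) : Fin 128 := Fin.ofNat 128 (Nat.xor x 64)

/-- The action of an element of the block. -/
def act (y : Fin 128) (z : Vec) : Vec :=
  let r := (List.finRange 6).foldr (fun (j : Fin 6) z => if (y : ℕ).testBit j then C.gen j z else z) z
  if (y : ℕ).testBit 6 then -r else r

/-- The product on indices. -/
def mul (y x : Fin 128) : Fin 128 :=
  let r := (List.finRange 6).foldr (fun (j : Fin 6) x => if (y : ℕ).testBit j then C.gmul j x else x) x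
  if (y : ℕ).testBit 6 then negIdx r else r

/-- Linear combinations of orbit vectors. -/
def comb (c : Vec) (b : Fin 8 → Fin 128) (d : Fin 8) : ZMod 3 :=
  c 0 * C.tv (b 0) d + c 1 * C.tv (b 1) d + c 2 * C.tv (b 2) d + c 3 * C.tv (b 3) d +
    c 4 * C.tv (b 4) d + c 5 * C.tv (b 5) d + c 6 * C.tv (b 6) d + c 7 * C.tv (b 7) d

/-- The images of the basis. -/
def bimg (p q r : Fin 128) : Fin 8 → Fin 128 :=
  ![0, p, q, C.mul p q, r, C.mul p r, C.mul q r, C.mul p (C.mul q r)]

/-- The indices of the basis. -/
def bidx : Fin 8 → Fin 128 := C.bimg (C.s 0) (C.s 1) (C.s 2)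

/-- The number of elements fixing the sum of the first vector and an orbit vector. -/
def fixCount (x : Fin 128) : ℕ :=
  (List.finRange 128).countP fun y => decide (∀ d, C.tv y d + C.tv (C.mul y x) d = C.tv 0 d + C.tv x d)

/-- The predicate singling out the special elements. -/
def spec (x : Fin 128) : Prop :=
  if C.byCount then 8 ≤ C.fixCount x ∧ 8 ≤ C.fixCount (negIdx x)
  else ∃ y : Fin 128, ∀ d, C.tv 0 d + C.tv x d + C.tv y d = 0

instance (x : Fin 128) : Decidable (C.spec x) := by unfold spec; infer_instance

theorem act_add (y : Fin 128) (z w : Vec) : C.act y (z + w) = C.act y z + C.act y w := by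
  have h : ∀ l : List (Fin 6),
      l.foldr (fun (j : Fin 6) z => if (y : ℕ).testBit j then C.gen j z else z) (z + w) =
        l.foldr (fun (j : Fin 6) z => if (y : ℕ).testBit j then C.gen j z else z) z +
          l.foldr (fun (j : Fin 6) z => if (y : ℕ).testBit j then C.gen j z else z) w := by
    intro l
    induction l with
    | nil => rfl
    | cons j l ih =>
      simp only [List.foldr_cons, ih]
      split_ifs
      · exact gstep_add _ _ _ _
      · rfl
  simp only [act, h]
  split_ifs
  · exact neg_add _ _
  · rfl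

/-- Composition of powers of a self map. -/
def iter {α : Type*} (f : α → α) : ℕ → α → α
  | 0 => id
  | m + 1 => f ∘ iter f m

theorem iter_eq {α : Type*} (f : α → α) (m : ℕ) : iter f m = f^[m] := by
  induction m with
  | zero => rfl
  | succ m ih => rw [iter, ih, Function.iterate_succ']

/-- A self map some power of which has order three. -/
def bad {n : ℕ} (f : Fin n → Fin n) : Bool :=
  (List.range 9).any fun m => decide (iter f m ≠ id ∧ iter f (3 * m) = id)

/-- Some word in two maps is bad. -/
def bad2 {n : ℕ} (g f : Fin n → Fin n) : Bool :=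
  bad (g ∘ f) || bad (g ∘ g ∘ f) || bad (g ∘ f ∘ f)

/-- No selection of nontrivial maps, one from each list, avoids a bad word. -/
def noSel {n : ℕ} : List (Fin n → Fin n) → List (List (Fin n → Fin n)) → Bool
  | _, [] => false
  | ch, l :: rest =>
    l.all fun f => decide (f = id) || bad f || (ch.any fun g => bad2 g f) || noSel (f :: ch) rest

/-- The properties of a certificate, all decidable. -/
structure Valid : Prop where
  neg_tbl : ∀ x d, C.tv (negIdx x) d = -C.tv x d
  gen_tbl : ∀ j x d, C.gen j (C.tv x) d = C.tv (C.gmul j x) d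
  mul_zero : ∀ y, C.mul y 0 = y
  tv_inj : ∀ x y, C.tv x = C.tv y → x = y
  free_u : ∀ i y, C.act y (C.u i) = C.u i → y = 0
  dist : ∀ i j y, C.act y (C.u i) = C.u j → i = j
  units_ok : ∀ d d', C.comb (C.units d) C.bidx d' = if d = d' then 1 else 0
  cs_ok : ∀ j d, C.comb (C.cs j) C.bidx d = C.tv (C.sp j) d
  spec_gen : ∀ i, C.spec (C.s i) ∧ C.s i ≠ 0 ∧ C.s i ≠ 64
  s_comm : ∀ i i', C.mul (C.s i) (C.s i') = C.mul (C.s i') (C.s i)
  s_inj : Function.Injective (fun e => ((C.bidx e : ℕ) % 64))
  spec_sp : ∀ x : Fin 128, x ≠ 0 → x ≠ 64 → C.spec x → ∃ j, C.sp j = x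
  stab_ok : ∀ (i : Fin C.k) (a b c : Fin C.n),
    C.mul (C.sp a) (C.sp b) = C.mul (C.sp b) (C.sp a) →
    C.mul (C.sp a) (C.sp c) = C.mul (C.sp c) (C.sp a) →
    C.mul (C.sp b) (C.sp c) = C.mul (C.sp c) (C.sp b) →
    (∀ d, C.comb (C.cw i) (C.bimg (C.sp a) (C.sp b) (C.sp c)) d = C.comb (C.cw i) C.bidx d) →
    Function.Injective (fun e => (((C.bimg (C.sp a) (C.sp b) (C.sp c)) e : ℕ) % 64)) →
    ∃ f ∈ C.L i, ∀ j d, C.tv (C.sp (f j)) d =
      C.comb (C.cs j) (C.bimg (C.sp a) (C.sp b) (C.sp c)) d
  clique : noSel [] (List.ofFn C.L) = true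

end Data

end Cfsg.Agent.H81.BaseTwo.Trip
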