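import Mathlib
import Cfsg.Agent.H10.BaseTwo.OddPrimitive
import Cfsg.Agent.H81.BaseTwo.TripModel

/-!
# A regular pair from a block of rank three over the field with three elements

An element fixing the first vector permutes the orbit table, hence the special elements; if every
candidate second vector had a nontrivial stabiliser the induced permutations would contain one of
order three, but the group has order prime to three.
-/

namespace Cfsg.Agent.H81.BaseTwo.Trip

open scoped commutatorElement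
open Cfsg.Agent.H10.BaseThree

universe u v

/-- The element with a given index. -/
def el {G : Type*} [Group G] (e₀ : G) (g : Fin 6 → G) (y : Fin 128) : G :=
  (if (y : ℕ).testBit 6 then e₀ else 1) *
    ((List.finRange 6).map fun (j : Fin 6) => if (y : ℕ).testBit j then g j else 1).prod

/-- A block of rank three. -/
structure Trio (G : Type u) (V : Type v) [Group G] [AddCommGroup V] [DistribMulAction G V]
    (T B L L₀ : Subgroup G) (C : Data) (e₀ : G) (g : Fin 6 → G) (vec : Vec →+ V) : Prop where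
  le : L₀ ≤ L
  mem : ∀ j, g j ∈ B
  e₀_mem : e₀ ∈ T
  e₀_neg : ∀ z : V, e₀ • z = -z
  centre_two : ∀ t ∈ T, t = 1 ∨ t = e₀
  act : ∀ j z, g j • vec z = vec (C.gen j z)
  fixed : ∀ x ∈ L₀, ∀ z, x • vec z = vec z
  decomp : ∀ x ∈ cent B L₀, ∃ y, ∃ l ∈ L₀, x = el e₀ g y * l
  uniq : ∀ (ι : Type u) [Fintype ι] (r : ι → B),
    (∀ a b, a ≠ b → ((r a)⁻¹ * r b : B) ∉ (cent B L₀).subgroupOf B) →
    ∀ z z' : ι → Vec, ∑ a, (r a : G) • vec (z a) = ∑ a, (r a : G) • vec (z' a) → z = z'

theorem noSel_sound {n : ℕ} (P : (Fin n → Fin n) → Prop) (h1 : ∀ f, P f → Data.bad f = false)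
    (h2 : ∀ g f, P g → P f → Data.bad2 g f = false) :
    ∀ (ls : List (List (Fin n → Fin n))) (ch : List (Fin n → Fin n)),
      Data.noSel ch ls = true → (∀ c ∈ ch, P c) → (∀ l ∈ ls, ∃ f ∈ l, f ≠ id ∧ P f) → False := by
  intro ls
  induction ls with
  | nil => intro ch h; simp [Data.noSel] at h
  | cons l rest ih =>
    intro ch h hch hl
    obtain ⟨f, hf, hne, hP⟩ := hl l (List.mem_cons_self ..)
    rw [Data.noSel, List.all_eq_true] at h
    have hf' := h f hf
    simp only [Bool.or_eq_true, decide_eq_true_eq] at hf'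
    rcases hf' with ((h3 | h3) | h3) | h3
    · exact hne h3
    · rw [h1 f hP] at h3; exact Bool.false_ne_true h3
    · obtain ⟨c, hc, hc'⟩ := List.any_eq_true.1 h3
      rw [h2 c f (hch c hc) hP] at hc'; exact Bool.false_ne_true hc'
    · refine ih (f :: ch) h3 ?_ fun l' hl' => hl l' (List.mem_cons_of_mem _ hl')
      intro c hc
      rcases List.mem_cons.1 hc with rfl | hc
      · exact hP
      · exact hch c hc

theorem eq_or_eq_negIdx : ∀ a b : Fin 128, (a : ℕ) % 64 = (b : ℕ) % 64 →
    a = b ∨ a = Data.negIdx b := by decide +kernel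

theorem negIdx_mod : ∀ b : Fin 128, (Data.negIdx b : ℕ) % 64 = (b : ℕ) % 64 := by decide +kernel

theorem negIdx_zero : Data.negIdx 0 = 64 := by decide +kernel

theorem regular2_trip {G : Type u} {V : Type v} [Group G] [AddCommGroup V]
    [DistribMulAction G V] [Finite G] [Finite V] {T B L L₀ : Subgroup G} {ζ : G} {v₀ : V}
    (hLay : Cfsg.Agent.H10.BaseTwo.Layer G V T B L ζ v₀) (h3 : ¬ 3 ∣ Nat.card G) {C : Data}
    (hC : C.Valid) (hsp : Function.Injective C.sp)
    (hspec : ∀ j, C.spec (C.sp j) ∧ C.sp j ≠ 0 ∧ C.sp j ≠ 64) {e₀ : G} {gg : Fin 6 → G}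
    {vec : Vec →+ V} (hT : Trio G V T B L L₀ C e₀ gg vec) :
    ∃ t : V × V, Cfsg.Agent.H10.BaseTwo.Regular2 G t := by
  classical
  have F := hLay.frame
  have hBn := hLay.bnormal
  have hTn := F.tnormal
  have hcomb : ∀ (c : Vec) (b : Fin 8 → Fin 128),
      (fun d => C.comb c b d) = ∑ e : Fin 8, (c e).val • C.tv (b e) := by
    intro c b
    funext d
    simp only [Data.comb, Fin.sum_univ_eight, Pi.add_apply, Pi.smul_apply, nsmul_eq_mul,
      Pi.mul_apply, Pi.natCast_apply, ZMod.natCast_zmod_val]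
  have helB : ∀ y, el e₀ gg y ∈ B := fun y => by
    refine mul_mem (by split_ifs; exacts [F.tle hT.e₀_mem, one_mem B]) (list_prod_mem ?_)
    intro x hx
    obtain ⟨j, -, rfl⟩ := List.mem_map.1 hx
    split_ifs
    exacts [hT.mem j, one_mem B]
  have hel : ∀ y z, el e₀ gg y • vec z = vec (C.act y z) := by
    intro y z
    have h : ∀ l : List (Fin 6),
        (l.map fun (j : Fin 6) => if (y : ℕ).testBit j then gg j else 1).prod • vec z =
          vec (l.foldr (fun (j : Fin 6) z => if (y : ℕ).testBit j then C.gen j z else z) z) := by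
      intro l
      induction l with
      | nil => simp
      | cons j l ih =>
        rw [List.map_cons, List.prod_cons, mul_smul, ih, List.foldr_cons]
        split_ifs
        · exact hT.act j _
        · exact one_smul _ _
    rw [el, mul_smul, h, Data.act]
    split_ifs
    · rw [hT.e₀_neg, map_neg]
    · exact one_smul _ _
  have hneg : ∀ x, C.tv (Data.negIdx x) = -C.tv x := fun x => funext (hC.neg_tbl x)
  have hacttv : ∀ y x, C.act y (C.tv x) = C.tv (C.mul y x) := by
    intro y x
    have h : ∀ l : List (Fin 6),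
        l.foldr (fun (j : Fin 6) z => if (y : ℕ).testBit j then C.gen j z else z) (C.tv x) =
          C.tv (l.foldr (fun (j : Fin 6) x => if (y : ℕ).testBit j then C.gmul j x else x) x) := by
      intro l
      induction l with
      | nil => rfl
      | cons j l ih =>
        simp only [List.foldr_cons, ih]
        split_ifs
        · exact funext (hC.gen_tbl j _)
        · rfl
    simp only [Data.act, Data.mul, h]
    split_ifs
    · exact (hneg _).symm
    · rfl
  let tt : Fin 128 → V := fun x => vec (C.tv x)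
  have helt : ∀ y x, el e₀ gg y • tt x = tt (C.mul y x) := fun y x => by
    simp only [tt, hel, hacttv]
  have helv : ∀ y, el e₀ gg y • tt 0 = tt y := fun y => by rw [helt, hC.mul_zero]
  let v := tt 0
  haveI := F.cent_normal
  let N₀ := (cent B L₀).subgroupOf B
  have hTC₀ : T ≤ cent B L₀ := fun t ht => mem_cent.2
    ⟨F.tle ht, fun x hx => (F.central t ht x (F.lle (hT.le hx))).symm⟩
  haveI hN₀n : N₀.Normal := by
    refine ⟨fun x hx y => ?_⟩
    rw [Subgroup.mem_subgroupOf] at hx ⊢
    have h := mul_mem (hTC₀ (F.comm (y : G) y.2 (x : G) x.2)) hx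
    rwa [commutatorElement_def, inv_mul_cancel_right] at h
  letI : CommGroup (B ⧸ N₀) :=
    { (inferInstance : Group (B ⧸ N₀)) with
      mul_comm := fun x y => by
        induction x using QuotientGroup.induction_on with
        | _ a =>
          induction y using QuotientGroup.induction_on with
          | _ b =>
            refine commutatorElement_eq_one_iff_mul_comm.1
              ((map_commutatorElement (QuotientGroup.mk' N₀) a b).symm.trans
                ((QuotientGroup.eq_one_iff _).2 ?_))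
            exact hTC₀ (F.comm (a : G) a.2 (b : G) b.2) }
  letI := Fintype.ofFinite (B ⧸ N₀)
  let rep : B ⧸ N₀ → B := fun q => if q = 1 then 1 else q.out
  have hrep : ∀ q, (rep q : B ⧸ N₀) = q := fun q => by
    by_cases h : q = 1
    · simp [rep, h]
    · simp [rep, h]
  have hrep1 : rep 1 = 1 := if_pos rfl
  have hrinj : ∀ p q, p ≠ q → ((rep p)⁻¹ * rep q : B) ∉ N₀ := fun p q hne hmem => hne (by
    rw [← hrep p, ← hrep q]; exact QuotientGroup.eq.2 hmem)
  have huniq := hT.uniq _ rep hrinj
  have hvinj : ∀ z z', vec z = vec z' → z = z' := fun z z' h => by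
    have hs : ∀ y : Vec, ∑ q, (rep q : G) • vec (if q = (1 : B ⧸ N₀) then y else 0) = vec y := by
      intro y
      rw [Fintype.sum_eq_single 1 fun q hq => ?_]
      · simp [hrep1]
      · simp [if_neg hq]
    exact by
      simpa using congrFun (huniq (fun q => if q = 1 then z else 0) (fun q => if q = 1 then z' else 0)
        (by rw [hs, hs, h])) 1
  have httinj : ∀ x y, tt x = tt y → x = y := fun x y h => hC.tv_inj x y (hvinj _ _ h)
  have hne0 : ∀ z : Vec, (∀ y, C.act y z = z → y = 0) → vec z ≠ 0 := fun z hfree h => by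
    have hz : z = 0 := hvinj _ _ (h.trans (map_zero vec).symm)
    have hact : C.act 64 z = z := by
      refine hvinj _ _ ?_
      rw [← hel, h, smul_zero]
    exact absurd (hfree 64 hact) (by decide)
  have hfreev : ∀ y, C.act y (C.tv 0) = C.tv 0 → y = 0 := fun y h => by
    rw [hacttv, hC.mul_zero] at h
    exact hC.tv_inj _ _ h
  have hv0 : v ≠ 0 := hne0 _ hfreev
  have hel0 : el e₀ gg 0 = 1 := by simp [el]
  have hstab : ∀ z : Vec, (∀ y, C.act y z = z → y = 0) →
      ∀ x ∈ B, x • vec z = vec z → x ∈ L₀ := by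
    intro z hfree x hx hxz
    have hxC : x ∈ cent B L₀ := by
      refine mem_cent.2 ⟨hx, fun y hy => commutatorElement_eq_one_iff_mul_comm.1
        (hLay.fpf _ (F.comm y (F.lle (hT.le hy)) x hx) _ (hne0 z hfree) ?_)⟩
      have h1 : y ∈ MulAction.stabilizer G (vec z) := hT.fixed y hy z
      have h2 : x ∈ MulAction.stabilizer G (vec z) := hxz
      have : ⁅y, x⁆ ∈ MulAction.stabilizer G (vec z) := by
        rw [commutatorElement_def]
        exact mul_mem (mul_mem (mul_mem h1 h2) (inv_mem h1)) (inv_mem h2)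
      exact this
    obtain ⟨y, l, hl, rfl⟩ := hT.decomp x hxC
    rw [mul_smul, hT.fixed l hl, hel] at hxz
    rw [hfree y (hvinj _ _ hxz), hel0, one_mul]
    exact hl
  -- the stabiliser of the first vector acts on the orbit table
  let Gv : Subgroup G := MulAction.stabilizer G v
  have hnormL : ∀ x : G, x • v = v → ∀ y ∈ L₀, x * y * x⁻¹ ∈ L₀ := fun x hx y hy =>
    hstab _ hfreev _ (hBn.conj_mem y (F.lle (hT.le hy)) x) (by
      change (x * y * x⁻¹) • v = v
      rw [mul_smul, mul_smul, inv_smul_eq_iff.2 hx.symm, hT.fixed y hy, hx])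
  have hcentconj : ∀ x : G, x • v = v → ∀ c ∈ cent B L₀, x * c * x⁻¹ ∈ cent B L₀ := by
    intro x hx c hc
    refine mem_cent.2 ⟨hBn.conj_mem c (mem_cent.1 hc).1 x, fun l hl => ?_⟩
    have h := (mem_cent.1 hc).2 _ (hnormL x⁻¹ (inv_smul_eq_iff.2 hx.symm) l hl)
    rw [inv_inv] at h
    calc l * (x * c * x⁻¹) = x * (x⁻¹ * l * x * c) * x⁻¹ := by group
      _ = x * (c * (x⁻¹ * l * x)) * x⁻¹ := by rw [h]
      _ = x * c * x⁻¹ * l := by group
  have helC : ∀ y, el e₀ gg y ∈ cent B L₀ := fun y => mem_cent.2 ⟨helB y, fun l hl =>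
    commutatorElement_eq_one_iff_mul_comm.1 (hLay.fpf _
      (F.comm l (F.lle (hT.le hl)) _ (helB y)) v hv0 (by
        change ⁅l, el e₀ gg y⁆ • vec (C.tv 0) = vec (C.tv 0)
        rw [commutatorElement_def, mul_smul, mul_smul, mul_smul]
        obtain ⟨w, hw⟩ : ∃ w, (el e₀ gg y)⁻¹ • vec (C.tv 0) = vec w := by
          have hy' : ∀ z, ∃ w, el e₀ gg y • vec z = vec w := fun z => ⟨_, hel y z⟩
          choose f hf using hy'
          have hfi : Function.Injective f := fun a b hab => hvinj _ _
            (smul_left_cancel _ ((hf a).trans ((congrArg vec hab).trans (hf b).symm)))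
          obtain ⟨w, hw⟩ := (Finite.injective_iff_surjective.1 hfi) (C.tv 0)
          exact ⟨w, by rw [inv_smul_eq_iff, hf, hw]⟩
        rw [hw, inv_smul_eq_iff.2 (hT.fixed l hl w).symm, ← hw, smul_inv_smul,
          hT.fixed l hl]))⟩
  have hσex : ∀ (g : Gv) (x : Fin 128), ∃ x', (g : G) • tt x = tt x' ∧
      ∀ z, ((g : G) * el e₀ gg x * (g : G)⁻¹) • vec z = el e₀ gg x' • vec z := by
    intro g x
    obtain ⟨y, l, hl, hy⟩ := hT.decomp _ (hcentconj g g.2 _ (helC x))
    have hall : ∀ z, ((g : G) * el e₀ gg x * (g : G)⁻¹) • vec z = el e₀ gg y • vec z := fun z => by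
      rw [hy, mul_smul, hT.fixed l hl]
    refine ⟨y, ?_, hall⟩
    rw [← helv y, ← helv x]
    rw [show (g : G) • el e₀ gg x • tt 0 = ((g : G) * el e₀ gg x * (g : G)⁻¹) • (g : G) • tt 0 by
      rw [mul_smul, mul_smul, inv_smul_smul]]
    rw [show (g : G) • tt 0 = tt 0 from g.2]
    exact hall _
  choose σ hσ hσel using hσex
  have hcombvec : ∀ c b, vec (fun d => C.comb c b d) = ∑ e : Fin 8, (c e).val • tt (b e) :=
    fun c b => by rw [hcomb, map_sum]; exact Finset.sum_congr rfl fun e _ => map_nsmul vec _ _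
  have hgcomb : ∀ (g : Gv) c b,
      (g : G) • vec (fun d => C.comb c b d) = vec (fun d => C.comb c (σ g ∘ b) d) := fun g c b => by
    rw [hcombvec, hcombvec, Finset.smul_sum]
    exact Finset.sum_congr rfl fun e _ => by rw [smul_nsmul', hσ]; rfl
  have hspan : ∀ z : Vec, ∃ c, z = fun d => C.comb c C.bidx d := by
    intro z
    refine ⟨fun e => ∑ d, z d * C.units d e, funext fun d' => ?_⟩
    have h : ∑ d, z d * C.comb (C.units d) C.bidx d' = z d' := by
      simp [hC.units_ok]
    rw [← h]
    simp only [Data.comb, mul_add, Finset.sum_add_distrib, Finset.sum_mul, mul_assoc]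
  have hgW : ∀ (g : Gv) z, ∃ z', (g : G) • vec z = vec z' := fun g z => by
    obtain ⟨c, hc⟩ := hspan z
    exact ⟨_, by rw [hc, hgcomb]⟩
  have hσinj : ∀ g, Function.Injective (σ g) := fun g x y h => httinj x y
    (smul_left_cancel (g : G) (by rw [hσ, hσ, h]))
  have hσ0 : ∀ g, σ g 0 = 0 := fun g => httinj _ _ (by rw [← hσ]; exact g.2)
  have hσneg : ∀ g x, σ g (Data.negIdx x) = Data.negIdx (σ g x) := fun g x => by
    refine httinj _ _ ?_
    rw [← hσ]
    simp only [tt, hneg, map_neg, smul_neg]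
    exact congrArg Neg.neg (hσ g x)
  have hσ64 : ∀ g, σ g 64 = 64 := fun g => by rw [← negIdx_zero, hσneg, hσ0]
  have hσmul : ∀ g y x, σ g (C.mul y x) = C.mul (σ g y) (σ g x) := fun g y x => by
    refine httinj _ _ ?_
    rw [← hσ, ← helt, ← helt,
      show (g : G) • el e₀ gg y • tt x = ((g : G) * el e₀ gg y * (g : G)⁻¹) • (g : G) • tt x by
        rw [mul_smul, mul_smul, inv_smul_smul], hσ]
    exact hσel g y _
  have hσspec : ∀ g x, C.spec x → C.spec (σ g x) := by
    intro g x hx
    unfold Data.spec at hx ⊢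
    have happ : ∀ a b c d : Fin 128, (∀ e, C.tv a e + C.tv b e = C.tv c e + C.tv d e) →
        ∀ e, C.tv (σ g a) e + C.tv (σ g b) e = C.tv (σ g c) e + C.tv (σ g d) e := by
      intro a b c d h
      have h1 : (g : G) • (tt a + tt b) = (g : G) • (tt c + tt d) := by
        simp only [tt, ← map_add]
        rw [show C.tv a + C.tv b = C.tv c + C.tv d from funext h]
      rw [smul_add, smul_add, hσ, hσ, hσ, hσ] at h1
      simp only [tt, ← map_add] at h1
      exact congrFun (hvinj _ _ h1)
    split_ifs at hx ⊢ with hb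
    · have hle : ∀ x, C.fixCount x ≤ C.fixCount (σ g x) := fun x => by
        simp only [Data.fixCount]
        rw [List.countP_eq_length_filter, List.countP_eq_length_filter,
          ← List.toFinset_card_of_nodup ((List.nodup_finRange 128).filter _),
          ← List.toFinset_card_of_nodup ((List.nodup_finRange 128).filter _)]
        refine Finset.card_le_card_of_injOn (σ g) (fun y hy => ?_) (hσinj g).injOn
        simp only [List.coe_toFinset, Set.mem_ofPred_eq, List.mem_filter, List.mem_finRange,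
          true_and, decide_eq_true_eq] at hy ⊢
        intro e
        have := happ _ _ _ _ hy e
        rwa [hσmul, hσ0] at this
      exact ⟨hx.1.trans (hle x), by rw [← hσneg]; exact hx.2.trans (hle _)⟩
    · obtain ⟨y, hy⟩ := hx
      refine ⟨σ g y, fun e => ?_⟩
      have h1 : (g : G) • (tt 0 + tt x + tt y) = (g : G) • (0 : V) := by
        simp only [tt, ← map_add]
        rw [show C.tv 0 + C.tv x + C.tv y = 0 from funext hy, map_zero]
      rw [smul_add, smul_add, hσ, hσ, hσ, hσ0, smul_zero] at h1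
      simp only [tt, ← map_add] at h1
      exact congrFun (hvinj _ _ (h1.trans (map_zero vec).symm)) e
  have hσsp : ∀ g x, C.spec x → x ≠ 0 → x ≠ 64 → ∃ j, C.sp j = σ g x := fun g x hx h0 h64 =>
    hC.spec_sp _ (fun h => h0 (hσinj g (h.trans (hσ0 g).symm)))
      (fun h => h64 (hσinj g (h.trans (hσ64 g).symm))) (hσspec g x hx)
  have hπex : ∀ (g : Gv) j, ∃ j', C.sp j' = σ g (C.sp j) := fun g j =>
    hσsp g _ (hspec j).1 (hspec j).2.1 (hspec j).2.2
  choose π hπ using hπex
  have hσcomp : ∀ (g h : Gv) x, σ (g * h) x = σ g (σ h x) := fun g h x => by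
    refine httinj _ _ ?_
    rw [← hσ, Subgroup.coe_mul, mul_smul, hσ, hσ]
  have hπcomp : ∀ g h : Gv, π (g * h) = π g ∘ π h := fun g h => funext fun j => hsp (by
    rw [hπ, hσcomp, Function.comp_apply, hπ, hπ])
  have hπone : π 1 = id := funext fun j => hsp (by
    rw [hπ]
    refine httinj _ _ ?_
    rw [← hσ]
    exact one_smul _ _)
  have hπpow : ∀ (g : Gv) (m : ℕ), π (g ^ m) = (π g)^[m] := fun g m => by
    induction m with
    | zero => simpa using hπone
    | succ m ih => rw [pow_succ', hπcomp, ih, Function.iterate_succ']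
  have hgood : ∀ g : Gv, Data.bad (π g) = false := by
    intro g
    by_contra hb
    rw [Bool.not_eq_false, Data.bad, List.any_eq_true] at hb
    obtain ⟨m, -, hm⟩ := hb
    rw [decide_eq_true_eq, Data.iter_eq, Data.iter_eq, ← hπpow, ← hπpow] at hm
    obtain ⟨hm1, hm3⟩ := hm
    have hcop : Nat.Coprime 3 (orderOf (g ^ m)) := (Nat.Prime.coprime_iff_not_dvd Nat.prime_three).2
      fun hd => h3 (hd.trans ((orderOf_dvd_natCard _).trans (Subgroup.card_subgroup_dvd_card Gv)))
    obtain ⟨t, ht⟩ := exists_pow_eq_self_of_coprime hcop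
    apply hm1
    rw [← ht, ← pow_mul g, hπpow, mul_comm m 3, hm3]
    exact Function.iterate_id t
  have hgood2 : ∀ g h : Gv, Data.bad2 (π g) (π h) = false := fun g h => by
    simp only [Data.bad2, ← hπcomp, hgood, Bool.or_self]
  have hs : ∀ i, ∃ j, C.sp j = C.s i := fun i =>
    hC.spec_sp _ (hC.spec_gen i).2.1 (hC.spec_gen i).2.2 (hC.spec_gen i).1
  have hσbidx : ∀ g, σ g ∘ C.bidx = C.bimg (σ g (C.s 0)) (σ g (C.s 1)) (σ g (C.s 2)) := fun g => by
    funext e
    fin_cases e <;> simp [Data.bidx, Data.bimg, hσmul, hσ0]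
  have hfixall : ∀ g : Gv, π g = id → ∀ z, (g : G) • vec z = vec z := by
    intro g hg z
    have hfix : ∀ i, σ g (C.s i) = C.s i := fun i => by
      obtain ⟨j, hj⟩ := hs i
      rw [← hj, ← hπ, hg]; rfl
    obtain ⟨c, hc⟩ := hspan z
    rw [hc, hgcomb, hσbidx, hfix, hfix, hfix]
    rfl
  -- a good second vector
  obtain ⟨i₀, hi₀⟩ : ∃ i : Fin C.k, ∀ g : Gv,
      (g : G) • vec (fun d => C.comb (C.cw i) C.bidx d) = vec (fun d => C.comb (C.cw i) C.bidx d) →
        ∀ z, (g : G) • vec z = vec z := by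
    by_contra hc
    push Not at hc
    refine noSel_sound (fun f => ∃ g : Gv, π g = f) ?_ ?_ _ [] hC.clique (by simp) ?_
    · rintro f ⟨g, rfl⟩; exact hgood g
    · rintro f f' ⟨g, rfl⟩ ⟨g', rfl⟩; exact hgood2 g g'
    intro l hl
    obtain ⟨i, rfl⟩ := (List.mem_ofFn' ..).1 hl
    obtain ⟨g, hgw, z, hgz⟩ := hc i
    obtain ⟨a, ha⟩ := hσsp g _ (hC.spec_gen 0).1 (hC.spec_gen 0).2.1 (hC.spec_gen 0).2.2
    obtain ⟨b, hb⟩ := hσsp g _ (hC.spec_gen 1).1 (hC.spec_gen 1).2.1 (hC.spec_gen 1).2.2
    obtain ⟨c, hcc⟩ := hσsp g _ (hC.spec_gen 2).1 (hC.spec_gen 2).2.1 (hC.spec_gen 2).2.2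
    have himg : σ g ∘ C.bidx = C.bimg (C.sp a) (C.sp b) (C.sp c) := by rw [hσbidx, ha, hb, hcc]
    obtain ⟨f, hf, hfeq⟩ := hC.stab_ok i a b c
      (by rw [ha, hb, ← hσmul, ← hσmul, hC.s_comm])
      (by rw [ha, hcc, ← hσmul, ← hσmul, hC.s_comm])
      (by rw [hb, hcc, ← hσmul, ← hσmul, hC.s_comm])
      (fun d => by
        rw [hgcomb, himg] at hgw
        exact congrFun (hvinj _ _ hgw) d)
      (by
        intro e e' he
        rw [← himg] at he
        apply hC.s_inj
        rcases eq_or_eq_negIdx _ _ he with h | h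
        · simp only [hσinj g h]
        · simp only [Function.comp_apply, ← hσneg] at h
          simp only [hσinj g h, negIdx_mod])
    have hfπ : π g = f := funext fun j => hsp (by
      refine hC.tv_inj _ _ (funext fun d => ?_)
      rw [hfeq, hπ]
      have h1 : vec (C.tv (σ g (C.sp j))) = vec (fun d => C.comb (C.cs j) (σ g ∘ C.bidx) d) := by
        rw [← hgcomb, show (fun d => C.comb (C.cs j) C.bidx d) = C.tv (C.sp j) from
          funext (hC.cs_ok j)]
        exact (hσ g (C.sp j)).symm
      rw [himg] at h1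
      exact congrFun (hvinj _ _ h1) d)
    exact ⟨f, hf, fun h => hgz (hfixall g (hfπ.trans h) z), g, hfπ⟩
  -- the pair
  obtain ⟨col, hcol1, hcol0, hcol⟩ := Cfsg.Agent.H10.BaseThree.exists_colouring (B ⧸ N₀)
  let γ : B ⧸ N₀ → Vec := fun q =>
    if h : q = 1 then (fun d => C.comb (C.cw i₀) C.bidx d)
    else C.u ((col q).pred fun h' => h (hcol0 q h'))
  refine ⟨(v, ∑ q, (rep q : G) • vec (γ q)), fun g hg1 hg2 => ?_⟩
  have hinvfix : ∀ x : G, x • v = v → x⁻¹ • v = v := fun x hx => by
    rw [inv_smul_eq_iff]; exact hx.symm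
  let gv : Gv := ⟨g, hg1⟩
  let φ : B ⧸ N₀ →* B ⧸ N₀ := QuotientGroup.map N₀ N₀ ((MulAut.conjNormal g : B ≃* B) : B →* B)
    (fun c hc => by
      rw [Subgroup.mem_comap, Subgroup.mem_subgroupOf]
      exact hcentconj g hg1 _ hc)
  have hφmk : ∀ y : B, φ (y : B ⧸ N₀) = ((MulAut.conjNormal g y : B) : B ⧸ N₀) := fun y => rfl
  have hφinj : Function.Injective φ := by
    rw [injective_iff_map_eq_one]
    intro x hx
    induction x using QuotientGroup.induction_on with
    | _ y =>
      rw [hφmk, QuotientGroup.eq_one_iff, Subgroup.mem_subgroupOf, MulAut.conjNormal_apply] at hx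
      rw [QuotientGroup.eq_one_iff, Subgroup.mem_subgroupOf]
      have := hcentconj g⁻¹ (hinvfix g hg1) _ hx
      group at this
      exact this
  let φe : (B ⧸ N₀) ≃ (B ⧸ N₀) := Equiv.ofBijective φ (Finite.injective_iff_bijective.1 hφinj)
  let c : B ⧸ N₀ → G := fun q => (rep (φ q) : G)⁻¹ * (g * (rep q : G) * g⁻¹)
  have hc : ∀ q, c q ∈ cent B L₀ := fun q => by
    have h : ((MulAut.conjNormal g (rep q) : B) : B ⧸ N₀) = φ q := by rw [← hφmk, hrep]
    have h2 := QuotientGroup.eq.1 ((hrep (φ q)).trans h.symm)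
    rw [Subgroup.mem_subgroupOf] at h2
    simpa [c, MulAut.conjNormal_apply] using h2
  have himg' : ∀ q, ∃ z, c q • g • vec (γ q) = vec z := fun q => by
    obtain ⟨z, hz⟩ := hgW gv (γ q)
    obtain ⟨y, l, hl, hy⟩ := hT.decomp _ (hc q)
    exact ⟨C.act y z, by rw [show g • vec (γ q) = vec z from hz, hy, mul_smul, hT.fixed l hl, hel]⟩
  choose img himgeq using himg'
  have hmove : ∀ q, c q • g • vec (γ q) = vec (γ (φ q)) := by
    intro q
    have hsum : ∑ q', (rep q' : G) • vec (img (φe.symm q')) = ∑ q, (rep q : G) • vec (γ q) := by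
      rw [← Fintype.sum_equiv φe (fun x => g • (rep x : G) • vec (γ x)) _ fun x => ?_,
        ← Finset.smul_sum]
      · exact hg2
      rw [Equiv.symm_apply_apply, ← himgeq]
      change g • (rep x : G) • vec (γ x) = (rep (φ x) : G) • c x • g • vec (γ x)
      simp only [c, smul_smul]
      congr 1; group
    have := congrFun (huniq _ _ hsum) (φe q)
    rw [Equiv.symm_apply_apply] at this
    rw [himgeq, this]
    rfl
  have hc1 : c 1 = 1 := by simp [c, hrep1]
  have hgall : ∀ z, g • vec z = vec z := by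
    refine hi₀ gv ?_
    have h := hmove 1
    rw [hc1, one_smul, map_one] at h
    simpa [γ] using h
  have hgT : ∀ t ∈ T, g * t = t * g := by
    have he : g * e₀ * g⁻¹ = e₀ := by
      rcases hT.centre_two _ (hTn.conj_mem e₀ hT.e₀_mem g) with h | h
      · have h1 : e₀ = 1 := by
          calc e₀ = g⁻¹ * (g * e₀ * g⁻¹) * g := by group
            _ = 1 := by rw [h]; group
        rw [h1]; simp
      · exact h
    intro t ht
    rcases hT.centre_two t ht with rfl | rfl
    · simp
    · exact mul_inv_eq_iff_eq_mul.1 he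
  have hcq : ∀ q, col (φ q) = col q ∧ c q ∈ L₀ := by
    intro q
    by_cases hq : q = 1
    · subst hq
      rw [map_one, hc1]
      exact ⟨rfl, one_mem _⟩
    have hφq : φ q ≠ 1 := fun h => hq (hφinj (h.trans (map_one φ).symm))
    have h := hmove q
    rw [hgall] at h
    simp only [γ, dif_neg hq, dif_neg hφq] at h
    obtain ⟨y, l, hl, hyeq⟩ := hT.decomp _ (hc q)
    have h' : vec (C.act y (C.u ((col q).pred fun h' => hq (hcol0 q h')))) =
        vec (C.u ((col (φ q)).pred fun h' => hφq (hcol0 _ h'))) := by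
      rw [← hel, ← h, hyeq, mul_smul, hT.fixed l hl]
    have hij := hC.dist _ _ _ (hvinj _ _ h')
    have hcolq : col (φ q) = col q := by
      rw [← Fin.succ_pred (col (φ q)) (fun h' => hφq (hcol0 _ h')),
        ← Fin.succ_pred (col q) (fun h' => hq (hcol0 q h')), hij]
    refine ⟨hcolq, hstab _ (hC.free_u ((col q).pred fun h' => hq (hcol0 q h'))) _
      (mem_cent.1 (hc q)).1 ?_⟩
    rw [h]
    simp only [hcolq]
  have hφid : ∀ q, φ q = q := hcol φ hφinj fun q => (hcq q).1
  have hBv : ∀ y ∈ B, g • y • v = y • v := by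
    intro y hy
    set q : B ⧸ N₀ := ((⟨y, hy⟩ : B) : B ⧸ N₀)
    have hr : (rep q : G)⁻¹ * y ∈ cent B L₀ := by
      have := QuotientGroup.eq.1 (hrep q : (rep q : B ⧸ N₀) = ((⟨y, hy⟩ : B) : B ⧸ N₀))
      rwa [Subgroup.mem_subgroupOf] at this
    obtain ⟨x, l, hl, hx⟩ := hT.decomp _ hr
    have hxv : ((rep q : G)⁻¹ * y) • v = vec (C.tv x) := by
      rw [hx, mul_smul]
      change el e₀ gg x • l • vec (C.tv 0) = _
      rw [hT.fixed l hl]; exact helv x
    calc g • y • v = g • (rep q : G) • ((rep q : G)⁻¹ * y) • v := by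
          rw [← mul_smul (rep q : G), mul_inv_cancel_left]
      _ = (g * (rep q : G) * g⁻¹) • g • vec (C.tv x) := by
          rw [hxv, mul_smul, mul_smul, inv_smul_smul]
      _ = (rep q : G) • c q • vec (C.tv x) := by
          rw [hgall, ← mul_smul]
          congr 1
          simp only [c, hφid q]; group
      _ = y • v := by
          rw [hT.fixed _ (hcq q).2, ← hxv, ← mul_smul, mul_inv_cancel_left]
  have hgB : ∀ y ∈ B, g * y = y * g := by
    intro y hy
    have hd : ∀ b' ∈ B, (y⁻¹ * (g * y * g⁻¹)) • b' • v = b' • v := by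
      intro b' hb'
      have e1 : g⁻¹ • b' • v = b' • v := by rw [inv_smul_eq_iff, hBv b' hb']
      have e2 : g • y • b' • v = y • b' • v := by rw [← mul_smul y, hBv _ (mul_mem hy hb')]
      rw [mul_smul, inv_smul_eq_iff, mul_smul, mul_smul, e1, e2]
    set d := y⁻¹ * (g * y * g⁻¹)
    have hdB : d ∈ B := mul_mem (inv_mem hy) (hBn.conj_mem y hy g)
    have hdv : d • v = v := by simpa using hd 1 (one_mem B)
    have hdT : d ∈ T := F.centre d hdB fun x hx => by
      refine commutatorElement_eq_one_iff_mul_comm.1 (hLay.fpf _ (F.comm d hdB x hx) _ hv0 ?_)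
      rw [commutatorElement_def, mul_smul, mul_smul, mul_smul]
      have e3 : d⁻¹ • x⁻¹ • v = x⁻¹ • v := by rw [inv_smul_eq_iff, hd _ (inv_mem hx)]
      rw [e3, smul_inv_smul, hdv]
    exact mul_inv_eq_iff_eq_mul.1 (inv_mul_eq_one.1 (hLay.fpf d hdT _ hv0 hdv)).symm
  intro z
  rw [hLay.fpf g (hLay.self g hgT hgB) _ hv0 hg1, one_smul]

end Cfsg.Agent.H81.BaseTwo.Trip
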