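import Mathlib
import Cfsg.Agent.H81.BaseTwo.Field
import Cfsg.Agent.H81.BaseTwo.TripModel
import Cfsg.Agent.H10.BaseTwo.Setup

/-!
# Coordinates for a block of rank three
-/

namespace Cfsg.Agent.H81.BaseTwo.Trip

open Cfsg.Agent.H10.BaseThree

universe u v

variable {G : Type u} {V : Type v} [Group G] [AddCommGroup V] [DistribMulAction G V]
  {T B L : Subgroup G} {K : Type v} [Field K]

/-- The product of the selected members of a triple. -/
def shift (s : Fin 3 → G) (d : Fin 8) : G :=
  (if bit d 0 then s 0 else 1) * ((if bit d 1 then s 1 else 1) * (if bit d 2 then s 2 else 1))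

theorem shift_true (s : Fin 3 → G) (hss : ∀ i i', Commute (s i) (s i')) (i : Fin 3) (d : Fin 8) :
    shift s (setBit d i true) = s i * shift s (setBit d i false) := by
  have h01 := (hss 1 0).eq
  have h02 := (hss 2 0).eq
  have h12 := (hss 2 1).eq
  have a01 : ∀ x, s 1 * (s 0 * x) = s 0 * (s 1 * x) := fun x => by rw [← mul_assoc, h01, mul_assoc]
  have a02 : ∀ x, s 2 * (s 0 * x) = s 0 * (s 2 * x) := fun x => by rw [← mul_assoc, h02, mul_assoc]
  have a12 : ∀ x, s 2 * (s 1 * x) = s 1 * (s 2 * x) := fun x => by rw [← mul_assoc, h12, mul_assoc]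
  fin_cases i <;> fin_cases d <;>
    simp [shift, setBit, bit, Nat.testBit, Nat.shiftRight_eq_div_pow, h01, h02, h12, a01, a02, a12]

theorem setBit_false_bit : ∀ (d : Fin 8) (i : Fin 3), bit (setBit d i false) i = false := by decide

theorem commute_shift_false (s : Fin 3 → G) {g : G} (i : Fin 3)
    (hg : ∀ i', i' ≠ i → Commute g (s i')) (d : Fin 8) :
    Commute g (shift s (setBit d i false)) := by
  have key : ∀ i', Commute g (if bit (setBit d i false) i' then s i' else 1) := by
    intro i'
    by_cases h : i' = i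
    · subst h
      simp [setBit_false_bit]
    · split_ifs
      exacts [hg i' h, Commute.one_right g]
  exact (key 0).mul_right ((key 1).mul_right (key 2))

theorem setBit_bit : ∀ (d : Fin 8) (i : Fin 3), setBit d i (bit d i) = d := by decide

/-- The coordinates attached to a vector and three commuting elements. -/
noncomputable def coord (D : FieldData G V T K) (ι : ZMod 3 →+* K) (s : Fin 3 → G) (w : V) :
    Vec →+ V :=
  AddMonoidHom.mk' (fun z => ∑ d, D.op (ι (z d)) (shift s d • w)) fun a b => by
    rw [← Finset.sum_add_distrib]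
    exact Finset.sum_congr rfl fun d _ => by rw [Pi.add_apply, map_add, map_add]; rfl

theorem coord_apply (D : FieldData G V T K) (ι : ZMod 3 →+* K) (s : Fin 3 → G) (w : V) (z : Vec) :
    coord D ι s w z = ∑ d, D.op (ι (z d)) (shift s d • w) := rfl

theorem setBit_eq : ∀ (d : Fin 8) (i : Fin 3) (b : Bool), setBit d i b =
    ![if b then ![1, 1, 3, 3, 5, 5, 7, 7] else ![0, 0, 2, 2, 4, 4, 6, 6],
      if b then ![2, 3, 2, 3, 6, 7, 6, 7] else ![0, 1, 0, 1, 4, 5, 4, 5],
      if b then ![4, 5, 6, 7, 4, 5, 6, 7] else ![0, 1, 2, 3, 0, 1, 2, 3]] i d := by decide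

theorem bit_eq : ∀ (d : Fin 8) (i : Fin 3), bit d i =
    ![![false, true, false, true, false, true, false, true],
      ![false, false, true, true, false, false, true, true],
      ![false, false, false, false, true, true, true, true]] i d := by decide

theorem sum_gstep (D : FieldData G V T K) (ι : ZMod 3 →+* K) (M : Bool → Bool → ZMod 3) (i : Fin 3)
    (e : Fin 8 → V) (z : Vec) :
    ∑ d, D.op (ι (z d)) (D.op (ι (M false (bit d i))) (e (setBit d i false)) +
      D.op (ι (M true (bit d i))) (e (setBit d i true))) =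
      ∑ d, D.op (ι (gstep M i z d)) (e d) := by
  have hm : ∀ (a b : ZMod 3) (x : V), D.op (ι a) (D.op (ι b) x) = D.op (ι (b * a)) x := fun a b x => by
    rw [mul_comm b a, map_mul, map_mul]; rfl
  have ha : ∀ (a b : ZMod 3) (x : V), D.op (ι (a + b)) x = D.op (ι a) x + D.op (ι b) x := fun a b x => by
    rw [map_add, map_add]; rfl
  simp only [map_add, hm]
  fin_cases i <;>
    simp [Fin.sum_univ_eight, gstep, setBit_eq, bit_eq, ha, -map_add, -map_mul] <;>
    abel

theorem coord_act (D : FieldData G V T K) (ι : ZMod 3 →+* K) (s : Fin 3 → G) (w : V) {g : G}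
    (hgT : ∀ t ∈ T, g * t = t * g) (hsT : ∀ i, ∀ t ∈ T, s i * t = t * s i) (i : Fin 3)
    (hss : ∀ i i', Commute (s i) (s i')) (hg : ∀ i', i' ≠ i → Commute g (s i'))
    (M : Bool → Bool → ZMod 3)
    (h0 : g • w = D.op (ι (M false false)) w + D.op (ι (M true false)) (s i • w))
    (h1 : g • s i • w = D.op (ι (M false true)) w + D.op (ι (M true true)) (s i • w)) (z : Vec) :
    g • coord D ι s w z = coord D ι s w (gstep M i z) := by
  simp only [coord_apply, Finset.smul_sum, D.op_comm g hgT]
  rw [← sum_gstep D ι M i (fun d => shift s d • w) z]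
  refine Finset.sum_congr rfl fun d _ => congrArg (fun x => D.op (ι (z d)) x) ?_
  have hc := commute_shift_false s i hg d
  set P := shift s (setBit d i false) with hP
  have hPs : Commute P (s i) := (commute_shift_false s i (fun i' _ => hss i i') d).symm
  have hPT : ∀ t ∈ T, P * t = t * P := by
    intro t ht
    have key : ∀ (b : Bool) (i' : Fin 3), Commute (if b then s i' else 1) t := fun b i' => by
      split_ifs
      exacts [hsT i' t ht, Commute.one_left t]
    exact ((key _ 0).mul_left ((key _ 1).mul_left (key _ 2))).eq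
  have htrue : shift s (setBit d i true) • w = P • s i • w := by
    rw [shift_true s hss i d, smul_smul, ← hP, hPs.eq]
  rcases hb : bit d i with _ | _
  · have hd : shift s d = P := by rw [hP, ← hb, setBit_bit]
    rw [hd, smul_smul, hc.eq, mul_smul, h0, smul_add, D.op_comm P hPT, D.op_comm P hPT, ← htrue]
  · have hd : shift s d • w = P • s i • w := by rw [← htrue, ← hb, setBit_bit]
    rw [hd, smul_smul g, hc.eq, mul_smul, h1, smul_add, D.op_comm P hPT, D.op_comm P hPT, ← htrue]

end Cfsg.Agent.H81.BaseTwo.Trip
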