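import Mathlib
import Cfsg.Agent.H81.BaseTwo.TripCert

/-!
# Further properties of the two certificates
-/

namespace Cfsg.Agent.H81.BaseTwo.Trip

set_option maxHeartbeats 1000000 in
theorem plus_sp : Function.Injective plusData.sp ∧
    ∀ j, plusData.spec (plusData.sp j) ∧ plusData.sp j ≠ 0 ∧ plusData.sp j ≠ 64 := by
  decide +kernel

set_option maxHeartbeats 1000000 in
theorem minus_sp : Function.Injective minusData.sp ∧
    ∀ j, minusData.spec (minusData.sp j) ∧ minusData.sp j ≠ 0 ∧ minusData.sp j ≠ 64 := by
  decide +kernel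

end Cfsg.Agent.H81.BaseTwo.Trip
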