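import Mathlib
import Cfsg.Agent.H81.BaseTwo.Split
import Cfsg.Agent.H81.BaseTwo.Trip
import Cfsg.Agent.H81.BaseTwo.TripBasis
import Cfsg.Agent.H81.BaseTwo.TripFacts

/-!
# Splitting blocks of rank three over the field with three elements
-/

set_option linter.style.haveILetI false

namespace Cfsg.Agent.H81.BaseTwo.Trip

open scoped commutatorElement
open Cfsg.Agent.H10.BaseThree

universe u v

/-- A layer whose centre has two elements. -/
structure Sgn {G : Type u} [Group G] (T B L : Subgroup G) (ζ e₀ : G) : Prop where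
  frame : Frame T B L ζ
  mem : e₀ ∈ T
  two : ∀ t ∈ T, t = 1 ∨ t = e₀
  sq_one : e₀ * e₀ = 1
  ne_one : e₀ ≠ 1
  sq_mem : ∀ x ∈ B, x ^ 2 ∈ T

/-- Dual pairs: elements of `L` and commuting involutions of `B`. -/
structure Dual {G : Type u} [Group G] (B L : Subgroup G) (e₀ : G) {m : ℕ} (l x : Fin m → G) :
    Prop where
  l_mem : ∀ i, l i ∈ L
  x_mem : ∀ i, x i ∈ B
  pair : ∀ i k, ⁅l i, x k⁆ = if i = k then e₀ else 1
  x_comm : ∀ i k, x i * x k = x k * x i
  x_sq : ∀ i, x i * x i = 1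

/-- The part of `L` commuting with the involutions. -/
def rest {G : Type u} [Group G] (L : Subgroup G) {m : ℕ} (x : Fin m → G) : Subgroup G :=
  L ⊓ Subgroup.centralizer (Set.range x)

theorem mem_rest {G : Type u} [Group G] {L : Subgroup G} {m : ℕ} {x : Fin m → G} {u : G} :
    u ∈ rest L x ↔ u ∈ L ∧ ∀ k, x k * u = u * x k := by
  rw [rest, Subgroup.mem_inf, Subgroup.mem_centralizer_iff]
  simp

section Sign

variable {G : Type u} [Group G] {T B L : Subgroup G} {ζ e₀ : G}

theorem Sgn.cases (S : Sgn T B L ζ e₀) {a b : G} (ha : a ∈ B) (hb : b ∈ B) :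
    ⁅a, b⁆ = 1 ∨ ⁅a, b⁆ = e₀ := S.two _ (S.frame.comm a ha b hb)

theorem Sgn.symm (S : Sgn T B L ζ e₀) {a b : G} (ha : a ∈ B) (hb : b ∈ B) : ⁅a, b⁆ = ⁅b, a⁆ := by
  rw [← commutatorElement_inv b a]
  rcases S.cases hb ha with h | h <;> rw [h]
  · exact inv_one
  · exact inv_eq_of_mul_eq_one_right S.sq_one

theorem Sgn.lsq (S : Sgn T B L ζ e₀) {a : G} (ha : a ∈ L) : a * a = 1 := by
  have h : a * a ∈ L ⊓ T := ⟨mul_mem ha ha, by simpa [pow_two] using S.sq_mem a (S.frame.lle ha)⟩
  rwa [S.frame.linf, Subgroup.mem_bot] at h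

theorem Sgn.lcomm (S : Sgn T B L ζ e₀) {a b : G} (ha : a ∈ L) (hb : b ∈ L) : ⁅a, b⁆ = 1 :=
  commutatorElement_eq_one_iff_mul_comm.2 (S.frame.lcomm a ha b hb)

theorem Sgn.sep (S : Sgn T B L ζ e₀) {z : G} (hz : z ∈ B) (hzn : z ∉ cent B L) :
    ∃ u ∈ L, ⁅u, z⁆ = e₀ := by
  by_contra hc
  push Not at hc
  exact hzn (mem_cent.2 ⟨hz, fun u hu => commutatorElement_eq_one_iff_mul_comm.1
    ((S.cases (S.frame.lle hu) hz).resolve_right (hc u hu))⟩)

variable {m : ℕ} {l x : Fin m → G}

theorem comm_ite (P : Dual B L e₀ l x) (c : Bool) (i k : Fin m) :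
    ⁅l i, if c then x k else 1⁆ = if c then (if i = k then e₀ else 1) else 1 := by
  cases c <;> simp [P.pair]

/-- One involution clears one commutator. -/
theorem Sgn.clear (S : Sgn T B L ζ e₀) (P : Dual B L e₀ l x) {z : G} (hz : z ∈ B) (i : Fin m) :
    ∃ b : Bool, z * (if b then x i else 1) ∈ B ∧
      ∀ k, ⁅l k, z * (if b then x i else 1)⁆ = if k = i then 1 else ⁅l k, z⁆ := by
  have F := S.frame
  rcases S.cases (F.lle (P.l_mem i)) hz with h | h
  · refine ⟨false, by simpa using hz, fun k => ?_⟩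
    simp only [Bool.false_eq_true, if_false, mul_one]
    split_ifs with hk
    · subst hk; exact h
    · rfl
  · refine ⟨true, by simpa using mul_mem hz (P.x_mem i), fun k => ?_⟩
    rw [if_pos rfl, F.comm_mul_right (F.lle (P.l_mem k)) hz (P.x_mem i), P.pair]
    split_ifs with hk
    · subst hk; rw [h, S.sq_one]
    · rw [mul_one]

/-- One element of `L` clears one commutator. -/
theorem Sgn.clearL (S : Sgn T B L ζ e₀) (P : Dual B L e₀ l x) {z : G} (hz : z ∈ L) (i : Fin m) :
    ∃ b : Bool, z * (if b then l i else 1) ∈ L ∧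
      ∀ k, ⁅z * (if b then l i else 1), x k⁆ = if k = i then 1 else ⁅z, x k⁆ := by
  have F := S.frame
  rcases S.cases (F.lle hz) (P.x_mem i) with h | h
  · refine ⟨false, by simpa using hz, fun k => ?_⟩
    simp only [Bool.false_eq_true, if_false, mul_one]
    split_ifs with hk
    · subst hk; exact h
    · rfl
  · refine ⟨true, by simpa using mul_mem hz (P.l_mem i), fun k => ?_⟩
    rw [if_pos rfl, F.comm_mul_left (F.lle hz) (F.lle (P.l_mem i)) (P.x_mem k), P.pair]
    rcases eq_or_ne k i with hk | hk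
    · subst hk; rw [if_pos rfl, if_pos rfl, h, S.sq_one]
    · rw [if_neg (Ne.symm hk), if_neg hk, mul_one]

/-- Adjoining a dual pair. -/
theorem Sgn.extend (S : Sgn T B L ζ e₀) (P : Dual B L e₀ l x) {a : G} (ha : a ∈ rest L x)
    (ha1 : a ≠ 1) : ∃ (l' x' : Fin (m + 1) → G), Dual B L e₀ l' x' := by
  classical
  have F := S.frame
  obtain ⟨haL, hax⟩ := mem_rest.1 ha
  have haB := F.lle haL
  have haxc : ∀ k, ⁅a, x k⁆ = 1 := fun k => commutatorElement_eq_one_iff_mul_comm.2 (hax k).symm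
  obtain ⟨y, hy, hay⟩ : ∃ y ∈ B, ⁅a, y⁆ = e₀ := by
    by_contra hc
    push Not at hc
    refine ha1 ?_
    have h : a ∈ L ⊓ T := ⟨haL, F.centre a haB fun b hb => commutatorElement_eq_one_iff_mul_comm.1
      ((S.cases haB hb).resolve_right (hc b hb))⟩
    rwa [F.linf, Subgroup.mem_bot] at h
  obtain ⟨y₁, hy₁, hay₁, hly₁⟩ : ∃ y₁ ∈ B, ⁅a, y₁⁆ = e₀ ∧ ∀ k, ⁅l k, y₁⁆ = 1 := by
    suffices h : ∀ s : Finset (Fin m), ∃ y₁ ∈ B, ⁅a, y₁⁆ = e₀ ∧ ∀ k ∈ s, ⁅l k, y₁⁆ = 1 by
      obtain ⟨y₁, h1, h2, h3⟩ := h Finset.univ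
      exact ⟨y₁, h1, h2, fun k => h3 k (Finset.mem_univ k)⟩
    intro s
    induction s using Finset.induction with
    | empty => exact ⟨y, hy, hay, by simp⟩
    | insert i s _ ih =>
      obtain ⟨y₁, h1, h2, h3⟩ := ih
      obtain ⟨b, hb, hbk⟩ := S.clear P h1 i
      refine ⟨_, hb, ?_, fun k hk => ?_⟩
      · cases b
        · simpa using h2
        · simp [F.comm_mul_right haB h1 (P.x_mem i), h2, haxc]
      · rw [hbk]
        split_ifs with hki
        · rfl
        · exact h3 k ((Finset.mem_insert.1 hk).resolve_left hki)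
  obtain ⟨y₂, hy₂, hay₂, hly₂, hxy₂⟩ :
      ∃ y₂ ∈ B, ⁅a, y₂⁆ = e₀ ∧ (∀ k, ⁅l k, y₂⁆ = 1) ∧ ∀ k, ⁅x k, y₂⁆ = 1 := by
    suffices h : ∀ s : Finset (Fin m), ∃ y₂ ∈ B, ⁅a, y₂⁆ = e₀ ∧ (∀ k, ⁅l k, y₂⁆ = 1) ∧
        ∀ k ∈ s, ⁅x k, y₂⁆ = 1 by
      obtain ⟨y₂, h1, h2, h3, h4⟩ := h Finset.univ
      exact ⟨y₂, h1, h2, h3, fun k => h4 k (Finset.mem_univ k)⟩
    intro s
    induction s using Finset.induction with
    | empty => exact ⟨y₁, hy₁, hay₁, hly₁, by simp⟩
    | insert i s _ ih =>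
      obtain ⟨y₂, h1, h2, h3, h4⟩ := ih
      have hli := F.lle (P.l_mem i)
      rcases S.cases (P.x_mem i) h1 with h | h
      · refine ⟨y₂, h1, h2, h3, fun k hk => ?_⟩
        rcases Finset.mem_insert.1 hk with rfl | hk
        exacts [h, h4 k hk]
      · refine ⟨y₂ * l i, mul_mem h1 hli, ?_, fun k => ?_, fun k hk => ?_⟩
        · rw [F.comm_mul_right haB h1 hli, h2, S.lcomm haL (P.l_mem i), mul_one]
        · rw [F.comm_mul_right (F.lle (P.l_mem k)) h1 hli, h3, S.lcomm (P.l_mem k) (P.l_mem i),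
            mul_one]
        · rw [F.comm_mul_right (P.x_mem k) h1 hli, S.symm (P.x_mem k) hli, P.pair]
          rcases eq_or_ne i k with hki | hki
          · subst hki; rw [if_pos rfl, h, S.sq_one]
          · rw [if_neg hki, h4 k ((Finset.mem_insert.1 hk).resolve_left (Ne.symm hki)), mul_one]
  obtain ⟨y₃, hy₃, hay₃, hly₃, hxy₃, hsq₃⟩ : ∃ y₃ ∈ B, ⁅a, y₃⁆ = e₀ ∧ (∀ k, ⁅l k, y₃⁆ = 1) ∧
      (∀ k, ⁅x k, y₃⁆ = 1) ∧ y₃ * y₃ = 1 := by
    rcases S.two _ (S.sq_mem y₂ hy₂) with h | h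
    · exact ⟨y₂, hy₂, hay₂, hly₂, hxy₂, by rw [← pow_two, h]⟩
    refine ⟨y₂ * a, mul_mem hy₂ haB, ?_, fun k => ?_, fun k => ?_, ?_⟩
    · rw [F.comm_mul_right haB hy₂ haB, hay₂, commutatorElement_self, mul_one]
    · rw [F.comm_mul_right (F.lle (P.l_mem k)) hy₂ haB, hly₂, S.lcomm (P.l_mem k) haL, mul_one]
    · rw [F.comm_mul_right (P.x_mem k) hy₂ haB, hxy₂, S.symm (P.x_mem k) haB, haxc, mul_one]
    · rw [← pow_two, F.mul_pow_two_class hy₂ haB, Nat.choose_self, pow_one, h, pow_two, S.lsq haL,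
        hay₂, mul_one, S.sq_one]
  refine ⟨Fin.snoc l a, Fin.snoc x y₃, fun i => ?_, fun i => ?_, fun i k => ?_, fun i k => ?_,
    fun i => ?_⟩
  · refine Fin.lastCases ?_ (fun i => ?_) i <;> simp [haL, P.l_mem]
  · refine Fin.lastCases ?_ (fun i => ?_) i <;> simp [hy₃, P.x_mem]
  · refine Fin.lastCases ?_ (fun i => ?_) i <;> refine Fin.lastCases ?_ (fun k => ?_) k <;>
      simp [hay₃, haxc, hly₃, P.pair, (Fin.castSucc_lt_last _).ne, (Fin.castSucc_lt_last _).ne']
  · refine Fin.lastCases ?_ (fun i => ?_) i <;> refine Fin.lastCases ?_ (fun k => ?_) k <;>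
      simp [P.x_comm, commutatorElement_eq_one_iff_mul_comm.1 (hxy₃ _)]
  · refine Fin.lastCases ?_ (fun i => ?_) i <;> simp [hsq₃, P.x_sq]

theorem Sgn.lpow (S : Sgn T B L ζ e₀) (P : Dual B L e₀ l x) {z : G} (hz : z ∈ B)
    (hzl : ∀ k, ⁅l k, z⁆ = 1) (hzr : ∀ u ∈ rest L x, ⁅u, z⁆ = 1) : z ∈ cent B L := by
  classical
  have F := S.frame
  refine mem_cent.2 ⟨hz, fun u hu => commutatorElement_eq_one_iff_mul_comm.1 ?_⟩
  suffices h : ∀ s : Finset (Fin m), ∀ u ∈ L, (∀ k ∉ s, ⁅u, x k⁆ = 1) → ⁅u, z⁆ = 1 from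
    h Finset.univ u hu (fun k hk => absurd (Finset.mem_univ k) hk)
  intro s
  induction s using Finset.induction with
  | empty => exact fun u hu h => hzr u (mem_rest.2 ⟨hu, fun k =>
      (commutatorElement_eq_one_iff_mul_comm.1 (h k (Finset.notMem_empty k))).symm⟩)
  | insert i s _ ih =>
    intro u hu h
    obtain ⟨b, hb, hbk⟩ := S.clearL P hu i
    have h1 := ih _ hb fun k hk => by
      rw [hbk]
      split_ifs with hki
      · rfl
      · exact h k (by simp [hki, hk])
    cases b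
    · simpa using h1
    · simpa [F.comm_mul_left (F.lle hu) (F.lle (P.l_mem i)) hz, hzl] using h1

end Sign

section Layer

variable {G : Type u} {V : Type v} [Group G] [AddCommGroup V] [DistribMulAction G V]
  {T B L : Subgroup G} {ζ e₀ : G} {v₀ : V} {K : Type v} [Field K]

/-- An element with prescribed exponents. -/
theorem exists_el (g : Fin 6 → G) (b a₀ a₁ a₂ a₃ a₄ a₅ : Bool) :
    ∃ y, el e₀ g y = (if b then e₀ else 1) * ((if a₀ then g 0 else 1) * ((if a₁ then g 1 else 1) *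
      ((if a₂ then g 2 else 1) * ((if a₃ then g 3 else 1) *
        ((if a₄ then g 4 else 1) * ((if a₅ then g 5 else 1) * 1)))))) := by
  have h : ∀ f : Fin 7 → Bool, ∃ y : Fin 128, ∀ i : Fin 7, (y : ℕ).testBit i = f i := by
    decide +kernel
  obtain ⟨y, hy⟩ := h ![a₀, a₁, a₂, a₃, a₄, a₅, b]
  refine ⟨y, ?_⟩
  have h0 := hy 0
  have h1 := hy 1
  have h2 := hy 2
  have h3 := hy 3
  have h4 := hy 4
  have h5 := hy 5
  have h6 := hy 6
  simp only [Fin.isValue, Fin.coe_ofNat_eq_mod, Nat.reduceMod, Matrix.cons_val] at h0 h1 h2 h3 h4 h5 h6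
  simp [el, List.finRange_succ, h0, h1, h2, h3, h4, h5, h6]

theorem uniq_of_layer (hLay : Cfsg.Agent.H10.BaseTwo.Layer G V T B L ζ v₀) {L₀ : Subgroup G}
    (hle : L₀ ≤ L) {m : ℕ} (R : Fin m → G) (hR : ∀ a, R a ∈ cent B L₀)
    (hdist : ∀ a b, a ≠ b → (R a)⁻¹ * R b ∉ cent B L) (U : Vec → Fin m → V)
    (hUfix : ∀ z a, ∀ y ∈ L, y • U z a = U z a) (hUinj : Function.Injective U) {vec : Vec →+ V}
    (hvec : ∀ z, vec z = ∑ a, R a • U z a) (ι : Type u) [Fintype ι] (r : ι → B)
    (hr : ∀ a b, a ≠ b → ((r a)⁻¹ * r b : B) ∉ (cent B L₀).subgroupOf B) (z z' : ι → Vec)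
    (h : ∑ a, (r a : G) • vec (z a) = ∑ a, (r a : G) • vec (z' a)) : z = z' := by
  have hexp : ∀ y : ι → Vec, ∑ a, (r a : G) • vec (y a) =
      ∑ q : ι × Fin m, ((r q.1 * ⟨R q.2, (mem_cent.1 (hR q.2)).1⟩ : B) : G) • U (y q.1) q.2 :=
    fun y => by
      rw [Fintype.sum_prod_type]
      refine Finset.sum_congr rfl fun a _ => ?_
      simp only [hvec, Finset.smul_sum, Subgroup.coe_mul, mul_smul]
  rw [hexp, hexp] at h
  have hinj : ∀ p q : ι × Fin m, p ≠ q →
      ((r p.1 * ⟨R p.2, (mem_cent.1 (hR p.2)).1⟩)⁻¹ * (r q.1 * ⟨R q.2, (mem_cent.1 (hR q.2)).1⟩) : B)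
        ∉ (cent B L).subgroupOf B := by
    rintro ⟨a, d⟩ ⟨b, e⟩ hne hmem
    rw [Subgroup.mem_subgroupOf] at hmem
    have hCle : cent B L ≤ cent B L₀ := fun y hy =>
      mem_cent.2 ⟨(mem_cent.1 hy).1, fun u hu => (mem_cent.1 hy).2 u (hle hu)⟩
    have hab : a = b := by
      by_contra hab
      refine hr a b hab ?_
      rw [Subgroup.mem_subgroupOf]
      have := mul_mem (mul_mem (hR d) (hCle hmem)) (inv_mem (hR e))
      simpa [mul_assoc] using this
    subst hab
    refine hdist d e (fun hde => hne (by rw [hde])) ?_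
    simpa [mul_assoc] using hmem
  have := hLay.uniq _ _ hinj _ _ (fun q => hUfix _ _) (fun q => hUfix _ _) h
  funext a
  exact hUinj (funext fun d => congrFun this (a, d))

/-- The ring map from the field with three elements. -/
theorem exists_iota [Finite K] (h3 : Nat.card K = 3) : ∃ ι : ZMod 3 →+* K, Function.Injective ι := by
  letI := Fintype.ofFinite K
  rw [Nat.card_eq_fintype_card] at h3
  exact ⟨(ZMod.ringEquivOfPrime K Nat.prime_three h3).toRingHom,
    (ZMod.ringEquivOfPrime K Nat.prime_three h3).injective⟩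

theorem ite_mem {α : Type*} [Group α] {H : Subgroup α} {a : α} (ha : a ∈ H) (b : Bool) :
    (if b then a else 1) ∈ H := by
  split_ifs
  exacts [ha, one_mem H]

theorem exists_half : ∀ d : Fin 8, (∃ a : Fin 4, Fin.castLE (by norm_num) a = d) ∨
    ∃ a : Fin 4, setBit (Fin.castLE (by norm_num) a) 2 true = d := by decide

/-- The block of plus type. -/
theorem exists_plus (hLay : Cfsg.Agent.H10.BaseTwo.Layer G V T B L ζ v₀) (D : FieldData G V T K)
    (S : Sgn T B L ζ e₀) (hneg : ∀ z : V, e₀ • z = -z) (ι : ZMod 3 →+* K) (hι : Function.Injective ι)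
    (hC : cent B L ≤ L ⊔ T) {l x : Fin 3 → G} (P : Dual B L e₀ l x) :
    ∃ (g : Fin 6 → G) (vec : Vec →+ V), Trio G V T B L (rest L x) plusData e₀ g vec := by
  classical
  have F := S.frame
  have hBT : ∀ a ∈ B, ∀ t ∈ T, a * t = t * a := fun a ha t ht => (F.central t ht a ha).symm
  have hlB : ∀ i, l i ∈ B := fun i => F.lle (P.l_mem i)
  have hι2 : ι 2 = -1 := by rw [show (2 : ZMod 3) = -1 by decide, map_neg, map_one]
  have hlx : ∀ i k, i ≠ k → Commute (l i) (x k) := fun i k h =>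
    commutatorElement_eq_one_iff_mul_comm.1 (by rw [P.pair, if_neg h])
  have hanti : ∀ i, ∀ z : V, l i • x i • z = -(x i • l i • z) := fun i z => by
    rw [smul_smul, show l i * x i = ⁅l i, x i⁆ * (x i * l i) by rw [commutatorElement_def]; group,
      P.pair, if_pos rfl, mul_smul, mul_smul, hneg]
  let g : Fin 6 → G := ![l 0, x 0, l 1, x 1, l 2, x 2]
  let vec := coord D ι x v₀
  have hshiftB : ∀ d, shift x d ∈ B := fun d =>
    mul_mem (ite_mem (P.x_mem 0) _) (mul_mem (ite_mem (P.x_mem 1) _) (ite_mem (P.x_mem 2) _))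
  have hsC : ∀ d, shift x d ∈ cent B (rest L x) := fun d => by
    refine mem_cent.2 ⟨hshiftB d, fun u hu => ?_⟩
    have key : ∀ (b : Bool) k, Commute u (if b then x k else 1) := fun b k => by
      split_ifs
      exacts [((mem_rest.1 hu).2 k).symm, Commute.one_right u]
    exact ((key _ 0).mul_right ((key _ 1).mul_right (key _ 2))).eq
  refine ⟨g, vec,
    { le := inf_le_left
      mem := fun j => by fin_cases j <;> simp [g, hlB, P.x_mem]
      e₀_mem := S.mem
      e₀_neg := hneg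
      centre_two := S.two
      act := ?_
      fixed := ?_
      decomp := ?_
      uniq := ?_ }⟩
  · intro j z
    have hl : ∀ i, l i • v₀ = v₀ := fun i => hLay.vfix _ (P.l_mem i)
    have hA : ∀ i, l i • vec z = vec (gstep (plusData.A i) i z) := fun i => by
      have hA' : plusData.A i = fun a b => if a then (if b then 2 else 0) else (if b then 0 else 1) := by
        fin_cases i <;> rfl
      refine coord_act D ι x v₀ (hBT _ (hlB i)) (fun k => hBT _ (P.x_mem k)) i
        (fun a b => P.x_comm a b) (fun k hk => hlx i k (Ne.symm hk)) _ ?_ ?_ z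
      · simp [hA', hl, map_zero, map_one]
      · rw [hanti, hl]
        simp [hA', hι2, map_zero, map_neg]
        rfl
    have hB : ∀ i, x i • vec z = vec (gstep (plusData.B i) i z) := fun i => by
      have hB' : plusData.B i = fun a b => if a then (if b then 0 else 1) else (if b then 1 else 0) := by
        fin_cases i <;> rfl
      refine coord_act D ι x v₀ (hBT _ (P.x_mem i)) (fun k => hBT _ (P.x_mem k)) i
        (fun a b => P.x_comm a b) (fun k _ => P.x_comm i k) _ ?_ ?_ z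
      · simp [hB']
      · rw [smul_smul, P.x_sq, one_smul]
        simp [hB']
    fin_cases j
    · exact hA 0
    · exact hB 0
    · exact hA 1
    · exact hB 1
    · exact hA 2
    · exact hB 2
  · intro u hu z
    simp only [vec, coord_apply, Finset.smul_sum]
    refine Finset.sum_congr rfl fun d _ => ?_
    rw [D.op_comm u (hBT u (F.lle (mem_rest.1 hu).1)), smul_smul, (mem_cent.1 (hsC d)).2 u hu,
      mul_smul, hLay.vfix u (mem_rest.1 hu).1]
  · intro z hz
    obtain ⟨c₀, hz₀, hk₀⟩ := S.clear P (mem_cent.1 hz).1 0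
    obtain ⟨c₁, hz₁, hk₁⟩ := S.clear P hz₀ 1
    obtain ⟨c₂, hz₂, hk₂⟩ := S.clear P hz₁ 2
    set X₀ := if c₀ then x 0 else 1 with hX₀
    set X₁ := if c₁ then x 1 else 1 with hX₁
    set X₂ := if c₂ then x 2 else 1 with hX₂
    have hX : ∀ u ∈ rest L x, Commute u X₀ ∧ Commute u X₁ ∧ Commute u X₂ := fun u hu => by
      have h := fun k => ((mem_rest.1 hu).2 k).symm
      refine ⟨?_, ?_, ?_⟩ <;> simp only [hX₀, hX₁, hX₂] <;> split_ifs
      exacts [h 0, Commute.one_right u, h 1, Commute.one_right u, h 2, Commute.one_right u]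
    have hc : z * X₀ * X₁ * X₂ ∈ cent B L := by
      refine S.lpow P hz₂ (fun k => ?_) fun u hu => ?_
      · rw [hk₂, hk₁, hk₀]
        fin_cases k <;> simp
      · refine commutatorElement_eq_one_iff_mul_comm.2 ?_
        obtain ⟨a0, a1, a2⟩ := hX u hu
        exact ((((show Commute u z from (mem_cent.1 hz).2 u hu).mul_right a0).mul_right a1).mul_right
          a2).eq
    obtain ⟨w, hw, t, ht, hwt⟩ := F.mem_sup_iff.1 (hC hc)
    obtain ⟨a₀, hw₀, hm₀⟩ := S.clearL P hw 0
    obtain ⟨a₁, hw₁, hm₁⟩ := S.clearL P hw₀ 1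
    obtain ⟨a₂, hw₂, hm₂⟩ := S.clearL P hw₁ 2
    set M₀ := if a₀ then l 0 else 1 with hM₀
    set M₁ := if a₁ then l 1 else 1 with hM₁
    set M₂ := if a₂ then l 2 else 1 with hM₂
    have hy : w * M₀ * M₁ * M₂ ∈ rest L x := mem_rest.2 ⟨hw₂, fun k =>
      (commutatorElement_eq_one_iff_mul_comm.1 (by rw [hm₂, hm₁, hm₀]; fin_cases k <;> simp)).symm⟩
    obtain ⟨b, hb⟩ : ∃ b : Bool, t = if b then e₀ else 1 := by
      rcases S.two t ht with h | h
      exacts [⟨false, h⟩, ⟨true, h⟩]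
    obtain ⟨y, hyel⟩ := exists_el (e₀ := e₀) g b a₀ c₀ a₁ c₁ a₂ c₂
    refine ⟨y, _, hy, ?_⟩
    rw [hyel]
    simp only [g, Matrix.cons_val_zero, Matrix.cons_val_one, Matrix.cons_val, mul_one]
    rw [← hb, ← hX₀, ← hX₁, ← hX₂, ← hM₀, ← hM₁, ← hM₂]
    have sqX : X₀ * X₀ = 1 ∧ X₁ * X₁ = 1 ∧ X₂ * X₂ = 1 := by
      simp only [hX₀, hX₁, hX₂]
      refine ⟨?_, ?_, ?_⟩ <;> split_ifs <;> simp [P.x_sq]
    have sqM : M₀ * M₀ = 1 ∧ M₁ * M₁ = 1 ∧ M₂ * M₂ = 1 := by
      simp only [hM₀, hM₁, hM₂]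
      refine ⟨?_, ?_, ?_⟩ <;> split_ifs <;> simp [S.lsq (P.l_mem _)]
    have cxx : Commute X₀ X₁ ∧ Commute X₀ X₂ ∧ Commute X₁ X₂ := by
      simp only [hX₀, hX₁, hX₂]
      refine ⟨?_, ?_, ?_⟩ <;> split_ifs <;>
        first | exact Commute.one_right _ | exact Commute.one_left _ | exact P.x_comm _ _
    have cll : Commute M₀ M₁ ∧ Commute M₀ M₂ ∧ Commute M₁ M₂ := by
      simp only [hM₀, hM₁, hM₂]
      refine ⟨?_, ?_, ?_⟩ <;> split_ifs <;>
        first | exact Commute.one_right _ | exact Commute.one_left _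
              | exact F.lcomm _ (P.l_mem _) _ (P.l_mem _)
    have clx : Commute M₁ X₀ ∧ Commute M₂ X₀ ∧ Commute M₂ X₁ := by
      simp only [hX₀, hX₁, hM₁, hM₂]
      refine ⟨?_, ?_, ?_⟩ <;> split_ifs <;>
        first | exact Commute.one_right _ | exact Commute.one_left _ | exact hlx _ _ (by decide)
    set yy := w * M₀ * M₁ * M₂ with hyy
    have hyC : ∀ q, q = M₀ ∨ q = M₁ ∨ q = M₂ → Commute yy q := fun q hq => by
      have hql : q ∈ L := by
        rcases hq with rfl | rfl | rfl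
        exacts [ite_mem (P.l_mem 0) _, ite_mem (P.l_mem 1) _, ite_mem (P.l_mem 2) _]
      exact F.lcomm _ hw₂ _ hql
    have hwy : w = yy * (M₂ * (M₁ * M₀)) := by
      rw [hyy]; simp [mul_assoc, sqM.1, ← mul_assoc M₂ M₂, ← mul_assoc M₁ M₁, sqM.2.1, sqM.2.2]
    have hz' : z = w * t * (X₂ * (X₁ * X₀)) := by
      rw [hwt]; simp [mul_assoc, sqX.1, ← mul_assoc X₂ X₂, ← mul_assoc X₁ X₁, sqX.2.1, sqX.2.2]
    have hl : M₂ * (M₁ * M₀) = M₀ * (M₁ * M₂) := by
      rw [cll.1.symm.eq, ← mul_assoc, cll.2.1.symm.eq, mul_assoc, cll.2.2.symm.eq]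
    have hx : X₂ * (X₁ * X₀) = X₀ * (X₁ * X₂) := by
      rw [cxx.1.symm.eq, ← mul_assoc, cxx.2.1.symm.eq, mul_assoc, cxx.2.2.symm.eq]
    have hyx : Commute yy (X₀ * (X₁ * X₂)) := by
      obtain ⟨a0, a1, a2⟩ := hX yy hy
      exact a0.mul_right (a1.mul_right a2)
    have hyl : Commute yy (M₀ * (M₁ * M₂)) :=
      (hyC _ (Or.inl rfl)).mul_right ((hyC _ (Or.inr (Or.inl rfl))).mul_right (hyC _ (Or.inr (Or.inr rfl))))
    have hyt : Commute yy t := hBT _ (F.lle hw₂) t ht
    have hMt : Commute (M₀ * (M₁ * M₂)) t := hBT _ (mul_mem (ite_mem (hlB 0) _)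
      (mul_mem (ite_mem (hlB 1) _) (ite_mem (hlB 2) _))) t ht
    have hmid : M₀ * (M₁ * M₂) * (X₀ * (X₁ * X₂)) =
        M₀ * (X₀ * (M₁ * (X₁ * (M₂ * X₂)))) := by
      simp only [mul_assoc]
      rw [← mul_assoc M₂ X₀, clx.2.1.eq, mul_assoc, ← mul_assoc M₁ X₀, clx.1.eq, mul_assoc,
        ← mul_assoc M₂ X₁, clx.2.2.eq, mul_assoc]
    rw [hz', hwy, hl, hx, ← hmid]
    calc yy * (M₀ * (M₁ * M₂)) * t * (X₀ * (X₁ * X₂))
        = yy * (t * (M₀ * (M₁ * M₂))) * (X₀ * (X₁ * X₂)) := by rw [mul_assoc yy, hMt.eq]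
      _ = yy * (t * (M₀ * (M₁ * M₂) * (X₀ * (X₁ * X₂)))) := by simp only [mul_assoc]
      _ = _ := (hyt.mul_right (hyl.mul_right hyx)).eq
  · intro ι' _ r hr z z' h
    refine uniq_of_layer hLay inf_le_left (fun d => shift x d) hsC ?_
      (fun w d => D.op (ι (w d)) v₀) ?_ ?_ (fun w => ?_) ι' r hr z z' h
    · intro a b hab hn
      refine hab ?_
      have hbit : ∀ (d : Fin 8) i, ⁅l i, shift x d⁆ = if bit d i then e₀ else 1 := fun d i => by
        unfold shift
        rw [F.comm_mul_right (hlB i) (ite_mem (P.x_mem 0) _)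
            (mul_mem (ite_mem (P.x_mem 1) _) (ite_mem (P.x_mem 2) _)),
          F.comm_mul_right (hlB i) (ite_mem (P.x_mem 1) _) (ite_mem (P.x_mem 2) _)]
        rw [comm_ite P, comm_ite P, comm_ite P]
        fin_cases i <;> simp
      have hext : ∀ a b : Fin 8, (∀ i, bit a i = bit b i) → a = b := by decide
      refine hext a b fun i => ?_
      have h1 : ⁅l i, shift x b⁆ = ⁅l i, shift x a⁆ := by
        conv_lhs => rw [show shift x b = shift x a * ((shift x a)⁻¹ * shift x b) by group]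
        rw [F.comm_mul_right (hlB i) (hshiftB a) (mem_cent.1 hn).1,
          commutatorElement_eq_one_iff_mul_comm.2 ((mem_cent.1 hn).2 _ (P.l_mem i)), mul_one]
      rw [hbit, hbit] at h1
      revert h1
      rcases bit a i with _ | _ <;> rcases bit b i with _ | _ <;> simp [S.ne_one, Ne.symm S.ne_one]
    · intro w d u hu
      rw [D.op_comm u (hBT u (F.lle hu)), hLay.vfix u hu]
    · intro w w' hww'
      funext d
      refine hι (sub_eq_zero.1 ((D.op_zero (ι (w d) - ι (w' d)) v₀ ?_).resolve_right hLay.vne))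
      rw [map_sub]
      exact sub_eq_zero.2 (congrFun hww' d)
    · simp only [vec, coord_apply]
      exact Finset.sum_congr rfl fun d _ => (D.op_comm _ (hBT _ (hshiftB d)) _ _).symm

/-- The block of minus type. -/
theorem exists_minus [Finite G] (hLay : Cfsg.Agent.H10.BaseTwo.Layer G V T B L ζ v₀)
    (D : FieldData G V T K)
    (S : Sgn T B L ζ e₀) (hneg : ∀ z : V, e₀ • z = -z) (ι : ZMod 3 →+* K) (hι : Function.Injective ι)
    (hC : ¬ cent B L ≤ L ⊔ T) {l x : Fin 2 → G} (P : Dual B L e₀ l x) :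
    ∃ (g : Fin 6 → G) (vec : Vec →+ V), Trio G V T B L (rest L x) minusData e₀ g vec := by
  classical
  have F := S.frame
  have hBT : ∀ a ∈ B, ∀ t ∈ T, a * t = t * a := fun a ha t ht => (F.central t ht a ha).symm
  have hlB : ∀ i, l i ∈ B := fun i => F.lle (P.l_mem i)
  have h30 : (3 : K) = 0 := by
    have : ι 3 = 0 := by rw [show (3 : ZMod 3) = 0 by decide, map_zero]
    rwa [map_ofNat] at this
  have hι2 : ι 2 = -1 := by rw [show (2 : ZMod 3) = -1 by decide, map_neg, map_one]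
  have hsum3 : ∀ z : V, z + z + z = 0 := fun z => by
    have h : D.op (1 + 1 + 1) z = 0 := by
      rw [show (1 + 1 + 1 : K) = 3 by norm_num, h30, map_zero]; rfl
    rw [map_add, map_add, map_one] at h
    exact h
  have hlx : ∀ i k, i ≠ k → Commute (l i) (x k) := fun i k h =>
    commutatorElement_eq_one_iff_mul_comm.1 (by rw [P.pair, if_neg h])
  have hantig : ∀ {a b : G}, ⁅a, b⁆ = e₀ → ∀ z : V, a • b • z = -(b • a • z) := fun {a b} h z => by
    rw [smul_smul, show a * b = ⁅a, b⁆ * (b * a) by rw [commutatorElement_def]; group, h, mul_smul,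
      mul_smul, hneg]
  have hLTsq : ∀ {z : G}, z ∈ cent B L → z ∉ L ⊔ T → z * z = e₀ := fun {z} hz hzn => by
    refine ((S.two _ (S.sq_mem z (mem_cent.1 hz).1)).resolve_left fun h => hzn ?_).symm ▸ (pow_two z).symm
    exact F.mem_sup_of_pow_mem hz Nat.prime_two (by rw [h]; exact one_mem L)
  -- a quaternion pair commuting with the involutions
  have hadj : ∀ (z : G), z ∈ cent B L → ∃ u ∈ L, ∀ k, ⁅x k, z * u⁆ = 1 := by
    intro z hz
    have hzB := (mem_cent.1 hz).1
    have hflip : ∀ (k : Fin 2) (q : G), q ∈ cent B L →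
        ∃ b : Bool, ∀ k', ⁅x k', q * (if b then l k else 1)⁆ = if k' = k then 1 else ⁅x k', q⁆ := by
      intro k q hq
      rcases S.cases (P.x_mem k) (mem_cent.1 hq).1 with h | h
      · refine ⟨false, fun k' => ?_⟩
        simp only [Bool.false_eq_true, if_false, mul_one]
        split_ifs with hk
        · subst hk; exact h
        · rfl
      · refine ⟨true, fun k' => ?_⟩
        rw [if_pos rfl, F.comm_mul_right (P.x_mem k') (mem_cent.1 hq).1 (hlB k),
          S.symm (P.x_mem k') (hlB k), P.pair]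
        rcases eq_or_ne k' k with hk | hk
        · subst hk; rw [if_pos rfl, if_pos rfl, h, S.sq_one]
        · rw [if_neg (Ne.symm hk), if_neg hk, mul_one]
    obtain ⟨b₀, h₀⟩ := hflip 0 z hz
    obtain ⟨b₁, h₁⟩ := hflip 1 _ (mul_mem hz (F.le_cent (ite_mem (P.l_mem 0) b₀)))
    refine ⟨(if b₀ then l 0 else 1) * (if b₁ then l 1 else 1),
      mul_mem (ite_mem (P.l_mem 0) _) (ite_mem (P.l_mem 1) _), fun k => ?_⟩
    rw [← mul_assoc, h₁, h₀]
    fin_cases k <;> simp
  obtain ⟨i₀, hi₀, hi₀n⟩ := SetLike.not_le_iff_exists.1 hC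
  obtain ⟨j₀, hj₀, hij₀⟩ : ∃ j₀ ∈ cent B L, ⁅i₀, j₀⁆ = e₀ := by
    by_contra hc
    push Not at hc
    exact hi₀n (F.mem_sup_of_central D.emb D.emb_inj hi₀ fun w hw =>
      (S.cases (mem_cent.1 hi₀).1 (mem_cent.1 hw).1).resolve_right (hc w hw))
  obtain ⟨ui, hui, hxi⟩ := hadj i₀ hi₀
  obtain ⟨uj, huj, hxj⟩ := hadj j₀ hj₀
  set i := i₀ * ui
  set j := j₀ * uj
  have hic : i ∈ cent B L := mul_mem hi₀ (F.le_cent hui)
  have hjc : j ∈ cent B L := mul_mem hj₀ (F.le_cent huj)
  have hiB := (mem_cent.1 hic).1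
  have hjB := (mem_cent.1 hjc).1
  have hij : ⁅i, j⁆ = e₀ := by
    have hcu : ∀ {u w : G}, u ∈ L → w ∈ cent B L → ⁅u, w⁆ = 1 := fun {u w} hu hw =>
      commutatorElement_eq_one_iff_mul_comm.2 ((mem_cent.1 hw).2 u hu)
    rw [F.comm_mul_left (mem_cent.1 hi₀).1 (F.lle hui) hjB,
      F.comm_mul_right (mem_cent.1 hi₀).1 (mem_cent.1 hj₀).1 (F.lle huj), hij₀,
      S.symm (mem_cent.1 hi₀).1 (F.lle huj), hcu huj hi₀, hcu hui hjc, mul_one, mul_one]
  have hji : ⁅j, i⁆ = e₀ := by rw [S.symm hjB hiB, hij]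
  have hin : i ∉ L ⊔ T := fun h => S.ne_one (by rw [← hij, F.comm_eq_one_of_sup h hjc])
  have hjn : j ∉ L ⊔ T := fun h => S.ne_one (by rw [← hji, F.comm_eq_one_of_sup h hic])
  have hii := hLTsq hic hin
  have hjj := hLTsq hjc hjn
  -- the vector
  obtain ⟨w, hw0, hwL, hjw⟩ : ∃ w : V, w ≠ 0 ∧ (∀ u ∈ L, u • w = w) ∧ j • w = w + i • w := by
    have hfix : ∀ {q : G}, q ∈ cent B L → ∀ u ∈ L, u • q • v₀ = q • v₀ := fun {q} hq u hu => by
      rw [smul_smul, (mem_cent.1 hq).2 u hu, mul_smul, hLay.vfix u hu]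
    set a := i • v₀ with ha
    set b := j • v₀ with hb
    have e1 : i • a = -v₀ := by rw [ha, smul_smul, hii, hneg]
    have e2 : j • b = -v₀ := by rw [hb, smul_smul, hjj, hneg]
    have e3 : j • a = -(i • b) := hantig hji v₀
    by_cases hz : v₀ + (b - a) = 0
    · refine ⟨a + b, fun h0 => hLay.vne ?_, fun u hu => by rw [smul_add, hfix hic u hu, hfix hjc u hu],
        ?_⟩
      · have hb' : b = -a := eq_neg_of_add_eq_zero_right h0
        rw [hb'] at hz
        have hav : a = -v₀ := by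
          have := hsum3 a
          linear_combination (norm := abel) hz + this
        have h1 := e1
        rw [hav, smul_neg, ← ha, hav, neg_neg] at h1
        have := hsum3 v₀
        linear_combination (norm := abel) this - h1
      · have hb' : b = a - v₀ := by linear_combination (norm := abel) hz
        have e4 : i • b = -v₀ - a := by rw [hb', smul_sub, e1, ← ha]
        rw [smul_add, smul_add, e3, e2, e1, e4, hb']
        have := hsum3 v₀
        have := hsum3 a
        abel_nf at *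
        linear_combination (norm := abel) this
    · refine ⟨v₀ + (b - a), hz, fun u hu => by
        rw [smul_add, smul_sub, hfix hic u hu, hfix hjc u hu, hLay.vfix u hu], ?_⟩
      rw [smul_add, smul_sub, smul_add, smul_sub, e1, e2, e3, ← ha, ← hb]
      have := hsum3 v₀
      linear_combination (norm := abel) -this
  have hjiw : j • i • w = w - i • w := by
    rw [hantig hji, hjw, smul_add, smul_smul i i, hii, hneg]
    abel
  let s : Fin 3 → G := ![x 0, x 1, i]
  let g : Fin 6 → G := ![l 0, x 0, l 1, x 1, i, j]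
  let vec := coord D ι s w
  have hxiq : ∀ k, Commute (x k) i := fun k => commutatorElement_eq_one_iff_mul_comm.1 (hxi k)
  have hxjq : ∀ k, Commute (x k) j := fun k => commutatorElement_eq_one_iff_mul_comm.1 (hxj k)
  have hliq : ∀ k, Commute (l k) i := fun k => (mem_cent.1 hic).2 _ (P.l_mem k)
  have hljq : ∀ k, Commute (l k) j := fun k => (mem_cent.1 hjc).2 _ (P.l_mem k)
  have hsB : ∀ k, s k ∈ B := fun k => by fin_cases k <;> simp [s, P.x_mem, hiB]
  have hss : ∀ a b, Commute (s a) (s b) := fun a b => by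
    fin_cases a <;> fin_cases b <;>
      first
        | exact Commute.refl _ | exact P.x_comm _ _ | exact hxiq _ | exact (hxiq _).symm
  have hsC : ∀ k, s k ∈ cent B (rest L x) := fun k => by
    refine mem_cent.2 ⟨hsB k, fun u hu => ?_⟩
    fin_cases k
    · exact ((mem_rest.1 hu).2 0).symm
    · exact ((mem_rest.1 hu).2 1).symm
    · exact (mem_cent.1 hic).2 u (mem_rest.1 hu).1
  refine ⟨g, vec,
    { le := inf_le_left
      mem := fun q => by fin_cases q <;> simp [g, hlB, P.x_mem, hiB, hjB]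
      e₀_mem := S.mem
      e₀_neg := hneg
      centre_two := S.two
      act := ?_
      fixed := ?_
      decomp := ?_
      uniq := ?_ }⟩
  · intro q z
    have hA : ∀ k : Fin 2, l k • vec z = vec (gstep (minusData.A k.castSucc) k.castSucc z) := fun k => by
      have hA' : minusData.A k.castSucc =
          fun a b => if a then (if b then 2 else 0) else (if b then 0 else 1) := by
        fin_cases k <;> rfl
      have hsk : s k.castSucc = x k := by fin_cases k <;> rfl
      refine coord_act D ι s w (hBT _ (hlB k)) (fun k' => hBT _ (hsB k')) k.castSucc hss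
        (fun k' hk' => ?_) _ ?_ ?_ z
      · fin_cases k <;> fin_cases k' <;>
          first
            | exact absurd rfl hk' | exact hliq _ | exact hlx _ _ (by decide)
      · simp [hA', hwL _ (P.l_mem k), map_zero, map_one]
      · rw [hsk, hantig (by rw [P.pair, if_pos rfl]), hwL _ (P.l_mem k)]
        simp [hA', hι2, map_zero, map_neg]
        rfl
    have hB : ∀ k : Fin 2, x k • vec z = vec (gstep (minusData.B k.castSucc) k.castSucc z) := fun k => by
      have hB' : minusData.B k.castSucc =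
          fun a b => if a then (if b then 0 else 1) else (if b then 1 else 0) := by
        fin_cases k <;> rfl
      have hsk : s k.castSucc = x k := by fin_cases k <;> rfl
      refine coord_act D ι s w (hBT _ (P.x_mem k)) (fun k' => hBT _ (hsB k')) k.castSucc hss
        (fun k' _ => ?_) _ ?_ ?_ z
      · rw [← hsk]; exact hss _ _
      · simp [hB', hsk]
      · rw [hsk, smul_smul, P.x_sq, one_smul]
        simp [hB']
    have hI : i • vec z = vec (gstep (minusData.A 2) 2 z) := by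
      have hA' : minusData.A 2 =
          fun a b => if a then (if b then 0 else 1) else (if b then 2 else 0) := rfl
      refine coord_act D ι s w (hBT _ hiB) (fun k' => hBT _ (hsB k')) 2 hss (fun k' _ => ?_) _ ?_ ?_ z
      · exact hss 2 k'
      · simp [hA', s, map_zero, map_one]
      · change i • i • w = _
        rw [smul_smul, hii, hneg]
        simp [hA', hι2, map_zero, map_neg, map_one]
        rfl
    have hJ : j • vec z = vec (gstep (minusData.B 2) 2 z) := by
      have hB' : minusData.B 2 =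
          fun a b => if a then (if b then 2 else 1) else (if b then 1 else 1) := rfl
      refine coord_act D ι s w (hBT _ hjB) (fun k' => hBT _ (hsB k')) 2 hss (fun k' hk' => ?_) _ ?_ ?_ z
      · fin_cases k'
        · exact (hxjq 0).symm
        · exact (hxjq 1).symm
        · exact absurd rfl hk'
      · rw [hjw]; simp [hB', s, map_one]
      · change j • i • w = _
        rw [hjiw]
        simp [hB', s, hι2, map_neg, map_one, sub_eq_add_neg]
        rfl
    fin_cases q
    · exact hA 0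
    · exact hB 0
    · exact hA 1
    · exact hB 1
    · exact hI
    · exact hJ
  · intro u hu z
    simp only [vec, coord_apply, Finset.smul_sum]
    refine Finset.sum_congr rfl fun d _ => ?_
    have hsd : shift s d ∈ cent B (rest L x) :=
      mul_mem (ite_mem (hsC 0) _) (mul_mem (ite_mem (hsC 1) _) (ite_mem (hsC 2) _))
    rw [D.op_comm u (hBT u (F.lle (mem_rest.1 hu).1)), smul_smul, (mem_cent.1 hsd).2 u hu,
      mul_smul, hwL u (mem_rest.1 hu).1]
  · intro z hz
    obtain ⟨c₀, hz₀, hk₀⟩ := S.clear P (mem_cent.1 hz).1 0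
    obtain ⟨c₁, hz₁, hk₁⟩ := S.clear P hz₀ 1
    set X₀ := if c₀ then x 0 else 1 with hX₀
    set X₁ := if c₁ then x 1 else 1 with hX₁
    have hXc : X₀ ∈ cent B (rest L x) ∧ X₁ ∈ cent B (rest L x) :=
      ⟨ite_mem (hsC 0) _, ite_mem (hsC 1) _⟩
    have hc : z * X₀ * X₁ ∈ cent B L := by
      refine S.lpow P hz₁ (fun k => ?_) fun u hu => ?_
      · rw [hk₁, hk₀]
        fin_cases k <;> simp
      · exact commutatorElement_eq_one_iff_mul_comm.2
          ((mem_cent.1 (mul_mem (mul_mem hz hXc.1) hXc.2)).2 u hu)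
    set z' := z * X₀ * X₁ with hz'
    have hz'B := (mem_cent.1 hc).1
    obtain ⟨a, a', hfi, hfj⟩ : ∃ a a' : Bool,
        ⁅i, z' * ((if a then i else 1) * (if a' then j else 1))⁆ = 1 ∧
        ⁅j, z' * ((if a then i else 1) * (if a' then j else 1))⁆ = 1 := by
      rcases S.cases hiB hz'B with h | h <;> rcases S.cases hjB hz'B with h' | h'
      · exact ⟨false, false, by simpa using h, by simpa using h'⟩
      · refine ⟨true, false, ?_, ?_⟩ <;>
          simp [F.comm_mul_right hiB hz'B hiB, F.comm_mul_right hjB hz'B hiB, h, h', hji, S.sq_one]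
      · refine ⟨false, true, ?_, ?_⟩ <;>
          simp [F.comm_mul_right hiB hz'B hjB, F.comm_mul_right hjB hz'B hjB, h, h', hij, S.sq_one]
      · refine ⟨true, true, ?_, ?_⟩ <;>
          simp [F.comm_mul_right hiB hz'B (mul_mem hiB hjB), F.comm_mul_right hiB hiB hjB,
            F.comm_mul_right hjB hz'B (mul_mem hiB hjB), F.comm_mul_right hjB hiB hjB, h, h', hij,
            hji, S.sq_one]
    set W := (if a then i else 1) * (if a' then j else 1) with hW
    have hWC : W ∈ cent B L := mul_mem (ite_mem hic _) (ite_mem hjc _)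
    have hWB := (mem_cent.1 hWC).1
    have hsup : z' * W ∈ L ⊔ T := by
      by_contra hn
      have hne : z' * W * i ∈ L ⊔ T := by
        by_contra hn'
        exact F.comm_ne_one D.emb D.emb_inj (mul_mem hc hWC) hic hn hin hn' hfi
      refine S.ne_one ?_
      have h := F.comm_eq_one_of_sup hne hjc
      rwa [F.comm_mul_left (mul_mem hz'B hWB) hiB hjB, S.symm (mul_mem hz'B hWB) hjB, hfj, one_mul,
        hij] at h
    obtain ⟨u, hu, t, ht, hut⟩ := F.mem_sup_iff.1 hsup
    obtain ⟨a₀, hu₀, hm₀⟩ := S.clearL P hu 0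
    obtain ⟨a₁, hu₁, hm₁⟩ := S.clearL P hu₀ 1
    set M₀ := if a₀ then l 0 else 1 with hM₀
    set M₁ := if a₁ then l 1 else 1 with hM₁
    have hy : u * M₀ * M₁ ∈ rest L x := mem_rest.2 ⟨hu₁, fun k =>
      (commutatorElement_eq_one_iff_mul_comm.1 (by rw [hm₁, hm₀]; fin_cases k <;> simp)).symm⟩
    set yy := u * M₀ * M₁ with hyy
    obtain ⟨t', ht', htt'⟩ : ∃ t' ∈ T, t * (W ^ 2)⁻¹ = t' := ⟨_, mul_mem ht (inv_mem (S.sq_mem W hWB)), rfl⟩
    obtain ⟨b, hb⟩ : ∃ b : Bool, t' = if b then e₀ else 1 := by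
      rcases S.two t' ht' with h | h
      exacts [⟨false, h⟩, ⟨true, h⟩]
    obtain ⟨y, hyel⟩ := exists_el (e₀ := e₀) g b a₀ c₀ a₁ c₁ a a'
    refine ⟨y, yy, hy, ?_⟩
    rw [hyel]
    simp only [g, Matrix.cons_val_zero, Matrix.cons_val_one, Matrix.cons_val, mul_one]
    rw [← hb, ← hX₀, ← hX₁, ← hM₀, ← hM₁, ← hW]
    have sqX : X₀ * X₀ = 1 ∧ X₁ * X₁ = 1 := by
      simp only [hX₀, hX₁]
      refine ⟨?_, ?_⟩ <;> split_ifs <;> simp [P.x_sq]
    have sqM : M₀ * M₀ = 1 ∧ M₁ * M₁ = 1 := by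
      simp only [hM₀, hM₁]
      refine ⟨?_, ?_⟩ <;> split_ifs <;> simp [S.lsq (P.l_mem _)]
    have hM₀L : M₀ ∈ L := ite_mem (P.l_mem 0) _
    have hM₁L : M₁ ∈ L := ite_mem (P.l_mem 1) _
    have hM₁X₀ : Commute M₁ X₀ := by
      simp only [hM₁, hX₀]
      split_ifs <;> first | exact Commute.one_right _ | exact Commute.one_left _ | exact hlx _ _ (by decide)
    have hXX : Commute X₁ X₀ := by
      simp only [hX₁, hX₀]
      split_ifs <;> first | exact Commute.one_right _ | exact Commute.one_left _ | exact P.x_comm _ _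
    have hXW : ∀ k, Commute (x k) W := fun k => by
      refine Commute.mul_right ?_ ?_ <;> split_ifs
      exacts [hxiq k, Commute.one_right _, hxjq k, Commute.one_right _]
    have hWX : Commute W X₀ ∧ Commute W X₁ := by
      simp only [hX₀, hX₁]
      refine ⟨?_, ?_⟩ <;> split_ifs
      exacts [(hXW 0).symm, Commute.one_right _, (hXW 1).symm, Commute.one_right _]
    have hu' : u = yy * (M₁ * M₀) := by
      rw [hyy]; simp [mul_assoc, ← mul_assoc M₁ M₁, sqM.1, sqM.2]
    have hzeq : z = z' * (X₁ * X₀) := by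
      rw [hz']; simp [mul_assoc, ← mul_assoc X₁ X₁, sqX.1, sqX.2]
    have hz'eq : z' = yy * (M₀ * M₁) * t' * W := by
      calc z' = z' * W * (W ^ 2)⁻¹ * W := by rw [pow_two]; group
        _ = u * t * (W ^ 2)⁻¹ * W := by rw [hut]
        _ = u * t' * W := by rw [mul_assoc u, htt']
        _ = _ := by rw [hu', F.lcomm M₁ hM₁L M₀ hM₀L]
    have hyx : Commute yy (M₀ * (X₀ * (M₁ * (X₁ * W)))) := by
      have hc' := (mem_cent.1 hWC).2 yy (mem_rest.1 hy).1
      exact (show Commute yy M₀ from F.lcomm _ hu₁ _ hM₀L).mul_right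
        ((show Commute yy X₀ from (mem_cent.1 hXc.1).2 yy hy).mul_right
          ((show Commute yy M₁ from F.lcomm _ hu₁ _ hM₁L).mul_right
            ((show Commute yy X₁ from (mem_cent.1 hXc.2).2 yy hy).mul_right hc')))
    have hyt : Commute yy t' := hBT _ (F.lle hu₁) t' ht'
    have hMt : Commute (M₀ * M₁) t' := hBT _ (F.lle (mul_mem hM₀L hM₁L)) t' ht'
    have hmid : M₀ * M₁ * W * (X₁ * X₀) = M₀ * (X₀ * (M₁ * (X₁ * W))) := by
      rw [hXX.eq, mul_assoc (M₀ * M₁), (hWX.1.mul_right hWX.2).eq, mul_assoc M₀]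
      congr 1
      simp only [← mul_assoc]
      rw [hM₁X₀.eq]
    rw [hzeq, hz'eq]
    calc yy * (M₀ * M₁) * t' * W * (X₁ * X₀)
        = yy * (t' * (M₀ * M₁)) * W * (X₁ * X₀) := by rw [mul_assoc yy, hMt.eq]
      _ = yy * (t' * (M₀ * M₁ * W * (X₁ * X₀))) := by simp only [mul_assoc]
      _ = _ := by rw [hmid]; exact (hyt.mul_right hyx).eq
  · intro ι' _ r hr z z' h
    let d₀ : Fin 4 → Fin 8 := fun a => Fin.castLE (by norm_num) a
    let d₁ : Fin 4 → Fin 8 := fun a => setBit (d₀ a) 2 true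
    have hd₀ : ∀ a, shift s (d₀ a) = (if bit (d₀ a) 0 then x 0 else 1) *
        ((if bit (d₀ a) 1 then x 1 else 1) * 1) := fun a => by
      have h2 : ∀ a : Fin 4, bit (Fin.castLE (by norm_num) a : Fin 8) 2 = false := by decide
      simp [shift, s, d₀, h2 a]
    have hsB' : ∀ a, shift s (d₀ a) ∈ B := fun a => by
      rw [hd₀]
      exact mul_mem (ite_mem (P.x_mem 0) _) (mul_mem (ite_mem (P.x_mem 1) _) (one_mem B))
    refine uniq_of_layer hLay inf_le_left (fun a => shift s (d₀ a)) (fun a => ?_) ?_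
      (fun y a => D.op (ι (y (d₀ a))) w + D.op (ι (y (d₁ a))) (i • w)) ?_ ?_ (fun y => ?_)
      ι' r hr z z' h
    · exact mul_mem (ite_mem (hsC 0) _) (mul_mem (ite_mem (hsC 1) _) (ite_mem (hsC 2) _))
    · intro a b hab hn
      refine hab ?_
      have hbit : ∀ (a : Fin 4) (k : Fin 2),
          ⁅l k, shift s (d₀ a)⁆ = if bit (d₀ a) k.castSucc then e₀ else 1 := fun a k => by
        rw [hd₀, mul_one, F.comm_mul_right (hlB k) (ite_mem (P.x_mem 0) _) (ite_mem (P.x_mem 1) _)]
        rw [comm_ite P, comm_ite P]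
        fin_cases k <;> simp
      have hext : ∀ a b : Fin 4, (∀ k : Fin 2,
          bit (Fin.castLE (by norm_num) a : Fin 8) k.castSucc =
            bit (Fin.castLE (by norm_num) b : Fin 8) k.castSucc) → a = b := by decide
      refine hext a b fun k => ?_
      have h1 : ⁅l k, shift s (d₀ b)⁆ = ⁅l k, shift s (d₀ a)⁆ := by
        conv_lhs => rw [show shift s (d₀ b) = shift s (d₀ a) * ((shift s (d₀ a))⁻¹ * shift s (d₀ b)) by
          group]
        rw [F.comm_mul_right (hlB k) (hsB' a) (mem_cent.1 hn).1,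
          commutatorElement_eq_one_iff_mul_comm.2 ((mem_cent.1 hn).2 _ (P.l_mem k)), mul_one]
      rw [hbit, hbit] at h1
      revert h1
      change _ → bit (d₀ a) k.castSucc = bit (d₀ b) k.castSucc
      rcases bit (d₀ a) k.castSucc with _ | _ <;> rcases bit (d₀ b) k.castSucc with _ | _ <;>
        simp [S.ne_one, Ne.symm S.ne_one]
    · intro y a u hu
      rw [smul_add, D.op_comm u (hBT u (F.lle hu)), D.op_comm u (hBT u (F.lle hu)), hwL u hu,
        smul_smul, (mem_cent.1 hic).2 u hu, mul_smul, hwL u hu]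
    · intro y y' hyy'
      have hsplit : ∀ d : Fin 8, (∃ a, d₀ a = d) ∨ ∃ a, d₁ a = d := exists_half
      have hzero : ∀ p q : ZMod 3, D.op (ι p) w + D.op (ι q) (i • w) = 0 → p = 0 ∧ q = 0 := by
        intro p q hpq
        have hi : i • (D.op (ι p) w + D.op (ι q) (i • w)) =
            D.op (ι p) (i • w) - D.op (ι q) w := by
          rw [smul_add, D.op_comm i (hBT i hiB), D.op_comm i (hBT i hiB), smul_smul i i, hii, hneg,
            map_neg, sub_eq_add_neg]
        have hq : D.op (ι (p * p + q * q)) w = 0 := by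
          rw [hpq, smul_zero] at hi
          have e1 := congrArg (fun v => D.op (ι p) v) hpq
          have e2 := congrArg (fun v => D.op (ι q) v) hi.symm
          simp only [map_add, map_sub, map_zero] at e1 e2
          rw [map_add, map_add, map_mul, map_mul, map_mul, map_mul]
          change D.op (ι p) (D.op (ι p) w) + D.op (ι q) (D.op (ι q) w) = 0
          have e3 : D.op (ι p) (D.op (ι q) (i • w)) = D.op (ι q) (D.op (ι p) (i • w)) := by
            change (D.op (ι p) * D.op (ι q)) (i • w) = (D.op (ι q) * D.op (ι p)) (i • w)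
            rw [← map_mul D.op, ← map_mul D.op, mul_comm]
          rw [e3] at e1
          linear_combination (norm := abel) e1 - e2
        have hpq0 : p * p + q * q = 0 :=
          hι (((D.op_zero _ _ hq).resolve_right hw0).trans (map_zero ι).symm)
        have key : ∀ p q : ZMod 3, p * p + q * q = 0 → p = 0 ∧ q = 0 := by decide
        exact key p q hpq0
      funext d
      have hh : ∀ a, y (d₀ a) - y' (d₀ a) = 0 ∧ y (d₁ a) - y' (d₁ a) = 0 := fun a => by
        refine hzero _ _ ?_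
        have h := sub_eq_zero.2 (congrFun hyy' a)
        rw [map_sub, map_sub, map_sub, map_sub]
        change D.op _ w - D.op _ w + (D.op _ (i • w) - D.op _ (i • w)) = 0
        simp only at h
        rw [← h]; abel
      rcases hsplit d with ⟨a, rfl⟩ | ⟨a, rfl⟩
      exacts [sub_eq_zero.1 (hh a).1, sub_eq_zero.1 (hh a).2]
    · have hd₁ : ∀ a, shift s (d₁ a) • w = shift s (d₀ a) • i • w := fun a => by
        have hf : setBit (d₀ a) 2 false = d₀ a := by
          revert a; simp only [d₀]; decide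
        change shift s (setBit (d₀ a) 2 true) • w = _
        rw [shift_true s hss, hf, smul_smul, hd₀, mul_one]
        congr 1
        refine ((Commute.mul_left ?_ ?_).symm).eq <;> split_ifs
        exacts [hxiq 0, Commute.one_left i, hxiq 1, Commute.one_left i]
      simp only [vec, coord_apply, smul_add, D.op_comm _ (hBT _ (hsB' _)), ← hd₁]
      rw [Finset.sum_add_distrib, Fin.sum_univ_eight, Fin.sum_univ_four, Fin.sum_univ_four]
      simp [d₀, d₁, setBit_eq]
      abel

end Layer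

end Cfsg.Agent.H81.BaseTwo.Trip
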