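import Mathlib
import Cfsg.Agent.H81.BaseTwo.TripSplit

/-!
# A maximal layer of plus type and rank two does not occur

If the centraliser of `L` in `B` is `L ⊔ T` and two dual pairs exhaust `L`, then conjugation gives an
action of the group on a four-dimensional space over two elements preserving a quadratic form of
plus type, and a group of order prime to three acting so has an abelian normal subgroup
strictly above `T`.
-/

set_option linter.style.haveILetI false

namespace Cfsg.Agent.H81.BaseTwo.Vacuity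

open scoped commutatorElement
open Cfsg.Agent.H10.BaseThree
open Cfsg.Agent.H81.BaseTwo.Trip

universe u v

/-- A bit of a vector. -/
def vb (v : Fin 16) (i : ℕ) : Bool := (v : ℕ).testBit i

/-- The vector with given bits. -/
def enc (a b c d : Bool) : Fin 16 :=
  (if a then 1 else 0) ^^^ ((if b then 2 else 0) ^^^ ((if c then 4 else 0) ^^^ (if d then 8 else 0)))

theorem vb_enc : ∀ a b c d : Bool, vb (enc a b c d) 0 = a ∧ vb (enc a b c d) 1 = b ∧
    vb (enc a b c d) 2 = c ∧ vb (enc a b c d) 3 = d := by decide +kernel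

theorem enc_vb : ∀ v : Fin 16, enc (vb v 0) (vb v 1) (vb v 2) (vb v 3) = v := by decide +kernel

theorem enc_xor : ∀ a b c d a' b' c' d' : Bool,
    enc (xor a a') (xor b b') (xor c c') (xor d d') = enc a b c d ^^^ enc a' b' c' d' := by
  decide +kernel

/-- The quadratic form. -/
def qf (v : Fin 16) : Bool := xor (vb v 0 && vb v 1) (vb v 2 && vb v 3)

/-- The linear map with given images of the unit vectors. -/
def lin (a b c d v : Fin 16) : Fin 16 :=
  (if vb v 0 then a else 0) ^^^ ((if vb v 1 then b else 0) ^^^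
    ((if vb v 2 then c else 0) ^^^ (if vb v 3 then d else 0)))

set_option maxHeartbeats 4000000 in
set_option synthInstance.maxSize 4000 in
set_option synthInstance.maxHeartbeats 400000 in
/-- The isometries of the form have twelfth power one. -/
theorem lin_iterate : ∀ a : Fin 16, qf a = false → ∀ b : Fin 16, qf b = false → qf (a ^^^ b) = true →
    ∀ c : Fin 16, qf c = false → qf (a ^^^ c) = false → qf (b ^^^ c) = false →
      ∀ d : Fin 16, qf d = false → qf (a ^^^ d) = false → qf (b ^^^ d) = false → qf (c ^^^ d) = true →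
        ∀ v : Fin 16, (lin a b c d)^[12] v = v := by decide +kernel

theorem iterate_of_isometry (f : Fin 16 → Fin 16) (hadd : ∀ v w, f (v ^^^ w) = f v ^^^ f w)
    (hq : ∀ v, qf (f v) = qf v) (v : Fin 16) : f^[12] v = v := by
  have h0 : f 0 = 0 := by
    have hself : ∀ w : Fin 16, w ^^^ w = 0 := by decide +kernel
    have h := hadd 0 0
    rwa [hself, hself] at h
  have hite : ∀ (e : Bool) (w : Fin 16), f (if e then w else 0) = if e then f w else 0 := fun e w => by
    cases e <;> simp [h0]
  have hlin : f = lin (f 1) (f 2) (f 4) (f 8) := by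
    funext w
    conv_lhs => rw [← enc_vb w]
    simp only [enc, lin, hadd, hite]
  have hsum : ∀ a b : Fin 16, qf (f a ^^^ f b) = qf (a ^^^ b) := fun a b => by rw [← hadd, hq]
  rw [hlin]
  refine lin_iterate _ (by rw [hq]; decide) _ (by rw [hq]; decide) (by rw [hsum]; decide)
    _ (by rw [hq]; decide) (by rw [hsum]; decide) (by rw [hsum]; decide)
    _ (by rw [hq]; decide) (by rw [hsum]; decide) (by rw [hsum]; decide) (by rw [hsum]; decide) v

variable {G : Type u} [Group G] {T B L : Subgroup G} {ζ e₀ : G} {l x : Fin 2 → G}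

/-- The bit of a commutator. -/
noncomputable def cb (e₀ a b : G) : Bool := @decide (⁅a, b⁆ = e₀) (Classical.propDecidable _)

/-- Coordinates of an element. -/
noncomputable def coords (e₀ : G) (l x : Fin 2 → G) (a : G) : Fin 16 :=
  enc (cb e₀ a (x 0)) (cb e₀ a (l 0)) (cb e₀ a (x 1)) (cb e₀ a (l 1))

/-- A representative of a vector. -/
def repr (l x : Fin 2 → G) (v : Fin 16) : G :=
  (if vb v 0 then l 0 else 1) * (if vb v 1 then x 0 else 1) *
    ((if vb v 2 then l 1 else 1) * (if vb v 3 then x 1 else 1))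

theorem cb_spec (S : Sgn T B L ζ e₀) {a b : G} (ha : a ∈ B) (hb : b ∈ B) :
    ⁅a, b⁆ = if cb e₀ a b then e₀ else 1 := by
  rcases S.cases ha hb with h | h
  · rw [h, if_neg]; simp [cb, h, Ne.symm S.ne_one]
  · rw [h, if_pos]; simp [cb, h]

theorem cb_mul (S : Sgn T B L ζ e₀) {a a' b : G} (ha : a ∈ B) (ha' : a' ∈ B) (hb : b ∈ B) :
    cb e₀ (a * a') b = xor (cb e₀ a b) (cb e₀ a' b) := by
  have h := S.frame.comm_mul_left ha ha' hb
  rw [cb_spec S ha hb, cb_spec S ha' hb, cb_spec S (mul_mem ha ha') hb] at h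
  revert h
  cases cb e₀ (a * a') b <;> cases cb e₀ a b <;> cases cb e₀ a' b <;>
    simp [S.sq_one, S.ne_one, Ne.symm S.ne_one]

theorem cb_eq (S : Sgn T B L ζ e₀) {a b : G} {c : Bool} (h : ⁅a, b⁆ = if c then e₀ else 1) :
    cb e₀ a b = c := by
  cases c <;> simp_all [cb, Ne.symm S.ne_one]

variable (S : Sgn T B L ζ e₀) (P : Dual B L e₀ l x)
include S P

theorem coords_mul {a a' : G} (ha : a ∈ B) (ha' : a' ∈ B) :
    coords e₀ l x (a * a') = coords e₀ l x a ^^^ coords e₀ l x a' := by
  have hl : ∀ i, l i ∈ B := fun i => S.frame.lle (P.l_mem i)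
  simp only [coords, cb_mul S ha ha' (hl _), cb_mul S ha ha' (P.x_mem _), enc_xor]

theorem coords_centre {t : G} (ht : t ∈ T) : coords e₀ l x t = 0 := by
  have h : ∀ b ∈ B, cb e₀ t b = false := fun b hb => cb_eq S (by
    simpa using commutatorElement_eq_one_iff_mul_comm.2 (S.frame.central t ht b hb))
  simp [coords, h _ (P.x_mem _), h _ (S.frame.lle (P.l_mem _))]
  decide +kernel

theorem repr_mem (v : Fin 16) : repr l x v ∈ B := by
  have hl : ∀ i, l i ∈ B := fun i => S.frame.lle (P.l_mem i)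
  exact mul_mem (mul_mem (ite_mem (hl 0) _) (ite_mem (P.x_mem 0) _))
    (mul_mem (ite_mem (hl 1) _) (ite_mem (P.x_mem 1) _))

theorem coords_repr (v : Fin 16) : coords e₀ l x (repr l x v) = v := by
  have hl : ∀ i, l i ∈ B := fun i => S.frame.lle (P.l_mem i)
  have hx := P.x_mem
  have hll : ∀ i k, ⁅l i, l k⁆ = 1 := fun i k => S.lcomm (P.l_mem i) (P.l_mem k)
  have hxx : ∀ i k, ⁅x i, x k⁆ = 1 := fun i k => commutatorElement_eq_one_iff_mul_comm.2 (P.x_comm i k)
  have hxl : ∀ i k, ⁅x i, l k⁆ = if k = i then e₀ else 1 := fun i k => by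
    rw [S.symm (hx i) (hl k), P.pair]
  have hsplit : ∀ c ∈ B, ∀ a₀ a₁ a₂ a₃, cb e₀ ((if a₀ then l 0 else 1) * (if a₁ then x 0 else 1) *
      ((if a₂ then l 1 else 1) * (if a₃ then x 1 else 1))) c =
      xor (xor (a₀ && cb e₀ (l 0) c) (a₁ && cb e₀ (x 0) c))
        (xor (a₂ && cb e₀ (l 1) c) (a₃ && cb e₀ (x 1) c)) := by
    intro c hc a₀ a₁ a₂ a₃
    have h1 : cb e₀ (1 : G) c = false := cb_eq S (by simp)
    rw [cb_mul S (mul_mem (ite_mem (hl 0) _) (ite_mem (hx 0) _))
        (mul_mem (ite_mem (hl 1) _) (ite_mem (hx 1) _)) hc,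
      cb_mul S (ite_mem (hl 0) _) (ite_mem (hx 0) _) hc,
      cb_mul S (ite_mem (hl 1) _) (ite_mem (hx 1) _) hc]
    cases a₀ <;> cases a₁ <;> cases a₂ <;> cases a₃ <;> simp [h1]
  have h1 : ∀ i k, cb e₀ (l i) (x k) = decide (i = k) := fun i k => cb_eq S (by simp [P.pair])
  have h2 : ∀ i k, cb e₀ (x i) (l k) = decide (k = i) := fun i k => cb_eq S (by simp [hxl])
  have h3 : ∀ i k, cb e₀ (l i) (l k) = false := fun i k => cb_eq S (by simp [hll])
  have h4 : ∀ i k, cb e₀ (x i) (x k) = false := fun i k => cb_eq S (by simp [hxx])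
  conv_rhs => rw [← enc_vb v]
  simp only [coords, repr]
  rw [hsplit _ (hx 0), hsplit _ (hl 0), hsplit _ (hx 1), hsplit _ (hl 1)]
  simp [h1, h2, h3, h4]

variable (hC : cent B L ≤ L ⊔ T) (hR : rest L x = ⊥)
include hC hR

theorem mem_of_coords {a : G} (ha : a ∈ B) (h : coords e₀ l x a = 0) : a ∈ T := by
  have F := S.frame
  have hl : ∀ i, l i ∈ B := fun i => F.lle (P.l_mem i)
  obtain ⟨e0, e1, e2, e3⟩ := vb_enc (cb e₀ a (x 0)) (cb e₀ a (l 0)) (cb e₀ a (x 1)) (cb e₀ a (l 1))
  rw [coords] at h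
  rw [h] at e0 e1 e2 e3
  have h0 : ∀ i, vb 0 i = false := fun i => Nat.zero_testBit i
  rw [h0] at e0 e1 e2 e3
  have hx1 : ∀ k, ⁅a, x k⁆ = 1 := fun k => by
    rw [cb_spec S ha (P.x_mem k)]; fin_cases k <;> simp [← e0, ← e2]
  have hl1 : ∀ k, ⁅l k, a⁆ = 1 := fun k => by
    rw [S.symm (hl k) ha, cb_spec S ha (hl k)]; fin_cases k <;> simp [← e1, ← e3]
  have hc : a ∈ cent B L := S.lpow P ha hl1 fun u hu => by
    rw [hR, Subgroup.mem_bot] at hu
    simp [hu]
  obtain ⟨u, hu, t, ht, hut⟩ := F.mem_sup_iff.1 (hC hc)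
  have hu1 : u = 1 := by
    rw [← Subgroup.mem_bot, ← hR]
    refine mem_rest.2 ⟨hu, fun k => (commutatorElement_eq_one_iff_mul_comm.1 ?_).symm⟩
    have h := hx1 k
    rwa [← hut, F.comm_mul_left (F.lle hu) (F.tle ht) (P.x_mem k),
      commutatorElement_eq_one_iff_mul_comm.2 (F.central t ht _ (P.x_mem k)), mul_one] at h
  rw [← hut, hu1, one_mul]
  exact ht

theorem eq_repr_mul {a : G} (ha : a ∈ B) : ∃ t ∈ T, a = repr l x (coords e₀ l x a) * t := by
  set v := coords e₀ l x a with hv
  have hy := repr_mem S P v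
  refine ⟨(repr l x v)⁻¹ * a, mem_of_coords S P hC hR (mul_mem (inv_mem hy) ha) ?_, by group⟩
  have h := coords_mul S P hy (mul_mem (inv_mem hy) ha)
  rw [mul_inv_cancel_left, ← hv, coords_repr S P] at h
  revert h
  generalize coords e₀ l x ((repr l x v)⁻¹ * a) = w
  have key : ∀ v w : Fin 16, v = v ^^^ w → w = 0 := by decide +kernel
  exact key v w

theorem sq_eq {a : G} (ha : a ∈ B) : a * a = if qf (coords e₀ l x a) then e₀ else 1 := by
  have F := S.frame
  have hl : ∀ i, l i ∈ B := fun i => F.lle (P.l_mem i)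
  obtain ⟨t, ht, hat⟩ := eq_repr_mul S P hC hR ha
  have htt : t * t = 1 := by
    rcases S.two t ht with h | h <;> simp [h, S.sq_one]
  set v := coords e₀ l x a
  have hy := repr_mem S P v
  have e : a * a = repr l x v * repr l x v := by
    rw [hat, mul_assoc, ← mul_assoc t (repr l x v) t, F.central t ht _ hy, mul_assoc, htt, mul_one]
  have hpair : ∀ (i : Fin 2) (p r : Bool), ((if p then l i else 1) * (if r then x i else 1)) *
      ((if p then l i else 1) * (if r then x i else 1)) = if p && r then e₀ else 1 := by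
    intro i p r
    cases p <;> cases r <;> simp [P.x_sq, S.lsq (P.l_mem i)]
    rw [← pow_two, F.mul_pow_two_class (hl i) (P.x_mem i), Nat.choose_self, pow_one, pow_two, pow_two,
      S.lsq (P.l_mem i), P.x_sq, S.symm (P.x_mem i) (hl i), P.pair, if_pos rfl, one_mul, one_mul]
  set A := (if vb v 0 then l 0 else 1) * (if vb v 1 then x 0 else 1) with hA
  set C := (if vb v 2 then l 1 else 1) * (if vb v 3 then x 1 else 1) with hCdef
  have hAC : Commute C A := by
    have key : ∀ (i k : Fin 2), i ≠ k → Commute (l i) (x k) := fun i k hik =>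
      commutatorElement_eq_one_iff_mul_comm.1 (by rw [P.pair, if_neg hik])
    have c1 : Commute (l 1) (l 0) := F.lcomm _ (P.l_mem 1) _ (P.l_mem 0)
    rw [hA, hCdef]
    refine Commute.mul_left (Commute.mul_right ?_ ?_) (Commute.mul_right ?_ ?_) <;> split_ifs <;>
      first
        | exact Commute.one_right _
        | exact Commute.one_left _
        | exact c1
        | exact key _ _ (by decide)
        | exact (key _ _ (by decide)).symm
        | exact P.x_comm _ _
  rw [e, show repr l x v = A * C from rfl, mul_assoc, ← mul_assoc C A C, hAC.eq, mul_assoc A C C,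
    ← mul_assoc, hA, hCdef, hpair, hpair, qf]
  cases vb v 0 <;> cases vb v 1 <;> cases vb v 2 <;> cases vb v 3 <;> simp [S.sq_one]

omit hC hR in
/-- The centre commutes with the whole group. -/
theorem centre_comm (g : G) {t : G} (ht : t ∈ T) : g * t = t * g := by
  have key : g * e₀ * g⁻¹ = e₀ :=
    (S.two _ (S.frame.tnormal.conj_mem e₀ S.mem g)).resolve_left fun h =>
      S.ne_one (conj_eq_one_iff.1 h)
  rcases S.two t ht with rfl | rfl
  · simp
  · exact mul_inv_eq_iff_eq_mul.1 key

theorem coords_conj (hBn : B.Normal) (g : G) {a : G} (ha : a ∈ B) :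
    coords e₀ l x (g * a * g⁻¹) =
      coords e₀ l x (g * repr l x (coords e₀ l x a) * g⁻¹) := by
  obtain ⟨t, ht, hat⟩ := eq_repr_mul S P hC hR ha
  set y := repr l x (coords e₀ l x a)
  have hy : y ∈ B := repr_mem S P _
  have e : g * a * g⁻¹ = g * y * g⁻¹ * t := by
    rw [hat, mul_assoc (g * y), centre_comm S P g⁻¹ ht, ← mul_assoc g y, ← mul_assoc, mul_assoc]
  rw [e, coords_mul S P (hBn.conj_mem _ hy g) (S.frame.tle ht), coords_centre S P ht]
  have key : ∀ v : Fin 16, v ^^^ 0 = v := by decide +kernel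
  exact key _

omit hR in
/-- The action on the vectors leads to a contradiction. -/
theorem false_of_rest_bot (hR : rest L x = ⊥) [Finite G] (h3 : ¬ 3 ∣ Nat.card G) (hBn : B.Normal)
    (hmax : ∀ A : Subgroup G, A.Normal → T ≤ A → (∀ a ∈ A, ∀ b ∈ A, a * b = b * a) → A ≤ T)
    (hself : ∀ g : G, (∀ t ∈ T, g * t = t * g) → (∀ b ∈ B, g * b = b * g) → g ∈ T)
    {K : Type v} [Field K] (f : T →* K) (hf : Function.Injective f) : False := by
  classical
  have F := S.frame
  have hcj : ∀ g {a}, a ∈ B → g * a * g⁻¹ ∈ B := fun g {a} ha => hBn.conj_mem a ha g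
  have hrepr := repr_mem S P
  letI act : MulAction G (Fin 16) :=
    { smul := fun g v => coords e₀ l x (g * repr l x v * g⁻¹)
      one_smul := fun v => by
        change coords e₀ l x (1 * repr l x v * 1⁻¹) = v
        rw [one_mul, inv_one, mul_one, coords_repr S P]
      mul_smul := fun g h v => by
        change coords e₀ l x (g * h * repr l x v * (g * h)⁻¹) =
          coords e₀ l x (g * repr l x (coords e₀ l x (h * repr l x v * h⁻¹)) * g⁻¹)
        rw [← coords_conj S P hC hR hBn g (hcj h (hrepr v))]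
        congr 1
        group }
  have hact : ∀ (g : G) {a : G}, a ∈ B → g • coords e₀ l x a = coords e₀ l x (g * a * g⁻¹) :=
    fun g {a} ha => (coords_conj S P hC hR hBn g ha).symm
  have hadd : ∀ (g : G) v w, g • (v ^^^ w) = (g • v) ^^^ (g • w) := fun g v w => by
    conv_lhs => rw [← coords_repr S P v, ← coords_repr S P w,
      ← coords_mul S P (hrepr v) (hrepr w), hact g (mul_mem (hrepr v) (hrepr w))]
    rw [show g * (repr l x v * repr l x w) * g⁻¹ =
      (g * repr l x v * g⁻¹) * (g * repr l x w * g⁻¹) by group,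
      coords_mul S P (hcj g (hrepr v)) (hcj g (hrepr w))]
    rfl
  have hq : ∀ (g : G) v, qf (g • v) = qf v := fun g v => by
    have h1 := sq_eq S P hC hR (hcj g (hrepr v))
    have h2 := sq_eq S P hC hR (hrepr v)
    rw [coords_repr S P] at h2
    rw [show (g * repr l x v * g⁻¹) * (g * repr l x v * g⁻¹) =
      g * (repr l x v * repr l x v) * g⁻¹ by group, h2] at h1
    change qf (coords e₀ l x (g * repr l x v * g⁻¹)) = qf v
    revert h1
    cases qf (coords e₀ l x (g * repr l x v * g⁻¹)) <;> cases qf v <;>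
      simp [centre_comm S P g S.mem, S.ne_one, Ne.symm S.ne_one]
  -- fourth powers fix every vector
  have h4 : ∀ (g : G) (v : Fin 16), g ^ 4 • v = v := by
    intro g v
    let π := MulAction.toPermHom G (Fin 16)
    have h12 : π g ^ 12 = 1 := Equiv.ext fun w => by
      rw [← map_pow]
      change g ^ 12 • w = w
      rw [← congrFun (smul_iterate g 12) w]
      exact iterate_of_isometry _ (hadd g) (hq g) w
    have ho : π g ^ orderOf g = 1 := by rw [← map_pow, pow_orderOf_eq_one, map_one]
    have hd : Nat.gcd 12 (orderOf g) ∣ 4 := by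
      have hco : Nat.Coprime (Nat.gcd 12 (orderOf g)) 3 :=
        (Nat.prime_three.coprime_iff_not_dvd.2 fun h =>
          h3 ((h.trans (Nat.gcd_dvd_right _ _)).trans (orderOf_dvd_natCard g))).symm
      exact hco.dvd_of_dvd_mul_left
        (by rw [show 3 * 4 = 12 from rfl]; exact Nat.gcd_dvd_left _ _)
    obtain ⟨m, hm⟩ := hd
    have : π (g ^ 4) = 1 := by rw [map_pow, hm, pow_mul, pow_gcd_eq_one.2 ⟨h12, ho⟩, one_pow]
    exact Equiv.ext_iff.1 this v
  -- hence they lie in the layer
  have h4B : ∀ g : G, g ^ 4 ∈ B := by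
    intro g
    set h := g ^ 4 with hh
    have hT : ∀ b ∈ B, ⁅h, b⁆ ∈ T := fun b hb => by
      have hbb := hcj h hb
      refine mem_of_coords S P hC hR (by rw [commutatorElement_def]; exact mul_mem hbb (inv_mem hb)) ?_
      have he := coords_mul S P hbb (inv_mem hb)
      rw [← hact h hb, h4, ← coords_mul S P hb (inv_mem hb), mul_inv_cancel,
        coords_centre S P (one_mem T)] at he
      rw [commutatorElement_def]
      exact he
    let χ : B →* T :=
      { toFun := fun b => ⟨⁅h, (b : G)⁆, hT b b.2⟩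
        map_one' := Subtype.ext (by simp)
        map_mul' := fun a b => Subtype.ext (by
          change ⁅h, (a : G) * b⁆ = ⁅h, (a : G)⁆ * ⁅h, (b : G)⁆
          have hc : (a : G) * ⁅h, (b : G)⁆ = ⁅h, (b : G)⁆ * a := centre_comm S P _ (hT b b.2)
          rw [show ⁅h, (a : G) * b⁆ = ⁅h, (a : G)⁆ * ((a : G) * ⁅h, (b : G)⁆ * (a : G)⁻¹) by
            simp only [commutatorElement_def]; group, hc, mul_inv_cancel_right]) }
    obtain ⟨z, hz, hzb⟩ := exists_dual F f hf χ fun b hb => Subtype.ext
      (commutatorElement_eq_one_iff_mul_comm.2 (centre_comm S P h hb))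
    have hzh : z⁻¹ * h ∈ T := hself _ (fun t ht => centre_comm S P _ ht) fun b hb => by
      have e : z * b * z⁻¹ * b⁻¹ = h * b * h⁻¹ * b⁻¹ := by
        simpa [χ, commutatorElement_def] using hzb ⟨b, hb⟩
      have e' : z * b * z⁻¹ = h * b * h⁻¹ := mul_right_cancel e
      calc z⁻¹ * h * b = z⁻¹ * (h * b * h⁻¹) * h := by group
        _ = z⁻¹ * (z * b * z⁻¹) * h := by rw [e']
        _ = b * (z⁻¹ * h) := by group
    simpa using mul_mem hz (F.tle hzh)
  have h2G : IsPGroup 2 G := fun g => ⟨4, by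
    have h := sq_eq S P hC hR (h4B g)
    rw [show g ^ 2 ^ 4 = (g ^ 4 * g ^ 4) * (g ^ 4 * g ^ 4) by simp only [← pow_add]; norm_num, h]
    split_ifs <;> simp [S.sq_one]⟩
  -- a fixed vector gives an abelian normal subgroup above the centre
  haveI : Fact (Nat.Prime 2) := ⟨Nat.prime_two⟩
  have h0 : (0 : Fin 16) ∈ MulAction.fixedPoints G (Fin 16) := fun g => by
    rw [← coords_centre S P (one_mem T), hact g (one_mem B), mul_one, mul_inv_cancel]
  obtain ⟨v, hv, hv0⟩ := h2G.exists_fixed_point_of_prime_dvd_card_of_fixed_point (Fin 16)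
    (by simp) h0
  have hxor : ∀ u w : Fin 16, (u = 0 ∨ u = v) → (w = 0 ∨ w = v) → u ^^^ w = 0 ∨ u ^^^ w = v := by
    have key : ∀ v : Fin 16, v ^^^ v = 0 ∧ v ^^^ 0 = v ∧ (0 : Fin 16) ^^^ v = v := by decide +kernel
    intro u w hu hw
    rcases hu with rfl | rfl <;> rcases hw with rfl | rfl <;> simp [key]
  let A : Subgroup G :=
    { carrier := {a | a ∈ B ∧ (coords e₀ l x a = 0 ∨ coords e₀ l x a = v)}
      one_mem' := ⟨one_mem B, Or.inl (coords_centre S P (one_mem T))⟩
      mul_mem' := fun {a b} ha hb => ⟨mul_mem ha.1 hb.1, by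
        rw [coords_mul S P ha.1 hb.1]; exact hxor _ _ ha.2 hb.2⟩
      inv_mem' := fun {a} ha => ⟨inv_mem ha.1, by
        have h := coords_mul S P ha.1 (inv_mem ha.1)
        rw [mul_inv_cancel, coords_centre S P (one_mem T)] at h
        have key : ∀ u w : Fin 16, 0 = u ^^^ w → w = u := by decide +kernel
        rw [key _ _ h]; exact ha.2⟩ }
  have hAn : A.Normal := ⟨fun a ha g => ⟨hcj g ha.1, by
    rw [← hact g ha.1]
    rcases ha.2 with h | h <;> rw [h]
    exacts [Or.inl (h0 g), Or.inr (hv g)]⟩⟩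
  have hAc : ∀ a ∈ A, ∀ b ∈ A, a * b = b * a := by
    intro a ha b hb
    rcases ha.2 with h | h
    · exact F.central a (mem_of_coords S P hC hR ha.1 h) b hb.1
    rcases hb.2 with h' | h'
    · exact (F.central b (mem_of_coords S P hC hR hb.1 h') a ha.1).symm
    obtain ⟨s, hs, has⟩ := eq_repr_mul S P hC hR ha.1
    obtain ⟨t, ht, hbt⟩ := eq_repr_mul S P hC hR hb.1
    rw [h] at has; rw [h'] at hbt
    rw [has, hbt]
    have c : ∀ {u}, u ∈ T → Commute (repr l x v) u := fun {u} hu => centre_comm S P _ hu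
    exact (((Commute.refl _).mul_right (c ht)).mul_left
      ((c hs).symm.mul_right (centre_comm S P s ht))).eq
  have hle := hmax A hAn (fun t ht => ⟨F.tle ht, Or.inl (coords_centre S P ht)⟩) hAc
    (show repr l x v ∈ A from ⟨hrepr v, Or.inr (coords_repr S P v)⟩)
  exact hv0 ((coords_centre S P hle).symm.trans (coords_repr S P v))

end Cfsg.Agent.H81.BaseTwo.Vacuity
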