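import Mathlib
import Cfsg.Agent.H81.BaseTwo.Large
import Cfsg.Agent.H81.BaseTwo.TripCert
import Cfsg.Agent.H81.BaseTwo.Vacuity
import Cfsg.Agent.H42.Base2.Lin.Block

/-!
# Regular pairs for coprime solvable linear groups without blocks
-/

set_option linter.style.haveILetI false

namespace Cfsg.Agent.H81.BaseTwo

open scoped commutatorElement
open Cfsg.Agent.H10.BaseThree
open Cfsg.Agent.H81.BaseTwo.Trip

universe u v

/-- The field with three elements. -/
theorem regular2_three {G : Type u} {V : Type v} [Group G] [AddCommGroup V] [DistribMulAction G V]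
    [Finite G] [Finite V] {p : ℕ} {T B L : Subgroup G} {ζ : G} {v₀ : V} {K : Type v} [Field K]
    [Finite K] (hF : Full G V p T B L ζ v₀ K) (h3K : Nat.card K = 3) (h3 : ¬ 3 ∣ Nat.card G) :
    ∃ t : V × V, Cfsg.Agent.H10.BaseTwo.Regular2 G t := by
  classical
  have D := hF.data
  have F := hF.layer.frame
  have h2 : (2 : K) ≠ 0 := two_ne_zero_of_odd hF.data.odd_card
  obtain ⟨s₀, hs₀⟩ := hF.full (-1) (neg_ne_zero.2 one_ne_zero)
  have hsign : ∀ k : K, k ≠ 0 → k = 1 ∨ k = -1 := fun k hk => by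
    letI := Fintype.ofFinite K
    have h := FiniteField.pow_card_sub_one_eq_one k hk
    rw [← Nat.card_eq_fintype_card, h3K] at h
    exact sq_eq_one_iff.1 h
  have htwo : ∀ t ∈ T, t = 1 ∨ t = (s₀ : G) := fun t ht => by
    rcases hsign _ ((Group.isUnit (⟨t, ht⟩ : T)).map hF.data.emb).ne_zero with h | h
    · exact Or.inl (congrArg Subtype.val (hF.data.emb_inj (h.trans (map_one _).symm)))
    · exact Or.inr (congrArg Subtype.val (hF.data.emb_inj (h.trans hs₀.symm)))
  have hne : (s₀ : G) ≠ 1 := minus_one_ne F hF.data.emb hF.data.emb_inj hs₀ h2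
  have hT2 : ∃ k, Nat.card T = 2 ^ k := ⟨1, by
    rw [pow_one, Nat.card_eq_two_iff]
    refine ⟨1, s₀, fun h => hne (congrArg Subtype.val h).symm, Set.eq_univ_iff_forall.2 fun t => ?_⟩
    rcases htwo t t.2 with h | h
    · exact Or.inl (Subtype.ext h)
    · exact Or.inr (Subtype.ext h)⟩
  have S : Sgn T B L ζ (s₀ : G) :=
    ⟨F, s₀.2, htwo, minus_one_sq F hF.data.emb hF.data.emb_inj hs₀, hne,
      fun x hx => sq_mem_centre F hT2 hx⟩
  have hneg : ∀ z : V, (s₀ : G) • z = -z := fun z => by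
    rw [← hF.data.op_emb, hs₀, map_neg, map_one]; rfl
  obtain ⟨ι, hι⟩ := exists_iota h3K
  have P₀ : Dual B L (s₀ : G) (Fin.elim0 : Fin 0 → G) Fin.elim0 :=
    ⟨fun i => i.elim0, fun i => i.elim0, fun i => i.elim0, fun i => i.elim0, fun i => i.elim0⟩
  by_cases hr₀ : rest L (Fin.elim0 : Fin 0 → G) = ⊥
  · refine regular2_generic hF.layer hF.data (Or.inl fun x hx y _ _ _ hxn _ => absurd ?_ hxn)
    refine mem_cent.2 ⟨hx, fun u hu => ?_⟩
    have h : u ∈ rest L (Fin.elim0 : Fin 0 → G) := mem_rest.2 ⟨hu, fun k => k.elim0⟩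
    rw [hr₀, Subgroup.mem_bot] at h
    simp [h]
  obtain ⟨a₁, ha₁, ha₁n⟩ := (Subgroup.bot_or_exists_ne_one _).resolve_left hr₀
  obtain ⟨l₁, x₁, P₁⟩ := S.extend P₀ ha₁ ha₁n
  by_cases hr₁ : rest L x₁ = ⊥
  · refine regular2_generic hF.layer hF.data (Or.inl fun x hx y hy _ _ hxn hyn => ?_)
    have hcent : ∀ z ∈ B, ⁅l₁ 0, z⁆ = 1 → z ∈ cent B L := fun z hz h =>
      S.lpow P₁ hz (fun k => by rwa [show k = 0 from Fin.ext (by omega)]) fun u hu => by
        rw [hr₁, Subgroup.mem_bot] at hu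
        simp [hu]
    have hl : l₁ 0 ∈ B := F.lle (P₁.l_mem 0)
    have hx' := (S.cases hl hx).resolve_left fun h => hxn (hcent x hx h)
    have hy' := (S.cases hl hy).resolve_left fun h => hyn (hcent y hy h)
    refine hcent _ (mul_mem (inv_mem hx) hy) ?_
    have h := F.comm_mul_right hl hx (mul_mem (inv_mem hx) hy)
    rw [mul_inv_cancel_left, hx', hy'] at h
    exact mul_left_cancel (h.symm.trans (mul_one _).symm)
  obtain ⟨a₂, ha₂, ha₂n⟩ := (Subgroup.bot_or_exists_ne_one _).resolve_left hr₁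
  obtain ⟨l₂, x₂, P₂⟩ := S.extend P₁ ha₂ ha₂n
  by_cases hC : cent B L ≤ L ⊔ T
  · have hr₂ : rest L x₂ ≠ ⊥ := fun hR =>
      Vacuity.false_of_rest_bot S P₂ hC hR h3 hF.layer.bnormal hF.max hF.layer.self
        hF.data.emb hF.data.emb_inj
    obtain ⟨a₃, ha₃, ha₃n⟩ := (Subgroup.bot_or_exists_ne_one _).resolve_left hr₂
    obtain ⟨l₃, x₃, P₃⟩ := S.extend P₂ ha₃ ha₃n
    obtain ⟨g, vec, hT⟩ := exists_plus hF.layer hF.data S hneg ι hι hC P₃
    exact regular2_trip hF.layer h3 plus_valid plus_sp.1 plus_sp.2 hT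
  · obtain ⟨g, vec, hT⟩ := exists_minus hF.layer hF.data S hneg ι hι hC P₂
    exact regular2_trip hF.layer h3 minus_valid minus_sp.1 minus_sp.2 hT

/-- Coprime solvable groups without blocks have a regular pair in odd characteristic. -/
theorem regular2_of_no_block {G : Type u} {V : Type v} [Group G] [AddCommGroup V]
    [DistribMulAction G V] [Finite G] [Finite V] [Group.IsSolvable G] {p : ℕ} (hp : p.Prime)
    (hp2 : p ≠ 2) (hpV : ∀ v : V, p • v = 0) (hpG : ¬ p ∣ Nat.card G) (hirr : Irred G V)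
    (hnb : ∀ e : AddMonoid.End V, ¬ IsBlock G e) :
    ∃ t : V × V, Cfsg.Agent.H10.BaseTwo.Regular2 G t := by
  refine exists_pair_of_full hp hp2 hpV hpG hirr hnb fun H _ T B L ζ v₀ K _ _ hF => ?_
  by_cases h3K : Nat.card K = 3
  · refine regular2_three hF h3K ?_
    have := hirr.1
    obtain ⟨v, hv⟩ := exists_ne (0 : V)
    have hchar : (p : K) = 0 := by
      refine (hF.data.op_zero _ v ?_).resolve_right hv
      rw [map_natCast, AddMonoid.End.natCast_apply, hpV]
    have h3 : (3 : K) = 0 := by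
      letI := Fintype.ofFinite K
      have h := FiniteField.cast_card_eq_zero K
      rw [← Nat.card_eq_fintype_card, h3K] at h
      exact_mod_cast h
    haveI : CharP K 3 := (CharP.charP_iff_prime_eq_zero Nat.prime_three).2 (by exact_mod_cast h3)
    have hp3 : p = 3 := ((Nat.prime_dvd_prime_iff_eq Nat.prime_three hp).1
      ((CharP.cast_eq_zero_iff K 3 p).1 hchar)).symm
    exact hp3 ▸ hF.coprime
  · exact regular2_large hF h3K

/-- The missing hypothesis of the reduction to groups without blocks. -/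
theorem noBlockPairs {p : ℕ} (hp : p.Prime) (hp2 : p ≠ 2) :
    Cfsg.Agent.H42.Base2.Lin.NoBlockPairs.{v} p := by
  intro V _ _ H _ hpV hpH hirr hnb
  haveI : Finite (AddMonoid.End V)ˣ :=
    Finite.of_injective (fun f : (AddMonoid.End V)ˣ => ((f : AddMonoid.End V) : V → V))
      fun a b h => Units.ext (DFunLike.coe_injective h)
  exact regular2_of_no_block hp hp2 hpV hpH hirr hnb

end Cfsg.Agent.H81.BaseTwo
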